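import Mathlib
import Cfsg.Agent.Lib.Mon.NX
import Cfsg.Agent.Lib.Leech.Pack

/-!
A concrete standard hyperbolic basis: `b i = 4 e_i - 4 e_11` (`i < 11`), `b 11 = 8 e_11`, `c i` lies over
the basis codeword with information part `2^i` (`i < 11`), `c 11 = (1^23, -3)`.
-/

set_option autoImplicit false

namespace CfsgLib.Mon

open Cfsg CfsgLib.Leech CfsgLib.MType Matrix Finset

/-- codes of the vectors under `Z_0, …, Z_11` -/
def bN : List ℕ := [0x842108421084210642108421084214, 0x842108421084210642108421084290,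
  0x842108421084210642108421085210, 0x8421084210842106421084210a4210,
  0x842108421084210642108421484210, 0x842108421084210642108429084210,
  0x842108421084210642108521084210, 0x84210842108421064210a421084210,
  0x842108421084210642148421084210, 0x842108421084210642908421084210,
  0x842108421084210652108421084210, 0x842108421084210c42108421084210]

/-- codes of the vectors under `X_0, …, X_11` -/
def cN : List ℕ := [0x94a1084a5284a1284210842108420a, 0x84a109421294a52842108421084250,
  0x94a1284a1094252842108421082a10, 0x84a5094a5084252842108421094210,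
  0x942129425284252842108420a84210, 0x9425284a5084a50a42108425084290,
  0x94a5094a1094a10a421084a1484210, 0x8421294a5094a12842109421084210,
  0x8425294a1294250a4212842108420c, 0x84a529425284a10a42508421083210,
  0x942528421294a12a4a1084210a4210, 0x6c6318c6318c6318c6318c6318c631]

/-- the vectors under the `Z_i` -/
noncomputable def b0 (i : Fin 12) : leechLattice := toL (bN.getD i 0)

/-- the vectors under the `X_i` -/
noncomputable def c0 (i : Fin 12) : leechLattice := toL (cN.getD i 0)

theorem chk_bN : ∀ i : Fin 12, chkN (bN.getD i 0) = true := by decide +kernel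

theorem chk_cN : ∀ i : Fin 12, chkN (cN.getD i 0) = true := by decide +kernel

theorem rep_b0 (i : Fin 12) : Rep (bN.getD i 0) (b0 i).1 := rep_toL (chk_bN i)

theorem rep_c0 (i : Fin 12) : Rep (cN.getD i 0) (c0 i).1 := rep_toL (chk_cN i)

theorem isHyp0 : IsHyp b0 c0 where
  bc i j := by rw [ipL, (rep_b0 i).dot (rep_c0 j)]; revert i j; decide +kernel
  bb i j := by rw [ipL, (rep_b0 i).dot (rep_b0 j)]; revert i j; decide +kernel
  cc i j := by rw [ipL, (rep_c0 i).dot (rep_c0 j)]; revert i j; decide +kernel
  qb i := by rw [qL, (rep_b0 i).sqNorm_eq]; revert i; decide +kernel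
  qc i := by rw [qL, (rep_c0 i).sqNorm_eq]; revert i; decide +kernel

/-- the standard coordinates -/
noncomputable def k0 : Coord := Coord.ofBasis isHyp0

theorem k0_φ (v : leechLattice) : k0.φ v = (fun i => ipL v (b0 i), fun i => ipL v (c0 i)) := rfl

theorem b0_four : ∀ (i : Fin 12) (j : GolayPt), (b0 i).1 j % 4 = 0 := by
  intro i; rw [← (rep_b0 i).2]; revert i; decide +kernel

theorem std_k0 : Std k0 := fun v hv => funext fun i => by
  show ipL v (b0 i) = 0
  rw [ipL_eq_zero, dotInt, sum_emod_congr _ _ (fun _ => 0) 16 fun j _ => ?_]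
  · simp
  · obtain ⟨a, ha⟩ := Int.dvd_of_emod_eq_zero (hv j)
    obtain ⟨b, hb⟩ := Int.dvd_of_emod_eq_zero (b0_four i j)
    rw [ha, hb, show 4 * a * (4 * b) = 16 * (a * b) by ring]; simp

theorem c0_last : c0 11 = lamL none := Subtype.ext ((rep_c0 11).2.symm.trans (by decide +kernel))

theorem b0_last : b0 11 = e8 (some 11) := Subtype.ext ((rep_b0 11).2.symm.trans (by decide +kernel))

theorem w0_k0 : w0 k0 = eZ 11 := by rw [← φ_e8 (some 11), ← b0_last]; exact isHyp0.map_b 11

theorem lam_k0_none : lam k0 none = eX 11 := by rw [lam, ← c0_last]; exact isHyp0.map_c 11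

theorem a0_k0 : a0 k0 = Pi.single 11 1 := by rw [a0, lam_k0_none]; rfl

theorem φ_b0 (i : Fin 12) : k0.φ (b0 i) = eZ i := isHyp0.map_b i

theorem φ_c0 (i : Fin 12) : k0.φ (c0 i) = eX i := isHyp0.map_c i

theorem act_k0_X (g : Co0) (i : Fin 12) : k0.act g (eX i) = k0.φ (g • c0 i) := by
  rw [← φ_c0, k0.act_φ]

theorem act_k0_Z (g : Co0) (i : Fin 12) : k0.act g (eZ i) = k0.φ (g • b0 i) := by
  rw [← φ_b0, k0.act_φ]

/-- coordinates of a vector given by its code -/
theorem k0_φ_of_rep {N : ℕ} {v : leechLattice} (h : Rep N v.1) :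
    k0.φ v = (fun i : Fin 12 => ((dotN N (bN.getD i 0) / 8 : ℤ) : ZMod 2),
      fun i : Fin 12 => ((dotN N (cN.getD i 0) / 8 : ℤ) : ZMod 2)) := by
  rw [k0_φ]
  simp only [ipL, h.dot (rep_b0 _), h.dot (rep_c0 _)]

end CfsgLib.Mon
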