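import Mathlib
import Cfsg.Agent.Lib.Mon.L2
import Cfsg.Agent.Lib.MOrb.Oct
import Cfsg.Agent.Lib.OrthE.Mat
import Cfsg.Agent.S5615

/-!
The sublattice supported on an octad, its image `Ub` modulo 2 and the orthogonal complement `Fb`.
-/

set_option autoImplicit false

namespace CfsgLib.Mon

open Cfsg CfsgLib.Leech CfsgLib.MType CfsgLib.OrthE Finset
open CfsgLib.Golay (ofMask ix pt)
open scoped Pointwise

variable {κ : Coord}

/-- the standard octad -/
def d0 : Finset GolayPt := ofMask 8536111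

theorem d0_oct : d0 ∈ octads := (Golay.ofMask_mem_octads (by norm_num)).2 (by decide +kernel)

theorem hd0 : IsCW d0 := d0_oct.1

/-- a vector supported on the octad -/
def dv (l : List ℤ) : GolayPt → ℤ := fun i =>
  l.getD ([1, 2, 3, 4, 8, 5, 8, 8, 8, 8, 8, 8, 8, 8, 6, 8, 8, 7, 8, 8, 8, 8, 8, 0].getD (ix i) 8) 0

/-- coordinates for `Ub` -/
abbrev V8 : Type := Fin 4 ⊕ Fin 4 → ZMod 2

/-- a hyperbolic basis -/
def b8 : Fin 4 ⊕ Fin 4 → GolayPt → ℤ := Sum.elim
  ![dv [8], dv [-4, 4, 4, -4], dv [-4, 4, 0, 0, 4, 0, -4], dv [-4, 0, 4, 0, 4, 0, 0, -4]]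
  ![dv [-6, 2, 2, 2, 2, 2, 2, 2], dv [-4, 4, 4, 0, 0, -4], dv [-4, 4, 0, 0, 0, 0, 4, -4],
    dv [-4, 0, 0, 4, 0, 4, -4]]

/-- the basis in the lattice -/
def bL (j : Fin 4 ⊕ Fin 4) : leechLattice := ⟨b8 j, mem_of_chk (by revert j; decide +kernel)⟩

/-- linear combinations of the basis -/
def v8 (s : V8) : GolayPt → ℤ := fun i => ∑ j, ((s j).val : ℤ) * b8 j i

/-- table of short representatives -/
def tab8 : ℕ := 0x8a48a08a48a45128a45128a04945244945209225209225249144949144904a24904a249452491052491489291489291075b75b65b75b75bae975baed6dd7696dd76d6ddadb6d9adbb5d6d9b5d6dd6eb6dd6cb6ddadb6eb2db6ebadbb59adbb5d5224a45224a08944a48944a09129209129244a49204a49244928904928949248909248948a25148a251051451451451076b6e976b6edadd6e9add6ed6ed6db6cd6dbb5b6db35b6db6dbadd6db2dd6db76b6db66baeb759aeb75d75d75975d75d8925248925205245205245244a28a44a28a09148a09148a49229109229144949144949105124905124948a44948a4490adb769adb76dadbadb2dbadb6ebae96ebaed6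eb75b6cb75b6dd6eb6d96eb6ddb596ddb5d75b6dd65b6ddaed6d9aed6dd5149205149248a29208a29249244a09244a44924a04924a44a45144a4510912514912510894894894890522894522890aeb6db2eb6db75d6db65d6db6dbb5b6db35b6db6ed6db6cd6ed7596ed75db5b759b5b75daddad9addadd76bad976badd4a29144a29109149109149148924908924945244945244905125245125208a45208a45249228a09228a44948a44948a06ebb596ebb5d6eb6eb6cb6ebadb6dd2db6dd76d6d976d6dd75b76975b76d75badb65badb6dd75b6d975b6ddae96ddaed9245109245144925104925145148945148908a28948a28908949208949245229205229244a44a44a44a09124a49124a06dbaeb6db2eb6db75d6db65d75dad975daddaebad9aebadd76b6db66b6dbadd6db2dd6db6ed6e96ed6edb5b6e9b5b6ed4944904944949224949224908a49108a49145129145129105248a05248a48928a48928a09145209145244a25244a25206dd6dd6d96ddb6b6d9b6b6dd75b6eb65b6eb75bb5975bb5dadb75b2db75badbae9adbaed6ebadb6cbadb6eb7696eb76d9128949128904a48944a48905225145225108945148945108a24a48a24a05144a45144a0492924492920924924924920b5bad9b5badd6edad96edadd76b75976b75dadd759add75daeb6e9aeb6ed75d6e975d6ed6dbb696dbb6d6db6df6db6db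

/-- short representative -/
def r8 (n : ℕ) : GolayPt → ℤ :=
  dv ((List.range 8).map fun i => 2 * ((tab8 >>> (24 * n + 3 * i) % 8 : ℕ) : ℤ) - 6)

/-- test for congruence modulo twice the lattice -/
def cgB (x y : GolayPt → ℤ) : Bool :=
  chk (fun i => (x i - y i) / 2) && (List.range 24).all fun n => (x (pt n) - y (pt n)) % 2 == 0

theorem exists_of_cgB {v : leechLattice} {y : GolayPt → ℤ} (h : cgB v.1 y = true) :
    ∃ w : leechLattice, w.1 = y ∧ κ.φ w = κ.φ v := by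
  simp only [cgB, Bool.and_eq_true, List.all_eq_true, List.mem_range, beq_iff_eq] at h
  refine ⟨v - (2 : ℤ) • ⟨_, mem_of_chk h.1⟩, funext fun i => ?_, κ.φ_eq_iff.2 ⟨-⟨_, mem_of_chk h.1⟩, by simp⟩⟩
  have := Golay.forall_pt (P := fun i => (v.1 i - y i) % 2 = 0) h.2 i
  simp only [AddSubgroup.coe_sub, AddSubgroup.coe_zsmul, Pi.sub_apply, Pi.smul_apply, smul_eq_mul]
  omega

theorem tab8_ok : ∀ a b c d e f g h : ZMod 2,
    (fun (s : V8) (n : ℕ) => cgB (v8 s) (r8 n) = true ∧ sqNorm (r8 n) =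
      if a * e + b * f + c * g + d * h = 1 then 32 else if n = 0 then 0 else 64)
    (Sum.elim ![a, b, c, d] ![e, f, g, h]) (a.val + 2 * b.val + 4 * c.val + 8 * d.val + 16 * e.val +
      32 * f.val + 64 * g.val + 128 * h.val) := by decide +kernel

/-- the coordinate map -/
noncomputable def U8 (κ : Coord) : V8 →+ V24 :=
  AddMonoidHom.mk' (fun s => ∑ j, s j • κ.φ (bL j)) fun a b => by simp [add_smul, sum_add_distrib]

theorem U8_single (j : Fin 4 ⊕ Fin 4) : U8 κ (Pi.single j 1) = κ.φ (bL j) := by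
  simp [U8, Pi.single_apply, -Fintype.sum_sum_type]

theorem z2_smul_eq (a : ZMod 2) (v : V24) : a • v = a.val • v := by
  conv_lhs => rw [← ZMod.natCast_zmod_val a, Nat.cast_smul_eq_nsmul]

theorem U8_eq (s : V8) : U8 κ s = κ.φ (∑ j, (s j).val • bL j) := by
  simp [U8, z2_smul_eq]

theorem coe_sum_bL (s : V8) : ((∑ j, (s j).val • bL j : leechLattice) : GolayPt → ℤ) = v8 s := by
  funext i; simp [v8, bL, -ZMod.natCast_val, -Fintype.sum_sum_type]

theorem exists_rep (s : V8) : ∃ w : leechLattice, κ.φ w = U8 κ s ∧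
    sqNorm w.1 = if qPlus (ZMod 2) 4 s = 1 then 32 else if s = 0 then 0 else 64 := by
  have e : s = Sum.elim ![s (.inl 0), s (.inl 1), s (.inl 2), s (.inl 3)]
      ![s (.inr 0), s (.inr 1), s (.inr 2), s (.inr 3)] := by
    funext j; rcases j with j | j <;> fin_cases j <;> rfl
  have := tab8_ok (s (.inl 0)) (s (.inl 1)) (s (.inl 2)) (s (.inl 3)) (s (.inr 0)) (s (.inr 1))
    (s (.inr 2)) (s (.inr 3))
  rw [← e] at this
  obtain ⟨w, h1, h2⟩ := exists_of_cgB (κ := κ) (coe_sum_bL s ▸ this.1)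
  refine ⟨w, h2.trans (U8_eq s).symm, ?_⟩
  rw [h1, this.2, qPlus_apply, Fin.sum_univ_four]
  refine if_congr Iff.rfl rfl (if_congr ⟨fun h => ?_, by rintro rfl; rfl⟩ rfl rfl)
  rw [e]
  simp only [Nat.add_eq_zero_iff, mul_eq_zero, ZMod.val_eq_zero, OfNat.ofNat_ne_zero, false_or] at h
  obtain ⟨⟨⟨⟨⟨⟨⟨h1, h2⟩, h3⟩, h4⟩, h5⟩, h6⟩, h7⟩, h8⟩ := h
  rw [h1, h2, h3, h4, h5, h6, h7, h8]
  decide

theorem U8_injective : Function.Injective (U8 κ) := (injective_iff_map_eq_zero _).2 fun s hs => by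
  obtain ⟨w, h1, h2⟩ := exists_rep (κ := κ) s
  by_contra h
  rw [if_neg h] at h2
  exact φ_ne_zero (κ := κ) (u := w) (by split_ifs at h2 <;> omega) (by split_ifs at h2 <;> omega) (h1.trans hs)

/-- the vectors supported on the octad -/
def Ld : AddSubgroup leechLattice where
  carrier := {v | ∀ i, i ∉ d0 → v.1 i = 0}
  zero_mem' := fun _ _ => rfl
  add_mem' := fun ha hb i hi => by simp [ha i hi, hb i hi]
  neg_mem' := fun ha i hi => by simp [ha i hi]

/-- the image of `Ld` modulo 2 -/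
def Ub (κ : Coord) : AddSubgroup V24 := Ld.map κ.φ

/-- the orthogonal complement of `Ub` -/
def Fb (κ : Coord) : AddSubgroup V24 := perp (Ub κ)

theorem perp_Fb : perp (Fb κ) = Ub κ := perp_perp _

theorem φ_mem_Ub {v : leechLattice} (h : v ∈ Ld) : κ.φ v ∈ Ub κ := ⟨v, h, rfl⟩

theorem bL_mem (j : Fin 4 ⊕ Fin 4) : bL j ∈ Ld := by
  show ∀ i, i ∉ d0 → b8 j i = 0
  revert j; decide +kernel

theorem U8_mem (s : V8) : U8 κ s ∈ Ub κ :=
  U8_eq (κ := κ) s ▸ φ_mem_Ub (sum_mem fun j _ => nsmul_mem (bL_mem j) _)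

theorem none_mem_d0 : none ∈ d0 := by decide +kernel

theorem e8_mem_Ld {i : GolayPt} (h : i ∈ d0) : e8 i ∈ Ld := fun j hj => by
  rw [coe_e8, Pi.single_eq_of_ne (by rintro rfl; exact hj h)]

theorem dlL_mem_Ld {i j : GolayPt} (hi : i ∈ d0) (hj : j ∈ d0) : dlL i j ∈ Ld := fun l hl => by
  rw [dlL_apply, if_neg (by rintro rfl; exact hl hi), if_neg (by rintro rfl; exact hl hj), sub_zero]

theorem tw_mem_Ld : tw d0 ∈ Ld := fun i hi => by rw [tw_apply hd0, if_neg hi]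

theorem w0_mem_Ub : w0 κ ∈ Ub κ := φ_mem_Ub (e8_mem_Ld none_mem_d0)

theorem xv_d0 : xv κ d0 = κ.φ (tw d0) := by
  rw [xv, d0_oct.2, show 8 / 4 = 2 from rfl, two_nsmul, ww_add_self, add_zero]

theorem xv_mem_Ub : xv κ d0 ∈ Ub κ := xv_d0 (κ := κ) ▸ φ_mem_Ub tw_mem_Ld

theorem φ_sub (a b : leechLattice) : κ.φ (a - b) = κ.φ a + κ.φ b := by
  rw [sub_eq_add_neg, map_add, κ.φ_neg]

theorem φ_bL_inl : κ.φ (bL (.inl 0)) = w0 κ := congrArg κ.φ (Subtype.ext (by decide +kernel))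

theorem φ_bL_inr : κ.φ (bL (.inr 0)) = xv κ d0 + w0 κ := by
  rw [xv_d0, w0, ← φ_sub]
  refine congrArg κ.φ (Subtype.ext ?_)
  rw [AddSubgroup.coe_sub, coe_tw hd0]
  decide +kernel

theorem eq_or_of_subset {c : Finset GolayPt} (hc : IsCW c) (h : c ⊆ d0) : c = ∅ ∨ c = d0 := by
  rcases (card_le_card h).lt_or_eq with e | e
  exacts [Or.inl (hc.eq_empty (d0_oct.2 ▸ e)), Or.inr (eq_of_subset_of_card_le h e.ge)]

theorem Ld_le {K : AddSubgroup leechLattice} (h1 : tw d0 ∈ K) (h2 : e8 none ∈ K)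
    (h3 : ∀ i ∈ d0, dlL i none ∈ K) : Ld ≤ K := by
  have key : ∀ v ∈ Ld, (∀ i, v.1 i % 4 = 0) → v ∈ K := fun v hv h4 => by
    have hs := sum_mod_of_even v.2 fun i => by have := h4 i; omega
    have : v = ∑ i, (v.1 i / 4) • dlL i none + ((∑ i, v.1 i) / 8) • e8 none := by
      refine Subtype.ext (funext fun j => ?_)
      have hsum : ∑ i, v.1 i = 4 * ∑ i, v.1 i / 4 := by
        rw [mul_sum]; exact sum_congr rfl fun i _ => by have := h4 i; omega
      simp only [AddSubgroup.coe_add, AddSubgroup.val_finset_sum, AddSubgroup.coe_zsmul, Pi.add_apply,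
        Finset.sum_apply, Pi.smul_apply, dlL_apply, coe_e8, Pi.single_apply, smul_eq_mul, mul_sub,
        sum_sub_distrib, mul_ite, mul_zero, sum_ite_eq, mem_univ, if_true]
      have := h4 j
      split_ifs with h
      · rw [← sum_mul]; omega
      · simp; omega
    rw [this]
    refine add_mem (sum_mem fun i _ => ?_) (zsmul_mem h2 _)
    by_cases hi : i ∈ d0
    exacts [zsmul_mem (h3 i hi) _, by simp [hv i hi]]
  intro v hv
  have he : IsEvenVec v.1 := isEvenVec_of_even v.2 (i := some 4) (by rw [hv _ (by decide +kernel)]; rfl)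
  rcases eq_or_of_subset (isCW_cw v.2) (fun i hi => by
    by_contra h; rw [mem_cw, hv i h] at hi; omega) with e | e
  · exact key v hv fun i => by
      have := he i; have : ¬ 2 ≤ v.1 i % 4 := by rw [← mem_cw, e]; simp
      omega
  · simpa using add_mem (key (v - tw d0) (sub_mem hv tw_mem_Ld) fun i => by
      have := he i
      have a := mem_cw (x := v.1) (i := i)
      rw [e] at a
      simp only [AddSubgroup.coe_sub, Pi.sub_apply, tw_apply hd0, a]
      split_ifs <;> omega) h1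

theorem exists_U8 {u : V24} (hu : u ∈ Ub κ) : ∃ s, U8 κ s = u := by
  obtain ⟨v, hv, rfl⟩ := hu
  refine Ld_le (K := (U8 κ).range.comap κ.φ) ⟨Pi.single (.inr 0) 1 + Pi.single (.inl 0) 1, ?_⟩
    ⟨_, (U8_single _).trans φ_bL_inl⟩ (fun i hi => ?_) hv
  · rw [map_add, U8_single, U8_single, φ_bL_inl, φ_bL_inr, add_assoc, ww_add_self, add_zero, xv_d0]
  · have : ∀ i ∈ d0, ∃ b c d f g h : ZMod 2,
        cgB (v8 (Sum.elim ![0, b, c, d] ![0, f, g, h])) (dlL i none).1 = true := by decide +kernel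
    obtain ⟨b, c, d, f, g, h, e⟩ := this i hi
    obtain ⟨w, h1, h2⟩ := exists_of_cgB (κ := κ) (coe_sum_bL _ ▸ e)
    exact ⟨_, by rw [U8_eq, ← h2, Subtype.ext h1]⟩

theorem card_Ub : Nat.card (Ub κ) = 2 ^ 8 := by
  have : (U8 κ).range = Ub κ := le_antisymm (by rintro _ ⟨s, rfl⟩; exact U8_mem s) fun _ => exists_U8
  rw [← this, ← Nat.card_congr (AddMonoidHom.ofInjective U8_injective).toEquiv]
  simp

theorem Std.bet_Ub (h : Std κ) {u v : V24} (hu : u ∈ Ub κ) (hv : v ∈ Ub κ) : bet u v = 0 := by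
  have h4 : ∀ j, j ≠ .inr 0 → (κ.φ (bL j)).1 = 0 := fun j hj => h _ (by revert j; decide +kernel)
  have key : ∀ i j, bet (κ.φ (bL i)) (κ.φ (bL j)) = 0 := fun i j => by
    by_cases hj : j = .inr 0
    · by_cases hi : i = .inr 0
      · subst hi hj
        exact (κ.quad _).trans (qL_eq_zero.2 (by decide +kernel))
      · have := (κ.om_φ (bL i) (bL j)).trans (ipL_eq_zero.2 (by revert i j; decide +kernel))
        rwa [om, bet, bet, h4 i hi, dotProduct_zero, add_zero] at this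
    · rw [bet, h4 j hj, dotProduct_zero]
  obtain ⟨s, rfl⟩ := exists_U8 hu
  obtain ⟨t, rfl⟩ := exists_U8 hv
  simp only [U8, AddMonoidHom.mk'_apply, bet, Prod.fst_sum, Prod.snd_sum, Prod.smul_fst, Prod.smul_snd,
    sum_dotProduct, dotProduct_sum, smul_dotProduct, dotProduct_smul] at key ⊢
  simp [key]

theorem Std.Ub_le (h : Std κ) : Ub κ ≤ Fb κ := fun u hu v hv => by
  rw [om, h.bet_Ub hu hv, h.bet_Ub hv hu, add_zero]

theorem Std.isE_bL (h : Std κ) {j : Fin 4 ⊕ Fin 4} (h1 : j ≠ .inl 0) (h2 : j ≠ .inr 0) :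
    IsE (qh κ 0 (κ.φ (bL j))) := by
  have h4 : (κ.φ (bL j)).1 = 0 := h _ (by revert j; decide +kernel)
  refine isE_qh.2 ⟨rfl, h4, ?_⟩
  rw [h.snd_dot_a0 h4 none, lam, κ.om_φ, ipL_eq_zero]
  clear h4; revert j; decide +kernel

/-! ### monomial elements -/

theorem perm_dlL (σ : M24) (i j : GolayPt) : permAut σ • dlL i j = dlL (σ • i) (σ • j) :=
  Subtype.ext (funext fun l => by simp only [permAut_smul_apply, dlL_apply, inv_smul_eq_iff])

theorem fix_duads {S c : Finset GolayPt} {hc : IsCW c} {σ : M24} (h3 : 3 ≤ S.card)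
    (h : ∀ i ∈ S, ∀ j ∈ S, κ.act (sgnAut c hc * permAut σ) (κ.φ (dlL i j)) = κ.φ (dlL i j)) :
    (∀ x ∈ S, σ • x = x) ∧ (Disjoint c S ∨ S ⊆ c) := by
  have key : ∀ i ∈ S, ∀ j ∈ S, i ≠ j → ∃ e : ℤ, e ≠ 0 ∧ ∀ l, (if l ∈ c then -(dlL (σ • i) (σ • j)).1 l else
      (dlL (σ • i) (σ • j)).1 l) = e * (dlL i j).1 l := fun i hi j hj hij => by
    rcases (act_φ_eq_iff (by rw [sqNorm_dlL hij]; norm_num)).1 (h i hi j hj) with e | e <;>
      rw [mul_smul, perm_dlL] at e
    · exact ⟨1, one_ne_zero, fun l => by rw [← sgnAut_smul_apply c hc, e, one_mul]⟩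
    · exact ⟨-1, by norm_num, fun l => by rw [← sgnAut_smul_apply c hc, e]; simp⟩
  have k2 : ∀ i ∈ S, ∀ j ∈ S, i ≠ j → σ • i = i ∨ σ • i = j := fun i hi j hj hij => by
    obtain ⟨e, -, he⟩ := key i hi j hj hij
    have := he (σ • i)
    by_contra hn
    push Not at hn
    simp [dlL_apply, hn.1, hn.2, hij] at this
    split_ifs at this <;> omega
  have k3 : ∀ x ∈ S, σ • x = x := fun x hx => by
    obtain ⟨j, hj, k, hk, hjk⟩ := one_lt_card.1 (show 1 < (S.erase x).card by rw [card_erase_of_mem hx]; omega)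
    rw [mem_erase] at hj hk
    rcases k2 x hx j hj.2 hj.1.symm with a | a
    exacts [a, (k2 x hx k hk.2 hk.1.symm).resolve_right fun b => hjk (a.symm.trans b)]
  refine ⟨k3, ?_⟩
  by_contra hn
  simp only [not_or, not_disjoint_iff, not_subset] at hn
  obtain ⟨⟨i, h1, h2⟩, j, h4, h5⟩ := hn
  have hij : i ≠ j := by rintro rfl; exact h5 h1
  obtain ⟨e, -, he⟩ := key i h2 j h4 hij
  have a := he i
  have b := he j
  simp [dlL_apply, k3 i h2, k3 j h4, h1, h5, hij, hij.symm] at a b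
  omega

/-- the sign change on the octad -/
noncomputable def tO : Co0 := sgnAut d0 hd0

theorem act_add_mem_perp {A : AddSubgroup V24} {g : Co0} (h : ∀ u ∈ A, κ.act g u = u) (v : V24) :
    κ.act g v + v ∈ perp A := fun u hu => by
  rw [om_add_left, ← h u hu, κ.om_act, h u hu, z2_add_self]

theorem act_tO {v : V24} (hv : v ∈ Fb κ) : κ.act tO v = v := by
  rw [← add_left_inj v, ww_add_self]
  refine eq_zero_of_om fun w => ?_
  obtain ⟨w, rfl⟩ := κ.surj w
  rw [om_add_right, ← κ.om_act tO, ← κ.act_mul, tO, sgnAut_mul_self, κ.act_one, ← om_add_left, κ.act_φ,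
    ← φ_sub, om_comm]
  exact hv _ (φ_mem_Ub fun i hi => by simp [sgnAut_smul_apply, hi])

theorem φ_mem_Fb {v : leechLattice} (h : ∀ i ∈ d0, v.1 i = 0) : κ.φ v ∈ Fb κ := by
  rintro _ ⟨w, hw, rfl⟩
  rw [κ.om_φ, ipL_eq_zero, dotInt, sum_eq_zero fun i _ => ?_]
  · rfl
  · by_cases hi : i ∈ d0
    exacts [by rw [h i hi, zero_mul], by rw [hw i hi, mul_zero]]

theorem Std.eq_of_fix_Fb (h : Std κ) {g : Co0} (hg : ∀ v ∈ Fb κ, κ.act g v = v) :
    (g = 1 ∨ g = negAut) ∨ (g * tO = 1 ∨ g * tO = negAut) := by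
  obtain ⟨c, hc, σ, rfl⟩ := act_w0_iff.1 (hg _ (h.Ub_le w0_mem_Ub))
  obtain ⟨a1, a2⟩ := fix_duads (S := d0) (by rw [d0_oct.2]; norm_num) fun i hi j hj =>
    hg _ (h.Ub_le (φ_mem_Ub (dlL_mem_Ld hi hj)))
  obtain ⟨b1, b2⟩ := fix_duads (S := d0ᶜ) (by rw [card_compl, d0_oct.2]; decide) fun i hi j hj =>
    hg _ (φ_mem_Fb fun l hl => by
      rw [dlL_apply, if_neg (by rintro rfl; exact mem_compl.1 hi hl),
        if_neg (by rintro rfl; exact mem_compl.1 hj hl), sub_zero])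
  obtain rfl : σ = 1 := Subtype.ext (Equiv.ext fun x => by
    by_cases hx : x ∈ d0
    exacts [a1 x hx, b1 x (mem_compl.2 hx)])
  simp only [permAut_one, mul_one, tO, sgnAut_mul, negAut]
  rw [← sgnAut_empty]
  have e : ∀ {a b ha hb}, a = b → sgnAut a ha = sgnAut b hb := by rintro _ _ _ _ rfl; rfl
  rcases a2 with a | a <;> rcases b2 with b | b
  · exact Or.inl (Or.inl (e (by
      ext x; have := @disjoint_left.1 a x; have := @disjoint_left.1 b x; simp at *; tauto)))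
  · refine Or.inr (Or.inr (e ?_))
    ext x; have := @disjoint_left.1 a x; have := @b x; simp [mem_symmDiff] at *; tauto
  · refine Or.inr (Or.inl (e ?_))
    ext x; have := @disjoint_left.1 b x; have := @a x; simp [mem_symmDiff] at *; tauto
  · exact Or.inl (Or.inr (e (by ext x; have := @a x; have := @b x; simp at *; tauto)))

theorem Std.exists_kk_Fb (h : Std κ) {v : V24} (hv : v ∈ Fb κ) :
    ∃ e, IsCW e ∧ (Disjoint e d0 ∨ d0 ⊆ e) ∧ v.1 = kk κ e := by
  obtain ⟨u, rfl⟩ := κ.surj v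
  have he := om_w0_eq_zero.1 (hv _ w0_mem_Ub)
  refine ⟨_, isCW_cw u.2, ?_, h.fst_of_even he⟩
  have : ∀ i ∈ d0, (i ∈ cw u.1 ↔ none ∈ cw u.1) := fun i hi => by
    have := hv _ (φ_mem_Ub (dlL_mem_Ld hi none_mem_d0))
    simp only [κ.om_φ, ipL_eq_zero, dlL, dotInt_sub_right, dotInt_single_right] at this
    have := he i; have := he none
    simp only [mem_cw]; omega
  by_cases hn : none ∈ cw u.1
  exacts [Or.inr fun i hi => (this i hi).2 hn, Or.inl (disjoint_right.2 fun i hi a => hn ((this i hi).1 a))]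

theorem fix_Ub_iff {g : Co0} : (∀ u ∈ Ub κ, κ.act g u = u) ↔ ∃ (c : Finset GolayPt) (hc : IsCW c) (σ : M24),
    g = sgnAut c hc * permAut σ ∧ (∀ x ∈ d0, σ • x = x) ∧ (Disjoint c d0 ∨ d0 ⊆ c) := by
  constructor
  · intro hg
    obtain ⟨c, hc, σ, rfl⟩ := act_w0_iff.1 (hg _ w0_mem_Ub)
    exact ⟨c, hc, σ, rfl, fix_duads (by rw [d0_oct.2]; norm_num) fun i hi j hj =>
      hg _ (φ_mem_Ub (dlL_mem_Ld hi hj))⟩
  · rintro ⟨c, hc, σ, rfl, h1, h2⟩ _ ⟨v, hv, rfl⟩
    have : permAut σ • v = v := Subtype.ext (funext fun i => by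
      rw [permAut_smul_apply]
      by_cases hi : i ∈ d0
      · rw [inv_smul_eq_iff.2 (h1 i hi).symm]
      · rw [hv i hi, hv _ fun a => hi (by simpa [← h1 _ a] using (smul_inv_smul σ i) ▸ (h1 _ a).symm ▸ a)])
    rw [κ.act_φ, mul_smul, this, κ.φ_eq_iff]
    refine cong_of_pm (h2.imp (fun a => ?_) fun a => ?_) <;> refine Subtype.ext (funext fun i => ?_) <;>
      by_cases hi : i ∈ d0
    exacts [by simp [sgnAut_smul_apply, disjoint_right.1 a hi], by simp [sgnAut_smul_apply, hv i hi],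
      by simp [sgnAut_smul_apply, a hi], by simp [sgnAut_smul_apply, hv i hi]]

/-- counting monomial elements -/
theorem card_mono {H : Subgroup Co0} (p : Finset GolayPt → Prop) (K : Subgroup M24)
    (h : ∀ g, g ∈ H ↔ ∃ (c : Finset GolayPt) (hc : IsCW c) (σ : M24),
      g = sgnAut c hc * permAut σ ∧ σ ∈ K ∧ p c) :
    Nat.card H = {c | IsCW c ∧ p c}.ncard * Nat.card K := by
  rw [← Nat.card_coe_set_eq, ← Nat.card_prod]
  refine (Nat.card_eq_of_bijective (fun x => ⟨sgnAut x.1 x.1.2.1 * permAut x.2,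
    (h _).2 ⟨_, _, _, rfl, x.2.2, x.1.2.2⟩⟩) ⟨fun x y e => ?_, fun g => ?_⟩).symm
  · have := mono_inj (congrArg Subtype.val e)
    exact Prod.ext (Subtype.ext this.1) (Subtype.ext this.2)
  · obtain ⟨c, hc, σ, e, h1, h2⟩ := (h _).1 g.2
    exact ⟨(⟨c, hc, h2⟩, ⟨σ, h1⟩), Subtype.ext e.symm⟩

theorem card_CA_Ub : Nat.card (CA κ (Ub κ)) = 2 ^ 26 := by
  have := card_CA (κ := κ) (Ub κ)
  rw [card_Ub, card_mono (fun c => Disjoint c d0 ∨ d0 ⊆ c) (fixingSubgroup M24 (d0 : Set GolayPt))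
    fun g => by simp only [mem_img_CA, fix_Ub_iff, mem_fixingSubgroup_iff, mem_coe],
    MOrb.card_fix_oct d0_oct, Golay.ncard_code (fun m => Nat.beq (Nat.land m 8536111) 0 ||
      Nat.beq (Nat.land 8536111 m) 8536111) (fun _ h => h.1) fun k hk => ?_] at this
  · exact Nat.eq_of_mul_eq_mul_right (by norm_num) (this.trans (by decide +kernel))
  · simp only [Set.mem_ofPred_eq, isCW_ofMask hk, true_and, d0, Bool.or_eq_true, Nat.beq_eq,
      Golay.ofMask_disjoint_iff (Golay.lt_of_isCode hk), Golay.ofMask_subset_iff (show 8536111 < 2 ^ 24 by norm_num)]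
    rfl

/-! ### the action of the centralizer of `Ub` on `Fb / Ub` -/

/-- codewords containing or missing the octad -/
def Cd (e : Finset GolayPt) : Prop := IsCW e ∧ (Disjoint e d0 ∨ d0 ⊆ e)

theorem cd_iff {e : Finset GolayPt} : Cd e ↔ IsCW e ∧ ∀ i ∈ d0, (i ∈ e ↔ none ∈ e) := by
  refine and_congr_right fun _ => ⟨?_, fun this => ?_⟩
  · rintro (a | a) i hi
    exacts [iff_of_false (disjoint_right.1 a hi) (disjoint_right.1 a none_mem_d0),
      iff_of_true (a hi) (a none_mem_d0)]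
  · by_cases hn : none ∈ e
    exacts [Or.inr fun i hi => (this i hi).2 hn, Or.inl (disjoint_right.2 fun i hi a => hn ((this i hi).1 a))]

theorem Cd.sd {a b : Finset GolayPt} (ha : Cd a) (hb : Cd b) : Cd (symmDiff a b) := by
  rw [cd_iff] at *
  exact ⟨ha.1.symmDiff hb.1, fun i hi => by simp only [mem_symmDiff, ha.2 i hi, hb.2 i hi]⟩

theorem Cd.card {a : Finset GolayPt} (ha : Cd a) : a.card % 8 = 0 := by
  have h1 := ha.1.card_eq
  have h2 := (ha.1.symmDiff hd0).card_eq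
  have h3 := Golay.card_symmDiff_add a d0
  rcases ha.2 with h | h
  · rw [disjoint_iff_inter_eq_empty.1 h, d0_oct.2, card_empty] at h3; omega
  · rw [inter_eq_right.2 h, d0_oct.2] at h3; omega

theorem Cd.half {a b : Finset GolayPt} (ha : Cd a) (hb : Cd b) : (((a ∩ b).card / 2 : ℕ) : ZMod 2) = 0 := by
  have h1 := ha.card
  have h2 := hb.card
  have h3 := (ha.sd hb).card
  have h4 := Golay.card_symmDiff_add a b
  exact (ZMod.natCast_eq_zero_iff _ _).2 (by omega)

theorem Cd.triple {a b c : Finset GolayPt} (ha : Cd a) (hb : Cd b) (hc : Cd c) :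
    (((a ∩ b ∩ c).card : ℕ) : ZMod 2) = 0 := by
  simpa [ha.half hb, ha.half hc, ha.half (hb.sd hc)] using (half_inter_symmDiff ha.1 hb.1 hc.1).symm

theorem cd_d0 : Cd d0 := ⟨hd0, Or.inr le_rfl⟩

theorem cd_compl : Cd d0ᶜ := ⟨hd0.compl, Or.inl disjoint_compl_left⟩

theorem trio_mem {a b : Finset GolayPt} (ha : a ∈ octads) (hb : b ∈ octads) (h : Disjoint a b) :
    ({a, b, (a ∪ b)ᶜ} : Finset (Finset GolayPt)) ∈ trios := by
  have hc := Golay.compl_union_mem_octads ha hb h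
  have h1 : Disjoint a (a ∪ b)ᶜ := disjoint_compl_right.mono_left subset_union_left
  have h2 : Disjoint b (a ∪ b)ᶜ := disjoint_compl_right.mono_left subset_union_right
  have ne : ∀ {x y : Finset GolayPt}, x ∈ octads → Disjoint x y → x ≠ y := by
    rintro x _ hx e rfl
    have := hx.2
    rw [(disjoint_self_iff_empty x).1 e] at this
    simp at this
  refine ⟨card_eq_three.2 ⟨_, _, _, ne ha h, ne ha h1, ne hb h2, rfl⟩, by simp [ha, hb, hc, -compl_union], ?_⟩
  simp [h, h.symm, h1, h1.symm, h2, h2.symm, -compl_union]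

theorem smul_trio {o : Finset GolayPt} (ho : o ∈ octads) {σ : M24} (h : ∀ x ∈ o, σ • x = x)
    {T : Finset (Finset GolayPt)} (hT : T ∈ trios) (hm : o ∈ T) : σ • T = T :=
  ((Cfsg.Agent.S5615.result o ho).2.2 σ σ.2 (MOrb.smul_eq_of_forall h)).2 h T hT hm

theorem Cd.smul_eq {e : Finset GolayPt} (he : Cd e) {σ : M24} (h : ∀ x ∈ d0, σ • x = x) :
    σ • e = e ∨ σ • e = symmDiff e d0ᶜ := by
  have h0 := MOrb.smul_eq_of_forall h
  have hc : ∀ s : Finset GolayPt, σ • sᶜ = (σ • s)ᶜ := fun s => by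
    ext x; simp [← Finset.inv_smul_mem_iff]
  have key : ∀ e, IsCW e → Disjoint e d0 → σ • e = e ∨ σ • e = symmDiff e d0ᶜ := fun e h1 h2 => by
    have h3 := Cd.card ⟨h1, Or.inl h2⟩
    have h4 : e ⊆ d0ᶜ := subset_compl_iff_disjoint_right.2 h2
    have h5 : d0ᶜ.card = 16 := by rw [card_compl, d0_oct.2]; rfl
    have h6 := card_le_card h4
    obtain a | a | a : e.card = 0 ∨ e.card = 8 ∨ e.card = 16 := by omega
    · left; rw [card_eq_zero.1 a, smul_finset_empty]
    · have := smul_trio d0_oct h (trio_mem d0_oct ⟨h1, a⟩ h2.symm) (by simp)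
      have b : σ • e ∈ ({d0, e, (d0 ∪ e)ᶜ} : Finset (Finset GolayPt)) :=
        this ▸ smul_mem_smul_finset (by simp)
      simp only [mem_insert, mem_singleton] at b
      rcases b with b | b | b
      · obtain rfl := MulAction.injective σ (b.trans h0.symm)
        exact Or.inl h0
      · exact Or.inl b
      · right; rw [b]; ext x; have := @h4 x; simp [mem_symmDiff] at *; tauto
    · left; rw [eq_of_subset_of_card_le h4 (by omega), hc, h0]
  rcases he.2 with a | a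
  · exact key e he.1 a
  · refine (key eᶜ he.1.compl (disjoint_compl_left.mono_right a)).imp (fun b => ?_) fun b => ?_ <;>
      rw [hc] at b
    · exact compl_injective b
    · rw [← compl_compl (σ • e), b]; ext x; simp [mem_symmDiff]; tauto

theorem Cd.xv_add {e : Finset GolayPt} (he : Cd e) : xv κ (symmDiff e d0ᶜ) + xv κ e ∈ Ub κ := by
  have h1 : IsCW (e \ d0) := by
    rcases he.2 with a | a
    · rw [sdiff_eq_self_of_disjoint a]; exact he.1
    · exact IsCW.congr (he.1.symmDiff hd0) fun i => by have := @a i; simp [mem_symmDiff]; tauto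
  have h2 := (he.sd cd_compl).1
  have : κ.φ (tw (symmDiff e d0ᶜ)) + κ.φ (tw e) = w0 κ + κ.φ (tw d0) := by
    rw [← φ_tw_univ, ← φ_sub, ← φ_sub, κ.φ_eq_iff]
    refine ⟨-tw (e \ d0), Subtype.ext (funext fun i => ?_)⟩
    simp only [AddSubgroup.coe_sub, AddSubgroup.coe_zsmul, AddSubgroup.coe_neg, Pi.sub_apply, Pi.smul_apply,
      Pi.neg_apply, tw_apply h1, tw_apply h2, tw_apply he.1, tw_apply hd0, tw_apply isCW_univ,
      mem_symmDiff, mem_compl, mem_sdiff, mem_univ]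
    by_cases a : i ∈ e <;> by_cases b : i ∈ d0 <;> simp [a, b]
  rw [xv, xv, add_add_add_comm, this]
  exact add_mem (add_mem w0_mem_Ub (φ_mem_Ub tw_mem_Ld))
    (add_mem (nsmul_mem w0_mem_Ub _) (nsmul_mem w0_mem_Ub _))

theorem Std.act_sgn_xv (h : Std κ) {c e e' : Finset GolayPt} (hc : IsCW c) (he : IsCW e) (he' : IsCW e')
    {v : V24} (hv : v.1 = kk κ e') : (κ.act (sgnAut c hc) (xv κ e) + xv κ e).1 = 0 ∧
      om v (κ.act (sgnAut c hc) (xv κ e) + xv κ e) = ((c ∩ e ∩ e').card : ℕ) := by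
  have h1 : κ.act (sgnAut c hc) (xv κ e) + xv κ e = κ.act (sgnAut c hc) (κ.φ (tw e)) + κ.φ (tw e) := by
    rw [xv, map_add, map_nsmul, act_w0_iff.2 (sgnAut_mem_monoGrp c hc), add_add_add_comm, ww_add_self,
      add_zero]
  have h2 : (κ.act (sgnAut c hc) (κ.φ (tw e)) + κ.φ (tw e)).1 = 0 := by
    rw [Prod.fst_add, h.act_sgn_tw hc he, kk, w_add_self]
  have h3 := h.bet_sgn_tw hc he he'
  rw [bet, h.act_sgn_tw hc he', bet] at h3
  rw [h1, om, bet, h2, dotProduct_zero, zero_add, bet, hv, Prod.snd_add, add_dotProduct, h3, kk]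
  exact ⟨rfl, by linear_combination z2_add_self ((κ.φ (tw e)).2 ⬝ᵥ (κ.φ (tw e')).1)⟩

theorem Std.act_add_mem_Ub (h : Std κ) {g : Co0} (hg : ∀ u ∈ Ub κ, κ.act g u = u) {v : V24}
    (hv : v ∈ Fb κ) : κ.act g v + v ∈ Ub κ := by
  obtain ⟨e, h1, h2, h3⟩ := h.exists_kk_Fb hv
  have key : ∀ g : Co0, (∀ u ∈ Ub κ, κ.act g u = u) → ∀ e', Cd e' →
      om v (κ.act g (xv κ e') + xv κ e') = 0 ∧ ∃ r ∈ Ub κ, (∀ e, Cd e → om r (xv κ e) = 0) ∧
        (κ.act g (xv κ e') + xv κ e' + r).1 = 0 := fun g hg e' he' => by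
    obtain ⟨c, hc, σ, rfl, k1, k2⟩ := fix_Ub_iff.1 hg
    rw [κ.act_mul, act_perm_xv σ he'.1]
    rcases he'.smul_eq k1 with a | a <;> rw [a]
    · have := h.act_sgn_xv hc he'.1 h1 h3
      exact ⟨this.2.trans (Cd.triple ⟨hc, k2⟩ he' ⟨h1, h2⟩), 0, zero_mem _, by simp, by simpa using this.1⟩
    · have b := he'.sd cd_compl
      have := h.act_sgn_xv hc b.1 h1 h3
      have e1 : κ.act (sgnAut c hc) (xv κ (symmDiff e' d0ᶜ)) + xv κ e' =
          κ.act (sgnAut c hc) (xv κ (symmDiff e' d0ᶜ)) + xv κ (symmDiff e' d0ᶜ) +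
            (xv κ (symmDiff e' d0ᶜ) + xv κ e') := by
        rw [add_assoc, ← add_assoc (xv κ _), ww_add_self, zero_add]
      rw [e1]
      refine ⟨by rw [om_add_right, this.2, Cd.triple ⟨hc, k2⟩ b ⟨h1, h2⟩, hv _ he'.xv_add, add_zero],
        xv κ d0, xv_mem_Ub, fun f hf => by rw [om_xv_xv hd0 hf.1, cd_d0.half hf], ?_⟩
      have e2 : kk κ d0ᶜ = kk κ d0 := by
        rw [← zero_add (kk κ d0), ← h.kk_univ, ← h.kk_symmDiff isCW_univ hd0]
        exact congrArg _ (by ext x; simp [mem_symmDiff])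
      simp only [Prod.fst_add, h.xv_fst] at this ⊢
      rw [this.1, h.kk_symmDiff he'.1 hd0.compl, e2, zero_add, add_right_comm (kk κ e'), w_add_self,
        zero_add, w_add_self]
  obtain ⟨-, r, r1, r2, r3⟩ := key g hg e ⟨h1, h2⟩
  have h4 : (κ.act g v + v + r).1 = 0 := by
    have a : (v + xv κ e).1 = 0 := by rw [Prod.fst_add, h3, h.xv_fst, w_add_self]
    have b := h.act_fst (act_w0_iff.1 (hg _ w0_mem_Ub)) a
    rw [map_add] at b
    simp only [Prod.fst_add] at a b r3 ⊢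
    linear_combination (exp := 1) a + b + r3 - w_add_self (κ.act g (xv κ e)).1 - w_add_self (xv κ e).1
  rw [← add_mem_cancel_right r1, ← perp_Fb]
  intro w hw
  obtain ⟨e', k1, k2, k3⟩ := h.exists_kk_Fb hw
  have a : om (κ.act g v + v + r) w = om (κ.act g v + v + r) (xv κ e') := by
    simp only [om, bet, h4, k3, h.xv_fst, dotProduct_zero]
  have b := (key g⁻¹ (fun u hu => by rw [← hg u hu, κ.act_inv_act, hg u hu]) e' ⟨k1, k2⟩).1
  rw [a, om_add_left, r2 _ ⟨k1, k2⟩, add_zero, om_add_left, ← κ.act_act_inv g (xv κ e'), κ.om_act,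
    κ.act_act_inv, ← om_add_right, b]

/-! ### elements preserving `Ub` -/

theorem xi_mem_Ld {v : leechLattice} (hv : v ∈ Ld) : xi • v ∈ Ld := fun i hi => by
  have : ∀ i, i ∉ d0 → p1 i ∉ d0 ∧ p2 i ∉ d0 ∧ p3 i ∉ d0 := by decide +kernel
  obtain ⟨a, b, c⟩ := this i hi
  have := two_mul_xi_smul v i
  rw [hv _ a, hv _ b, hv _ c, hv _ hi] at this
  omega

theorem perm_mem_Ld {σ : M24} (h : σ • d0 = d0) {v : leechLattice} (hv : v ∈ Ld) : permAut σ • v ∈ Ld :=
  fun i hi => by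
    rw [permAut_smul_apply, hv _ fun a => hi (h ▸ Finset.inv_smul_mem_iff.1 a)]

theorem act_mem_Ub {g : Co0} (h : ∀ v ∈ Ld, g • v ∈ Ld) {u : V24} (hu : u ∈ Ub κ) : κ.act g u ∈ Ub κ := by
  obtain ⟨v, hv, rfl⟩ := hu
  exact κ.act_φ g v ▸ φ_mem_Ub (h v hv)

/-- two images of the standard frame whose sum is short -/
theorem exists_short_sum : ∃ g1 g2 : Co0, (∀ v ∈ Ld, g1 • v ∈ Ld) ∧ (∀ v ∈ Ld, g2 • v ∈ Ld) ∧
    sqNorm (g1 • e8 none - g2 • e8 none).1 = 32 := by
  obtain ⟨σ, h1, h2, h3, h4, h5⟩ := exists_M24_five (a := none) (b := some 0) (c := some 1) (d := some 2)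
    (e := some 3) (a' := none) (b' := some 0) (c' := some 1) (d' := some 3) (e' := some 2) (by decide) (by decide)
  have hσ : σ • d0 = d0 := Golay.octad_eq_of_five_le ((MOrb.smul_mem_octads_iff σ).2 d0_oct) d0_oct (by
    refine le_trans (by decide) (card_le_card (s := {none, some 0, some 1, some 3, some 2}) ?_)
    refine subset_inter ?_ (by decide +kernel)
    simp only [insert_subset_iff, singleton_subset_iff]
    refine ⟨h1 ▸ ?_, h2 ▸ ?_, h3 ▸ ?_, h4 ▸ ?_, h5 ▸ ?_⟩ <;> exact smul_mem_smul_finset (by decide +kernel))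
  refine ⟨xi, permAut σ * xi, fun _ => xi_mem_Ld, fun v hv => mul_smul (permAut σ) xi v ▸
    perm_mem_Ld hσ (xi_mem_Ld hv), ?_⟩
  have e : xi • e8 none = dlL (some 0) none + dlL (some 1) none + dlL (some 2) none + e8 none :=
    Subtype.ext (by decide +kernel)
  simp only [mul_smul, e, smul_add, perm_dlL, permAut_smul_e8, h1, h2, h3, h4]
  decide +kernel

end CfsgLib.Mon
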