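import Mathlib
import Cfsg.Agent.Lib.OrbCov.Glue
import Cfsg.Agent.Lib.OrbCov.DatB
import Cfsg.Agent.Lib.OrbCov.DatM1
import Cfsg.Agent.Lib.OrbCov.DatM2
import Cfsg.Agent.Lib.OrbCov.DatM3
import Cfsg.Agent.Lib.Mon.DceT1

/-!
# The orbit covers for the two double coset tables
-/

set_option autoImplicit false
set_option Elab.async false

namespace CfsgLib.Mon.Dce

open CfsgLib.DCX CfsgLib.OrbCov CfsgLib.OrbCov.Dat

theorem matchB1 : rowMatch elT2.get row2_1 RsB1 AsB1 WsB1 lsB1 5 = true := by decide +kernel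

theorem matchB2 : rowMatch elT2.get row2_2 RsB2 AsB2 WsB2 lsB2 4 = true := by decide +kernel

theorem matchB3 : rowMatch elT2.get row2_3 RsB3 AsB3 WsB3 lsB3 6 = true := by decide +kernel

theorem matchB4 : rowMatch elT2.get row2_4 RsB4 AsB4 WsB4 lsB4 9 = true := by decide +kernel

theorem matchB5 : rowMatch elT2.get row2_5 RsB5 AsB5 WsB5 lsB5 12 = true := by decide +kernel

theorem matchB6 : rowMatch elT2.get row2_6 RsB6 AsB6 WsB6 lsB6 6 = true := by decide +kernel

theorem matchB7 : rowMatch elT2.get row2_7 RsB7 AsB7 WsB7 lsB7 3 = true := by decide +kernel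

theorem matchB8 : rowMatch elT2.get row2_8 RsB8 AsB8 WsB8 lsB8 8 = true := by decide +kernel

theorem matchB9 : rowMatch elT2.get row2_9 RsB9 AsB9 WsB9 lsB9 5 = true := by decide +kernel

theorem matchM0 : rowMatch elT1.get row1_0 RsM0 AsM0 WsM0 lsM0 3 = true := by decide +kernel

theorem matchM1 : rowMatch elT1.get row1_1 RsM1 AsM1 WsM1 lsM1 5 = true := by decide +kernel

theorem matchM2 : rowMatch elT1.get row1_2 RsM2 AsM2 WsM2 lsM2 9 = true := by decide +kernel

theorem matchM3 : rowMatch elT1.get row1_3 RsM3 AsM3 WsM3 lsM3 16 = true := by decide +kernel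

theorem matchM4 : rowMatch elT1.get row1_4 RsM4 AsM4 WsM4 lsM4 14 = true := by decide +kernel

theorem matchM5 : rowMatch elT1.get row1_5 RsM5 AsM5 WsM5 lsM5 10 = true := by decide +kernel

theorem matchM6 : rowMatch elT1.get row1_6 RsM6 AsM6 WsM6 lsM6 37 = true := by decide +kernel

theorem matchM7 : rowMatch elT1.get row1_7 RsM7 AsM7 WsM7 lsM7 23 = true := by decide +kernel

theorem matchM8 : rowMatch elT1.get row1_8 RsM8 AsM8 WsM8 lsM8 38 = true := by decide +kernel

theorem matchM9 : rowMatch elT1.get row1_9 RsM9 AsM9 WsM9 lsM9 23 = true := by decide +kernel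

theorem matchM10 : rowMatch elT1.get row1_10 RsM10 AsM10 WsM10 lsM10 65 = true := by decide +kernel

theorem matchM11 : rowMatch elT1.get row1_11 RsM11 AsM11 WsM11 lsM11 8 = true := by decide +kernel

variable {den : ℕ → C k0} {ok : ℕ → Prop}

theorem cov2 (h : RowSpec den ok) : ∀ i < 10, i ≠ 0 →
    (∀ p ∈ (row2 i).st, ok (elT2.get p.2) ∧ den (elT2.get p.2) ∈ CK) →
    (∀ e ∈ (row2 i).es, ok (elT2.get e.c) ∧ den (elT2.get e.c) ∈ CK) →
    (row2 i).OCov elT2.get (denR CK den) (w0 k0) := by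
  intro i hi h0 h1 h2
  interval_cases i
  · exact absurd rfl h0
  · exact (h.res CK).ocov h1 h2 ncard_orbit_CK matchB1 okB1
  · exact (h.res CK).ocov h1 h2 ncard_orbit_CK matchB2 okB2
  · exact (h.res CK).ocov h1 h2 ncard_orbit_CK matchB3 okB3
  · exact (h.res CK).ocov h1 h2 ncard_orbit_CK matchB4 okB4
  · exact (h.res CK).ocov h1 h2 ncard_orbit_CK matchB5 okB5
  · exact (h.res CK).ocov h1 h2 ncard_orbit_CK matchB6 okB6
  · exact (h.res CK).ocov h1 h2 ncard_orbit_CK matchB7 okB7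
  · exact (h.res CK).ocov h1 h2 ncard_orbit_CK matchB8 okB8
  · exact (h.res CK).ocov h1 h2 ncard_orbit_CK matchB9 okB9

theorem cov1 (h : RowSpec den ok) : ∀ i < 12, (∀ p ∈ (row1 i).st, ok (elT1.get p.2)) →
    (∀ e ∈ (row1 i).es, ok (elT1.get e.c)) → (row1 i).OCov elT1.get den (w0 k0) := by
  intro i hi h1 h2
  interval_cases i
  · exact h.ocov h1 h2 ncard_orbit_C matchM0 okM0
  · exact h.ocov h1 h2 ncard_orbit_C matchM1 okM1
  · exact h.ocov h1 h2 ncard_orbit_C matchM2 okM2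
  · exact h.ocov h1 h2 ncard_orbit_C matchM3 okM3
  · exact h.ocov h1 h2 ncard_orbit_C matchM4 okM4
  · exact h.ocov h1 h2 ncard_orbit_C matchM5 okM5
  · exact h.ocov h1 h2 ncard_orbit_C matchM6 okM6
  · exact h.ocov h1 h2 ncard_orbit_C matchM7 okM7
  · exact h.ocov h1 h2 ncard_orbit_C matchM8 okM8
  · exact h.ocov h1 h2 ncard_orbit_C matchM9 okM9
  · exact h.ocov h1 h2 ncard_orbit_C matchM10 okM10
  · exact h.ocov h1 h2 ncard_orbit_C matchM11 okM11

end CfsgLib.Mon.Dce
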