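import Mathlib
import Cfsg.Agent.Lib.Mon.TauQ

/-!
A checker for `(τ c)³ v = v` on basis vectors `v`.
-/

set_option autoImplicit false
set_option maxRecDepth 100000

namespace CfsgLib.Mon

open Cfsg CfsgLib.Leech CfsgLib.MType CfsgLib.Golay Matrix Finset
open CfsgLib.Comput (force force_eq)

/-- lists of terms `(p - n) • Bk k` -/
inductive TL : Type
  | nil : TL
  | cons (k p n : ℕ) (t : TL) : TL

/-- the basis vector with a given key -/
noncomputable def Bk (k : ℕ) : VV :=
  if k < 16777216 then Xw (vb k) else if k < 33554432 then An (ep (pt (k / 32 % 32))) (ep (pt (k % 32)))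
  else Tn (ep (pt (k / 4096 % 32))) (eb (wb k))

/-- the vector given by a list of terms -/
noncomputable def den : TL → VV
  | .nil => 0
  | .cons k p n t => ((p : ℚ) - n) • Bk k + den t

/-! ### sorting and collecting -/

/-- merging of sorted lists -/
noncomputable def merge (l₁ l₂ : TL) : TL :=
  TL.rec (motive := fun _ => TL → TL) (fun l₂ => l₂) (fun k p n t ih l₂ =>
    TL.rec (motive := fun _ => TL) (.cons k p n t) (fun k' p' n' t' ih' => Bool.rec (.cons k' p' n' ih')
      (Bool.rec (.cons k p n (ih (.cons k' p' n' t'))) (.cons k (Nat.add p p') (Nat.add n n') (ih t')) (Nat.beq k k'))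
      (Nat.ble k k')) l₂) l₁ l₂

theorem den_merge (l₁ l₂ : TL) : den (merge l₁ l₂) = den l₁ + den l₂ := by
  induction l₁ generalizing l₂ with
  | nil => exact (zero_add _).symm
  | cons k p n t ih =>
    induction l₂ with
    | nil => exact (add_zero _).symm
    | cons k' p' n' t' ih' =>
      show den (Bool.rec (.cons k' p' n' (merge (.cons k p n t) t')) (Bool.rec (.cons k p n (merge t (.cons k' p' n' t')))
        (.cons k (p + p') (n + n') (merge t t')) (Nat.beq k k')) (Nat.ble k k')) = _
      cases Nat.ble k k'
      · simp only [den] at ih' ⊢; rw [ih']; abel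
      · cases h : Nat.beq k k'
        · simp only [den, ih]; abel
        · simp only [den, ih, ← Nat.eq_of_beq_eq_true h]; push_cast; module

/-- one pass of merge sort -/
noncomputable def pass (l : List TL) : List TL :=
  List.rec (motive := fun _ => Option TL → List TL) (fun o => Option.rec [] (fun a => [a]) o)
    (fun a _ ih o => Option.rec (ih (some a)) (fun b => merge b a :: ih none) o) l none

theorem den_pass (l : List TL) : ((pass l).map den).sum = (l.map den).sum := by
  have : ∀ o : Option TL, ((List.rec (motive := fun _ => Option TL → List TL) (fun o => Option.rec [] (fun a => [a]) o)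
      (fun a _ ih o => Option.rec (ih (some a)) (fun b => merge b a :: ih none) o) l o).map den).sum =
      Option.rec 0 den o + (l.map den).sum := by
    induction l with
    | nil => rintro (_ | a) <;> simp
    | cons a l ih => rintro (_ | b) <;> simp [ih, den_merge, add_assoc]
  exact (this none).trans (zero_add _)

/-- merge sort, adding up terms with equal keys -/
noncomputable def msort (l : TL) : TL :=
  List.rec .nil (fun a _ ih => merge a ih) (Nat.rec (motive := fun _ => List TL)
    (TL.rec [] (fun k p n _ ih => TL.cons k p n .nil :: ih) l) (fun _ ih => pass ih) 14)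

theorem den_msort (l : TL) : den (msort l) = den l := by
  have h1 : ∀ L : List TL, den (List.rec .nil (fun a _ ih => merge a ih) L) = (L.map den).sum := fun L => by
    induction L with
    | nil => rfl
    | cons a L ih => exact (den_merge _ _).trans (by rw [ih]; rfl)
  have h2 : ∀ (L : List TL) (n : ℕ), ((Nat.rec (motive := fun _ => List TL) L (fun _ ih => pass ih) n).map den).sum =
      (L.map den).sum := fun L n => by
    induction n with
    | zero => rfl
    | succ n ih => exact (den_pass _).trans ih
  rw [msort, h1, h2]
  induction l with
  | nil => rfl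
  | cons k p n t ih => simp only [List.map_cons, List.sum_cons, ih, den, add_zero]

/-- evaluation of a list, dropping zero terms -/
noncomputable def frc (l acc : TL) (K : TL → Bool) : Bool :=
  TL.rec (motive := fun _ => TL → Bool) K (fun k p n _ ih acc => force p fun p => force n fun n =>
    Bool.rec (force (Nat.sub p n) fun p' => force (Nat.sub n p) fun n' => ih (.cons k p' n' acc)) (ih acc)
      (Nat.beq p n)) l acc

theorem frc_sound {l acc : TL} {K : TL → Bool} (h : frc l acc K = true) :
    ∃ l', den l' = den l + den acc ∧ K l' = true := by
  induction l generalizing acc with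
  | nil => exact ⟨acc, (zero_add _).symm, h⟩
  | cons k p n t ih =>
    simp only [frc, force_eq] at h ih
    cases e : Nat.beq p n <;> rw [e] at h <;> obtain ⟨l', h1, h2⟩ := ih h <;> refine ⟨l', h1.trans ?_, h2⟩
    · have : ((Nat.sub p n : ℕ) : ℚ) - (Nat.sub n p : ℕ) = p - n := by
        rcases le_total p n with a | a <;> simp [Nat.sub_eq_zero_of_le a, Nat.cast_sub a]
      rw [den, den, this]; abel
    · rw [den, Nat.eq_of_beq_eq_true e, sub_self, zero_smul, zero_add]

/-- one linear map applied to a list -/
noncomputable def stage (ok : ℕ → Bool) (f : ℕ → ℕ → ℕ → TL → TL) (l : TL) (K : TL → Bool) : Bool :=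
  and (TL.rec true (fun k _ _ _ ih => and (ok k) ih) l) (frc (msort (TL.rec .nil (fun k p n _ ih => f k p n ih) l)) .nil K)

theorem stage_sound {ok : ℕ → Bool} {f : ℕ → ℕ → ℕ → TL → TL} (T : VV →ₗ[ℚ] VV)
    (hT : ∀ k p n t, ok k = true → den (f k p n t) = ((p : ℚ) - n) • T (Bk k) + den t) {l : TL} {K : TL → Bool}
    (h : stage ok f l K = true) : ∃ l', den l' = T (den l) ∧ K l' = true := by
  rw [stage, Bool.and_eq_true] at h
  obtain ⟨l', h1, h2⟩ := frc_sound h.2
  refine ⟨l', ?_, h2⟩
  rw [h1, den_msort, den, add_zero]
  have h3 := h.1
  clear h h1
  induction l with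
  | nil => exact (map_zero T).symm
  | cons k p n t ih =>
    have h4 := Bool.and_eq_true_iff.1 h3
    exact (hT _ _ _ _ h4.1).trans (by rw [ih h4.2, den, map_add, map_smul])

/-! ### producing terms -/

/-- a term with a sign -/
noncomputable def emit (k : ℕ) (s : Bool) (p n : ℕ) (t : TL) : TL :=
  force k fun k => Bool.rec (.cons k p n t) (.cons k n p t) s

theorem den_emit (k : ℕ) (s : Bool) (p n : ℕ) (t : TL) :
    den (emit k s p n t) = ((p : ℚ) - n) • sg s.toNat • Bk k + den t := by
  rw [emit, force_eq]
  cases s
  · simp [den]
  · simp only [den, Bool.toNat_true, Nat.cast_one, sg_one]; module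

/-- a term in the second summand -/
noncomputable def emX (w p n : ℕ) (t : TL) : TL := emit (Nat.land w 16777215) (tb w 24) p n t

theorem den_emX (w p n : ℕ) (t : TL) : den (emX w p n t) = ((p : ℚ) - n) • sg (sb w) • Xw (vb w) + den t := by
  have : Nat.land w 16777215 < 16777216 := lt_of_le_of_lt Nat.and_le_right (by norm_num)
  rw [emX, den_emit, Bk, if_pos this, tb_eq, ← vb_land w]; rfl

/-- a term in the first summand -/
noncomputable def emA (i j : ℕ) (s : Bool) (p n : ℕ) (t : TL) : TL :=
  emit (Nat.add 16777216 (Bool.rec (Nat.add (Nat.mul 32 j) i) (Nat.add (Nat.mul 32 i) j) (Nat.ble i j))) s p n t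

theorem Bk_A {i j : ℕ} (hi : i < 32) (hj : j < 32) : Bk (16777216 + (32 * i + j)) = An (ep (pt i)) (ep (pt j)) := by
  rw [Bk, if_neg (by omega), if_pos (by omega), show (16777216 + (32 * i + j)) / 32 % 32 = i by omega,
    show (16777216 + (32 * i + j)) % 32 = j by omega]

theorem den_emA {i j : ℕ} (hi : i < 32) (hj : j < 32) (s : Bool) (p n : ℕ) (t : TL) :
    den (emA i j s p n t) = ((p : ℚ) - n) • sg s.toNat • An (ep (pt i)) (ep (pt j)) + den t := by
  rw [emA, den_emit]
  cases Nat.ble i j
  · exact An_comm (ep (pt j)) _ ▸ Bk_A hj hi ▸ rfl
  · exact Bk_A hi hj ▸ rfl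

/-- a term in the third summand -/
noncomputable def emT (i w p n : ℕ) (t : TL) : TL :=
  emit (Nat.add 33554432 (Nat.add (Nat.mul 4096 i) (Nat.land w 4095))) (tb w 24) p n t

theorem Bk_T {i k : ℕ} (hi : i < 32) (hk : k < 4096) : Bk (33554432 + (4096 * i + k)) = Tn (ep (pt i)) (eb (wb k)) := by
  rw [Bk, if_neg (by omega), if_neg (by omega), show (33554432 + (4096 * i + k)) / 4096 % 32 = i by omega,
    ← wb_mod, show (33554432 + (4096 * i + k)) % 4096 = k by omega]

theorem den_emT {i : ℕ} (hi : i < 32) (w p n : ℕ) (t : TL) :
    den (emT i w p n t) = ((p : ℚ) - n) • sg (sb w) • Tn (ep (pt i)) (eb (wb w)) + den t := by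
  have : w &&& 4095 < 4096 := lt_of_le_of_lt Nat.and_le_right (by norm_num)
  rw [emT, den_emit, tb_eq, ← wb_land w, ← Bk_T hi this]; rfl

/-- a loop over a list -/
noncomputable def loop (l : List ℕ) (F : ℕ → TL → TL) (t : TL) : TL := List.rec t (fun a _ ih => F a ih) l

theorem den_loop {l : List ℕ} {F : ℕ → TL → TL} (c : ℚ) (G : ℕ → VV)
    (h : ∀ a ∈ l, ∀ t, den (F a t) = c • G a + den t) (t : TL) : den (loop l F t) = c • (l.map G).sum + den t := by
  induction l with
  | nil => simp [loop]
  | cons a l ih =>
    show den (F a (loop l F t)) = _
    rw [h a (by simp), ih fun b hb => h b (by simp [hb]), List.map_cons, List.sum_cons, smul_add, add_assoc]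

/-- adding a sign to a code -/
def addS (w s : ℕ) : ℕ := Nat.xor w (Nat.shiftLeft (Nat.land s 1) 24)

theorem vb_addS (w s : ℕ) : vb (addS w s) = vb w := by
  show vb (w ^^^ _ <<< 24) = _
  rw [vb_xor, vb_shift, add_zero]

theorem wb_addS (w s : ℕ) : wb (addS w s) = wb w := congrArg Prod.fst (vb_addS w s)

theorem sb_addS (w s : ℕ) : sb (addS w s) = sb w + s := by
  show sb (w ^^^ (s &&& 1) <<< 24) = _
  rw [sb_xor, sb_shift]

/-! ### the element `c` -/

/-- the columns of the matrix of `c`: position, and sign in bit `5` -/
def tetL (i : ℕ) : List ℕ := [[0, 33, 2, 55], [32, 1, 2, 55], [32, 33, 34, 55], [3, 37, 46, 17], [4, 13, 48, 54],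
  [35, 5, 46, 17], [6, 39, 19, 53], [38, 7, 19, 53], [8, 43, 44, 18], [9, 42, 15, 52], [41, 10, 15, 52],
  [40, 11, 44, 18], [40, 43, 12, 18], [36, 45, 48, 54], [35, 37, 14, 17], [41, 42, 47, 52], [36, 13, 16, 54],
  [35, 37, 46, 49], [40, 43, 44, 50], [38, 39, 51, 53], [41, 42, 15, 20], [38, 39, 19, 21],
  [36, 13, 48, 22]].getD i [32, 33, 2, 23]

theorem gm_gT {i : ℕ} (h : i < 32) : gm gT *ᵥ ep (pt i) =
    (1 / 2 : ℚ) • ((tetL i).map fun a => sg (a / 32 : ℕ) • ep (pt (a % 32))).sum := funext fun j => by
  rw [ep, mulVec_single_one, col_apply, gm_apply, coe_gT_smul, coe_e8]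
  revert i j; decide +kernel

/-- the first column of `c` -/
def uL : List ℕ := [2051, 2068, 2107, 2244, 2259, 2300, 3603, 3627, 3644, 3796, 3820, 3835, 16779308, 16779499,
  16780804, 16780995]

theorem uT_eq : uT = (1 / 4 : ℚ) • (uL.map fun n => sg (sb n) • eb (wb n)).sum := funext fun j => by
  have h1 : ∀ n, eb (wb n) j = if n % 4096 = nb j then 1 else 0 := fun n => by
    rw [eb, Pi.single_apply]
    refine if_congr ⟨fun e => ?_, fun e => by rw [← wb_mod, e, wb_nb]⟩ rfl rfl
    rw [e, ← wb_mod, nb_wb (Nat.mod_lt _ (by norm_num))]
  have h2 : ∀ m, (uZ m : ℚ) / 4 = 1 / 4 * (uL.map fun n => sg (sb n) * if n % 4096 = m then 1 else 0).sum := fun m => by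
    by_cases a : m ∈ posT ++ negT
    · revert m; decide +kernel
    · rw [uZ_of_notMem a, List.sum_eq_zero]
      · simp
      · simp only [List.mem_map]
        rintro _ ⟨n, hn, rfl⟩
        rw [if_neg fun e => a (by rw [← e]; clear e; revert n; decide), mul_zero]
  rw [uT, h2, Pi.smul_apply, smul_eq_mul, Pi.list_sum_apply, List.map_map]
  simp only [Function.comp_def, Pi.smul_apply, smul_eq_mul, h1]

theorem An_list (l : List ℕ) (f : ℕ → GolayPt → ℚ) (b : GolayPt → ℚ) :
    An (l.map f).sum b = (l.map fun a => An (f a) b).sum := by
  induction l with
  | nil => simpa using An_smul_left 0 0 b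
  | cons a l ih => simp [An_add_left, ih]

theorem Tn_list (l : List ℕ) (f : ℕ → GolayPt → ℚ) (b : W12 → ℚ) :
    Tn (l.map f).sum b = (l.map fun a => Tn (f a) b).sum := by
  induction l with
  | nil => simpa using Tn_smul_left 0 0 b
  | cons a l ih => simp [Tn_add_left, ih]

theorem Tn_list' (l : List ℕ) (f : ℕ → W12 → ℚ) (b : GolayPt → ℚ) :
    Tn b (l.map f).sum = (l.map fun a => Tn b (f a)).sum := by
  induction l with
  | nil => simpa using Tn_smul_right 0 b 0
  | cons a l ih => simp [Tn_add_right, ih]

theorem cH_eb {k : ℕ} (hk : k < 4096) : cH.S *ᵥ eb (wb k) = (1 / 4 : ℚ) • (uL.map fun n =>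
    sg (sb (qmul (apQ (imX ++ imZ) k) n)) • eb (wb (qmul (apQ (imX ++ imZ) k) n))).sum := by
  have h1 := cH.S_mulVec_P (vb k) (eb 0)
  have h2 := sm_cT.cact k
  have h3 := sm_cT.cε k
  rw [cT, cact_mk] at h2
  rw [cT, cε_mk, sb, Nat.testBit_lt_two_pow (by omega), Bool.toNat_false, Nat.cast_zero, zero_add] at h3
  rw [P_eb, dotProduct_zero, sg_zero, one_smul, zero_add, ← Chat.col_eq_eb, cH_col, h2, h3, uT_eq, mulVec_smul,
    smul_comm] at h1
  refine h1.trans (congrArg _ ?_)
  generalize apQ (imX ++ imZ) k = m
  induction uL with
  | nil => simp
  | cons a l ih =>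
    rw [List.map_cons, List.map_cons, List.sum_cons, List.sum_cons, mulVec_add, smul_add, ih, mulVec_smul, P_eb,
      sb_qmul, smul_smul, smul_smul, ← sg_add, ← sg_add, add_comm (wb a)]
    congr 3
    exact (congrArg Prod.fst (vb_qmul m a)).symm

/-- eight times the action of `c` -/
noncomputable def fC (k p n : ℕ) (t : TL) : TL :=
  Bool.rec (Bool.rec
    (force (apQ (imX ++ imZ) (Nat.land k 4095)) fun m => loop (tetL (Nat.land (Nat.shiftRight k 12) 31)) (fun a =>
      force (addS m (Nat.shiftRight a 5)) fun m => loop uL fun b => emT (Nat.land a 31) (qmul m b) p n) t)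
    (loop (tetL (Nat.land (Nat.shiftRight k 5) 31)) (fun a => loop (tetL (Nat.land k 31)) fun b =>
      emA (Nat.land a 31) (Nat.land b 31) (tb (Nat.xor a b) 5) (Nat.mul 2 p) (Nat.mul 2 n)) t)
    (Nat.blt k 33554432)) (force (apQ (imX ++ imZ) k) fun m => emX m (Nat.mul 8 p) (Nat.mul 8 n) t) (Nat.blt k 16777216)

theorem land31 (a : ℕ) : Nat.land a 31 = a % 32 := Nat.and_two_pow_sub_one_eq_mod a 5

theorem shr_eq (a n : ℕ) : Nat.shiftRight a n = a / 2 ^ n := Nat.shiftRight_eq_div_pow a n

theorem sg_tb (a n : ℕ) : sg (a.testBit n).toNat = sg (a / 2 ^ n : ℕ) := by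
  rw [Nat.toNat_testBit]; exact sg_nat_congr (Nat.mod_mod _ _)

theorem den_fC (k p n : ℕ) (t : TL) :
    den (fC k p n t) = ((p : ℚ) - n) • ((8 : ℚ) • rho k0 cT) (Bk k) + den t := by
  have h32 : ∀ a : ℕ, a % 32 < 32 := fun a => Nat.mod_lt _ (by norm_num)
  rw [fC, Bk, LinearMap.smul_apply]
  simp only [force_eq, land31, shr_eq, land_4095]
  split_ifs with h1 h2
  · rw [Nat.blt_eq.mpr h1, rho_Xw', sm_cT.cact, ← zero_add (cε _ _), ← show sb k = 0 by
      rw [sb, Nat.testBit_lt_two_pow h1]; rfl, sm_cT.cε]
    show den (emX _ (8 * p) (8 * n) t) = _
    rw [den_emX]; push_cast; module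
  · rw [Bool.eq_false_iff.2 (mt Nat.blt_eq.mp h1), Nat.blt_eq.mpr h2, cT, rho_An, cH_g, gm_gT (h32 _), gm_gT (h32 _),
      An_smul_left, An_smul_right, An_list]
    refine (den_loop (2 * ((p : ℚ) - n)) _ (fun a _ t => ?_) t).trans (by congr 1; module)
    rw [An_comm, An_list]
    refine den_loop _ _ (fun b _ t => ?_) t
    rw [den_emA (h32 _) (h32 _), An_smul_left, An_smul_right, An_comm, tb_eq, sg_tb, smul_smul (sg _), ← sg_nat_add,
      sg_nat_congr (a := b / 32 + a / 32) (b := Nat.xor a b / 2 ^ 5) (by
        show _ = (a ^^^ b) / 2 ^ 5 % 2
        rw [Nat.xor_div_two_pow, Nat.xor_mod_two_eq]; omega)]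
    congr 2
    show ((2 * p : ℕ) : ℚ) - (2 * n : ℕ) = _
    push_cast; ring
  · rw [Bool.eq_false_iff.2 (mt Nat.blt_eq.mp h1), Bool.eq_false_iff.2 (mt Nat.blt_eq.mp h2), cT, rho_Tn, cH_g,
      gm_gT (h32 _), ← wb_mod k, cH_eb (Nat.mod_lt _ (by norm_num)), Tn_smul_left, Tn_smul_right, Tn_list]
    refine (den_loop ((p : ℚ) - n) _ (fun a _ t => ?_) t).trans (by congr 1; module)
    rw [Tn_list']
    refine den_loop _ _ (fun b _ t => ?_) t
    rw [den_emT (h32 _), Tn_smul_left, Tn_smul_right, smul_smul (sg _), ← sg_add, sb_qmul, sb_qmul, sb_addS, vb_addS,
      show ∀ m, wb (qmul m b) = wb m + wb b from fun m => congrArg Prod.fst (vb_qmul m b),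
      show ∀ m, wb (qmul m b) = wb m + wb b from fun m => congrArg Prod.fst (vb_qmul m b), wb_addS]
    exact congrArg (fun x => _ • sg x • _ + _) (by ring_nf)

/-! ### the element `τ` -/

/-- the terms of an octad block -/
noncomputable def blk (p n : ℕ) (l : List ℕ) (w : ℕ) (b : Bool) (t : TL) : TL :=
  List.rec (motive := fun _ => ℕ → Bool → TL → TL) (fun w b t => Bool.rec (emX w p n t) t b)
    (fun a _ ih w b t => Bool.rec (ih w false (force (Nat.xor w a) fun w' => ih w' true t))
      (ih w true (force (Nat.xor (Nat.xor w a) 8388608) fun w' => ih w' false t)) b) l w b t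

theorem den_blk (p n δ : ℕ) (l : List ℕ) (hl : ∀ i ∈ l, i < 24) (hn : (l.map pt).Nodup) (w : ℕ) (b : Bool) (t : TL) :
    den (blk p n (l.map fun i => addS (lamN i) (Nat.shiftRight δ i)) w b t) = ((p : ℚ) - n) •
      ∑ ε ∈ (l.map pt).toFinset.powerset, (if (ε.card + b.toNat) % 2 = 0 then
        sg (sb w + ((ofMask δ ∩ ε).card : ℕ)) • Xw (vb w + ∑ i ∈ ε, lam k0 i + ((ε.card + b.toNat) / 2) • w0 k0)
      else 0) + den t := by
  induction l generalizing w b t with
  | nil => cases b <;> simp [blk, den_emX]
  | cons a l ih =>
    have ha := hl a (by simp)
    rw [List.map_cons, List.nodup_cons, ← List.mem_toFinset] at hn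
    have ih' := ih (fun i hi => hl i (by simp [hi])) hn.2
    have h1 : ∀ ε ∈ (l.map pt).toFinset.powerset, pt a ∉ ε := fun ε hε h => hn.1 (mem_powerset.1 hε h)
    have h2 : ∀ ε ∈ (l.map pt).toFinset.powerset, (((ofMask δ ∩ insert (pt a) ε).card : ℕ) : ZMod 2) =
        (δ / 2 ^ a : ℕ) + ((ofMask δ ∩ ε).card : ℕ) := fun ε hε => by
      rw [← ZMod.natCast_mod (δ / _) 2, ← Nat.toNat_testBit]
      by_cases h : pt a ∈ ofMask δ
      · rw [inter_insert_of_mem h, card_insert_of_notMem fun e => h1 ε hε (mem_inter.1 e).2,
          (pt_mem_ofMask ha).1 h, Nat.cast_add_one, add_comm]; rfl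
      · rw [inter_insert_of_notMem h, Bool.eq_false_iff.2 (mt (pt_mem_ofMask ha).2 h)]; simp
    have h3 : ∀ u, sb (Nat.xor u (addS (lamN a) (Nat.shiftRight δ a))) = sb u + (δ / 2 ^ a : ℕ) := fun u => by
      rw [← shr_eq, ← zero_add (Nat.cast _), ← sb_lamN a ha, ← sb_addS]; exact sb_xor _ _
    have h4 : ∀ u, vb (Nat.xor u (addS (lamN a) (Nat.shiftRight δ a))) = vb u + lam k0 (pt a) := fun u => by
      rw [lam_pt ha, ← vb_addS (lamN a)]; exact vb_xor _ _
    rw [List.map_cons, List.map_cons, List.toFinset_cons, sum_powerset_insert hn.1, smul_add, add_assoc]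
    cases b
    · refine (ih' w false _).trans (congrArg _ ?_)
      rw [force_eq]
      refine (ih' _ true _).trans (congrArg (fun x : VV => _ • x + _) (sum_congr rfl fun ε hε => ?_))
      rw [h2 ε hε, h3, h4, sum_insert (h1 ε hε), card_insert_of_notMem (h1 ε hε), add_assoc (sb w), add_assoc (vb w)]
      rfl
    · refine (ih' w true _).trans (congrArg _ ?_)
      rw [force_eq]
      refine (ih' _ false _).trans (congrArg (fun x : VV => _ • x + _) (sum_congr rfl fun ε hε => ?_))
      have h5 : ∀ u, sb (Nat.xor u 8388608) = sb u := fun u => (sb_xor _ _).trans (add_zero _)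
      have h6 : ∀ u, vb (Nat.xor u 8388608) = vb u + w0 k0 := fun u => w0_vb ▸ vb_xor _ _
      rw [h2 ε hε, h5, h6, h3, h4, sum_insert (h1 ε hε), card_insert_of_notMem (h1 ε hε), add_assoc (sb w),
        Bool.toNat_true, Bool.toNat_false, add_zero, show ε.card + 1 + 1 = ε.card + 2 from rfl, Nat.add_mod_right,
        Nat.add_div_right _ two_pos, succ_nsmul]
      congr 3; abel

/-- the codes of the points of an octad -/
noncomputable def ptsL (o δ n : ℕ) (acc : List ℕ) : List ℕ :=
  Nat.rec (motive := fun _ => List ℕ → List ℕ) (fun acc => acc) (fun i ih acc => Bool.rec (ih acc)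
    (force (addS (lamN i) (Nat.shiftRight δ i)) fun a => ih (a :: acc)) (tb o i)) n acc

theorem ptsL_eq (o δ n : ℕ) (acc : List ℕ) : ptsL o δ n acc =
    ((List.range n).filter o.testBit).map (fun i => addS (lamN i) (Nat.shiftRight δ i)) ++ acc := by
  induction n generalizing acc with
  | zero => rfl
  | succ n ih =>
    show Bool.rec (motive := fun _ => List ℕ) (ptsL o δ n acc) (force _ fun a => ptsL o δ n (a :: acc)) (tb o n) = _
    rw [force_eq, ih, ih, tb_eq, List.range_succ, List.filter_append]
    cases h : o.testBit n <;> simp [h]

theorem den_oct {o δ : ℕ} (ho : isCode o = true) (hδ : δ < 2 ^ 24) (p n : ℕ) (t : TL) :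
    den (blk p n (ptsL o δ 24 []) (addS (twN o) (Nat.shiftRight (pc δ) 1)) false t) =
      ((p : ℚ) - n) • (16 : ℚ) • HH k0 (ofMask o) (ofMask δ) + den t := by
  have h1 : ∀ i ∈ (List.range 24).filter o.testBit, i < 24 := fun i hi => List.mem_range.1 (List.mem_filter.1 hi).1
  have h2 : (((List.range 24).filter o.testBit).map pt).toFinset = ofMask o := by
    ext p
    simp only [List.mem_toFinset, List.mem_map, List.mem_filter, List.mem_range, mem_ofMask]
    exact ⟨fun ⟨i, h, e⟩ => by rw [← e, ix_pt h.1, h.2], fun h => ⟨_, ⟨ix_lt p, h⟩, pt_ix p⟩⟩
  rw [ptsL_eq, List.append_nil, den_blk p n δ _ h1 ((List.nodup_range.filter _).map_on fun i hi j hj =>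
    (pt_inj (h1 i hi) (h1 j hj)).1), h2, HH, evs, sum_filter, smul_sum (r := 16)]
  refine congrArg (fun x : VV => _ • x + _) (sum_congr rfl fun ε hε => ?_)
  rw [Bool.toNat_false, add_zero]
  split_ifs with h
  · rw [φ_ov (isCW_ofMask ho) (mem_evs.2 ⟨mem_powerset.1 hε, h⟩), φ_tw ho, vb_addS, sb_addS, sb_twN, zero_add, shr_eq,
      smul_smul, mul_div_cancel₀ _ (by norm_num), card_ofMask hδ, Nat.cast_add, pow_one]
  · rw [smul_zero]

/-- the minimal words of the odd cosets of the code -/
def leadTbl : ℕ := 0x080050204200011004408400011002022008011800011001440020022004000380900040022001022800011008022002080840080041080042020120080044148000011010a0008008004801048020a00004500080410002201010042048020044000810108080600002011020810088040001102004024044080044000144000229000044000402202010041000c080080060020102020101020900002280414000100408020104440010808200100404020108100402201040100c0010040108081008001108001290000808001440018001104004022008001890000290000190080000860002204060400090000408000008080108080208000308080408000508000600640008080808000908000a90001008000c20102006008001810008003001a0002004800402041240000402020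40201040a00440040004500029000900020810080201010082100040208080820080021080022020140080024201008c080000402100800282010040142004020802010012018001004402010028280001010200003080c2000044400400140011080a00010000302010410000b0000030138000002208000030400c0200800c0010408504000a00004002220a00002a00001a00800010401010c00000310010402409000010404060040a000081010011018002004401010020022101010044a000000c00844008010100800032000c00481004000c00200c00100c800002204101010058000020180002a00002201002202a000202240000104208810004020400022080c010010048000c01008009040010420042003400040010140090010a000400102007000248000000340900080810020400108060010081400080880080081080082009200080084400110060008a00040080088010440060004402020060002104200060800060001200402101040200c002004018100084001202004040402808100040a020020040840201081080081000181000200c0400800a08440002004104020080022400284000051001900001081004020024020014028008100102010800600204020041024008500000002880200302080204000c0011100184000000282089000000a800002818040100221000002842404000801400200220200210208208040080016004420000200248040047000000002900200288048008040018040020180402080040200120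200110208102088002080012080020200144401000044400002a0020018208008110200082040c0100002000302080202080102000020801002000602000502080401300002000a0200090208088040200c008010050002000c08011040008404c0002030004000814008808204004000822300000044200002c09001001410004000880820200180100809000801010801020200600801044000903002000180080801080422004014000180048040400180020180010188008012000044085100000200502080404000a0082008040300004401004c00082004004402082002004404082800082001080120020042020041020840050400902000005080020044108080004410a4000002004842020020110008201001802000020a400044000a0800020940004140084000020c400042000a02000203000200000a01000206400048000a0400020524100000e0000002180200a0130000400050088400a00100000212010500000a100002118040800c0020000214103000094000101100000228020090208080400060940000012400000222a02000000a200002210214000c001000022400c100c004000200820200810208800023000c00080050400200841080400c00040002300200880c00010c08006100000c000240000540080400024840000640080140000040000340080200024240000c000a4000024140000940080800024440000a0801804000148120001404004000114008100050204000121080208210000002502840002024004000180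601000180800620004000242005008880004000214008200050104000221080100044800002600510008101004000280820803200001080082102000050040200c00050024000300058000050011088001080011080024021001080040c0040005008800600204001204800000188204002d000002040040112000400600001822040080009800001810084400222000001844800100802402040108404001120000020a000150002c0004800081210008080200001904800042500004800024800014808000304002040201880000400440020900400420400410408404402008080100001a0003400085000110100a200000400480020848080086010000203000028800020810020820400508080018088000140408080020020888080041006004800200802102040404220000400240084080400220400210408200084044110000001c0900200008c00008401008402040028080a000802010802020090800802048300003001000400300802080421000140202204000084101040808030004800408011000400060400050408040400030408020408010400003020000a008001401004000c00842004000a0400090408080802205004000140080400140020c004001204001104081001400280804001480001400142010020120001400404001800010a20408000090800010900203009800000010c120400000902000103000100000901000106841000000904000105002024460000000118009040002820002021002022a002000001120106000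00910000111002028104040000114480080002014101200000128c100000028100020110020120400c00001220a004000092000012100201860040000012400c20000280400200500200608440000200000280100280200200300200c80808000013034000000280800200900200a0310001500008024000001480090102210004003008840000400a00001420a0020000940000141008480104010000144212000080280009002009001009800002060104008410400009004e0000010400400015000900810400110480006020010400240c0000a00082006000400840020500400820400810408800a00010a08000001600a00028102000a00045010000400880020442101009200000090200028400020410020420400900414000a001001408040220000204810402028800080050000008a2041000008880000890e000000141000008c80a000000882000083000080000881000086110020000884000085418000001404000098020220001401001c003000400014020000920420400008900000918042000014080000944801008010404820000000a80202102082001100084044000401400000a21100040008a00000a11100011108000000a4110002144000020202020201020a000021800014208900000202042804008081000000b00202084200401100100490002060008010201280000000c80904000160004002803000100401200000c20420100008c00000c1008500a800000000c4025000080300042008300004c040003000020014403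008003000010420010428000000d00420024200200420043000080182008018008010018010020401048010040401020401010409008010080046000000e060800042001011004008220004010880101021008000a40002024042000808c00030002004011042000404202001410018100042080042000142000280048000080a00000b00000800080900000e40024000080c00000d00000200080300080000000100080600000700000400080500001a98000000081800001900212000148000001c05400000081200001300001000081100001622800000081400001500002a04840000082800002900211082400000002c2810000008220000230000200008210000261100800008240000250021042100400000380202800029000021010021025080000000324050000008300000310021080c020000003480044000004a400204000848000049400201400a0000004c4002020008420000430000400008410000464002080008440000450244002100200000580091008480004002103000800a20000000520420800008500000510910001041000000548004208010802100100000681060001804004002200380000401800000620a010000086000006124400000b0000000648004102100012108004c0000210002002140210004005200800408108200210008000070800404420080800402800401800c00102100408002408001408800044080880020011400408004a010000100900a40004080080082400224001000302401000804400100888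402004080106200000013001000280060400100810108801000240100821000220100841008201000210302008800042000c040802088000188080010001888000244040000414010001400320010001288000810081010001100d00024200010000c02050010000a8800101008081000091000060100a01008041000051008021000031000001008010804100610002000a0408040008208310000820100006010008204004120052000900400008a00008201008202081080080c000804010804020060040804040060020060010068000804080100c0401100220200008210c400001000600060082000820041082008802000814030008800402000840406000041010049002000880041020082200041041000504300000804205002002000908110000501000280801000480060208220000041101000440c8000100042201400100840100041044004010018200060408080044800044001044002120200010011010810000700010012044008010014c0200008104001000901080802300001000a04401001000c088100a004000108010100000100030108020100050108041000a001000620004210140020084020004104402088008020004401210008a00001003020004886000002110060020010009000c400c001000100282000500842000026000280401000884410000100210108201000840100221000820100241008801000812000228022002008202000210440404005002000240810085200000100502000280810040082800810020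8100108180008048001004820003014010090100002802041020000608001004101084080c00001004220210001004406040008101020080220000320000020080120000602801020080420000520000a00418020080820000981040014200020000c0810202000120280042008102000110280010288002000140280020412000100602000184024004840000280081000c0800300102800102001102002408100102004001210820040240008102008004060000680240004490000240002240001240800102010001204214000020420001201001a000880800012020680000101804010408820008044000012081001202400101020200040480c1000020410208400880100404200012080004041004840818000004042021080004044100110240020c00080020402020401020c0005004000122010010802040428020000405010010402040810010240a000100900100101102040004028820004090200820002400480820800820001004021004820401010004022008300004024820008240040080500a080004010081400800500200012408200100061004010020040304018004010012020801a000040100401840000400900480820018000400a05001000400c82002010900000480100400000400300480200400500480408240000400605000400401800a2000204400508000500010500026800000040110048104010200040120500080040141001408002801020802a00000006088050000441004004400880100120200006020101100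00e00000601021020908000000604240080c00020010108088004140040088002001280088800088001010101010900000610010102202040010104088008424000c000100482002001400120040210080120020120010128000210040040c0000620580000021800021001021002012008c00800c00001c00002020480c00004304000088020012010c000080101200460002090000210100c0400100180800240019000400404200120140010400401400c008200804004028c00000040a000064002a000202010400408114000081100024200140002140001140800202008400410088040140004202004010140401080140008202800202001202002800220200102004088200900200101180200400420200104012040004081004880200108004082021040004084448000800210c000400830002001101400200500800281000054008002081084000040900b0000800204202020800202800201800a000300202044008400104082000080480011102820001200800080441c0000000580003020008840008041008042814000840002001104840800840001001101001900840004001102406000010280840008220040008050001108100220480400030800030001030002003008030004880200404100040440030008003002003001003800008060600080100210003004030010500040840020084080002480001120100208218000280100808400100204003010100202064000100a0010020100800c8020801050000901000088080080090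0800a040420008804008005008006220010008000008801008802008003080600500020840040220008008018001140410080006200008014220002220001220800008810008011008012220004030040500010200280040404008028040402040401040c00008024004300c8000000304000882000802100802204040850000150080000a100500002a040005000040a1000040410041080500008014400220020008030092000100240800180481000802040000508120004044200120002120001120800000502010210000d000005010080c0600020000504120008308000010208840080084020002420001180410040120010010201010a000005100102028a000001020420500004a0000300800481002002400840100024106000088090001200209040006000040005200030806000016008000d0000600002002404084002084001084800002c000024010024020840040410400102204280000840080024086000101002808001408020018028002002208020020080888020044100101200400080848020080005404440000088800080810080820812000241008020104100040094004100022c0000410800410001041020010240182000220080008090104400410008800120200202802020200a002002011801000150002002040404800410100a04002002081180000080a06000400260008001100410085000802002100840400024400282004100208001080418000410010410028001040410048001028001018009001022000010140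00488090040001011001810404020001012000482c20000000c8000048100814000101800048424020000100500180484010000100600180100100000100300180228002000100c00049010c00000100900180803200000100a030100048080404004b000004040020010304048004040012800100042400004a00031008420001104004040080a800028000800102400a0400206000010210018204040100010222808002800012800024500002800040010281003008000c06400000900020900010908000081080010508202000900040081040042200004c009000800890000810100810250200002408000104400a0200900100010410018403004000010429100000424004012002201000081100010480c40008000a080140000420800a010090020180080222000404040040500004201004a0016000000420200812000420421100080009000a00250010000a80000a00105020000106000a00480008828004000421000a00880008442040080008280008180088000040a048020000c08000409a1000000109000040c120100000c02000403000400000c01000406086000000c04000405024040001084000418602000001081001880088200001082000412010300000c10000411540000001088000414800060048001048800000428048002180040048004404080012200000422048008000c20000421021200600100000424800050c002000480101110000841000025000010a026000080004828008012200000043080004401c00080004280004180084002401080210000044809008018002040060004300020c000000442301000000c400004410081800700000004448000300248000240010240021402000240040010c041010080002802400848800000045080002420220080002280002180082018000404804020030042100018080018000118000280001841200000428000046080001418000880001280001180081002402021040000a08080000c18001080000a800009800808041100800006800005800804800003800802800801800000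

/-- the minimal word of a coset -/
def lead (x : ℕ) : ℕ := Nat.land (Nat.shiftRight leadTbl (Nat.mul 24 (Nat.land (Nat.shiftRight x 12) 2047))) 16777215

/-- the position of an odd class -/
noncomputable def decS (w : ℕ) : ℕ := Nat.log2 (lead (Nat.xor w (twN (cw (Nat.land w 2047)))))

/-- the positions of a class of shape `(4, 4)` -/
def decP (w : ℕ) : ℕ := Nat.log2 (Nat.xor (lead w) 8388608)

/-- the positions of a class of shape `(4, 4)` -/
def decP' (w : ℕ) : ℕ := Nat.log2 (Nat.xor (Nat.xor (lead w) 8388608) (Nat.shiftLeft 1 (decP w)))

/-- the octad of a class -/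
noncomputable def decO (w : ℕ) : ℕ :=
  Bool.rec (Nat.xor (cw (Nat.land w 2047)) 16777215) (cw (Nat.land w 2047)) (Nat.beq (pc (cw (Nat.land w 2047))) 8)

/-- the signs of a class -/
noncomputable def decD (w o : ℕ) : ℕ :=
  Nat.land (Nat.xor (lead (Nat.xor (Nat.xor w (twN o)) (lamN (Nat.log2 o)))) (Nat.shiftLeft 1 (Nat.log2 o))) o

/-- the test of the decoding -/
noncomputable def okT (k : ℕ) : Bool :=
  Bool.rec (Bool.rec
    (and (Nat.blt (Nat.land (Nat.shiftRight k 12) 31) 24) (Nat.beq (Nat.land (Nat.xor (encS
      (Nat.land (Nat.shiftRight k 12) 31) (cw (Nat.land k 2047))) k) 4095) (Bool.rec 2048 0 (tb k 11))))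
    (and (Nat.blt (Nat.land (Nat.shiftRight k 5) 31) 24) (Nat.blt (Nat.land k 31) 24)) (Nat.blt k 33554432))
    (Bool.rec (Bool.rec
      (force (decO k) fun o => force (decD k o) fun δ => and (and (isCode o) (Nat.beq (pc o) 8))
        (and (Nat.beq (Nat.land (pc δ) 1) 0) (Nat.beq (encO o δ) k)))
      (force (decP k) fun i => force (decP' k) fun j => and (and (Nat.blt i 24) (Nat.blt j i))
        (Nat.beq (Nat.xor (Nat.xor (lamN i) (lamN j)) (Bool.rec 0 8388608 (tb k 23))) k))
      (Nat.beq (Nat.land k 4095) 0))
      (force (decS k) fun i => and (Nat.blt i 24) (Nat.beq (encS i (cw (Nat.land k 2047))) k)) (tb k 11))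
    (Nat.blt k 16777216)

/-- sixteen times the action of `τ` -/
noncomputable def fT (k p n : ℕ) (t : TL) : TL :=
  Bool.rec (Bool.rec
    (force (Nat.land (Nat.shiftRight k 12) 31) fun i => force (encS i (cw (Nat.land k 2047))) fun w => Bool.rec
      (emT i (addS w (betN w 2048)) (Nat.mul 16 p) (Nat.mul 16 n) t)
      (emX (addS w (Nat.add (betN w 2048) (betN (lamN i) w))) (Nat.mul 16 p) (Nat.mul 16 n) t) (tb k 11))
    (force (Nat.land (Nat.shiftRight k 5) 31) fun i => force (Nat.land k 31) fun j => Bool.rec
      (emX (Nat.xor (lamN i) (lamN j)) (Nat.mul 16 p) (Nat.mul 16 n)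
        (emX (Nat.xor (Nat.xor (lamN i) (lamN j)) 8388608) (Nat.mul 16 p) (Nat.mul 16 n) t))
      (.cons k (Nat.mul 16 p) (Nat.mul 16 n) t) (Nat.beq i j)) (Nat.blt k 33554432))
    (Bool.rec (Bool.rec
      (force (decO k) fun o => force (decD k o) fun δ =>
        blk p n (ptsL o δ 24 []) (addS (twN o) (Nat.shiftRight (pc δ) 1)) false t)
      (force (decP k) fun i => force (decP' k) fun j => emX (Nat.xor (lamN i) (lamN j)) (Nat.mul 8 p) (Nat.mul 8 n)
        (emX (Nat.xor (Nat.xor (lamN i) (lamN j)) 8388608) (Nat.mul 8 n) (Nat.mul 8 p)
          (emA i j (tb k 23) (Nat.mul 8 p) (Nat.mul 8 n) t)))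
      (Nat.beq (Nat.land k 4095) 0))
      (force (decS k) fun i => emT i (addS (Nat.xor k 2048) (betN (lamN i) k)) (Nat.mul 16 p) (Nat.mul 16 n) t)
      (tb k 11))
    (Nat.blt k 16777216)

theorem sb_encS {i : ℕ} (hi : i < 24) (e : ℕ) : sb (encS i e) = 0 := by
  show sb (lamN i ^^^ twN e ^^^ _) = 0
  rw [sb_xor, sb_xor, sb_lamN i hi, sb_twN]
  cases tb e i <;> rfl

theorem den_fT (k p n : ℕ) (t : TL) (h : okT k = true) :
    den (fT k p n t) = ((p : ℚ) - n) • ((16 : ℚ) • tau k0) (Bk k) + den t := by
  have e16 : ((Nat.mul 16 p : ℕ) : ℚ) - (Nat.mul 16 n : ℕ) = 16 * (p - n) := by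
    show ((16 * p : ℕ) : ℚ) - (16 * n : ℕ) = _
    push_cast; ring
  have e8 : ∀ p n : ℕ, ((Nat.mul 8 p : ℕ) : ℚ) - (Nat.mul 8 n : ℕ) = 8 * (p - n) := fun p n => by
    show ((8 * p : ℕ) : ℚ) - (8 * n : ℕ) = _
    push_cast; ring
  have hc : isCode (cw (Nat.land k 2047)) = true := isCode_cw (lt_of_le_of_lt Nat.and_le_right (by norm_num))
  have hP : ∀ {i j}, i < 24 → j < 24 → sb (Nat.xor (lamN i) (lamN j)) = 0 ∧
      sb (Nat.xor (Nat.xor (lamN i) (lamN j)) 8388608) = 0 ∧
      vb (Nat.xor (lamN i) (lamN j)) = lam k0 (pt i) + lam k0 (pt j) ∧
      vb (Nat.xor (Nat.xor (lamN i) (lamN j)) 8388608) = lam k0 (pt i) + lam k0 (pt j) + w0 k0 := fun {i j} hi hj => by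
    have h1 : sb (lamN i ^^^ lamN j) = 0 := by rw [sb_xor, sb_lamN i hi, sb_lamN j hj, add_zero]
    have h2 : vb (lamN i ^^^ lamN j) = lam k0 (pt i) + lam k0 (pt j) := by rw [vb_xor, lam_pt hi, lam_pt hj]
    exact ⟨h1, (sb_xor (_ ^^^ _) _).trans (by rw [h1]; rfl), h2, (vb_xor (_ ^^^ _) _).trans (by rw [h2, w0_vb])⟩
  have hb : ∀ w, ((betN w 2048 : ℕ) : ZMod 2) = (vb w).2 ⬝ᵥ a0 k0 := fun w => by rw [← bet_vb, a0_wb]; rfl
  have hb' : ∀ {i}, i < 24 → ∀ w, ((betN (lamN i) w : ℕ) : ZMod 2) = (lam k0 (pt i)).2 ⬝ᵥ (vb w).1 := fun hi w => by
    rw [← bet_vb, lam_pt hi]; rfl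
  rw [fT, LinearMap.smul_apply]
  rw [okT] at h
  simp only [force_eq, land31, shr_eq] at h ⊢
  by_cases h1 : k < 16777216
  · rw [Nat.blt_eq.mpr h1] at h ⊢
    rw [Bk, if_pos h1]
    cases h2 : tb k 11 <;> rw [h2] at h
    · cases h3 : Nat.beq (Nat.land k 4095) 0 <;> rw [h3] at h <;>
        simp only [Bool.and_eq_true, Nat.beq_eq, Nat.blt_eq] at h
      · have h4 : decD k (decO k) < 2 ^ 24 := lt_of_le_of_lt Nat.and_le_right (lt_of_isCode h.1.1)
        have h5 : ofMask (decD k (decO k)) ∈ evs (ofMask (decO k)) := mem_evs.2 ⟨by
          rw [decD]; exact (ofMask_land _ _).trans_subset inter_subset_right, by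
          rw [card_ofMask h4, ← Nat.and_one_is_mod]; exact h.2.1⟩
        rw [← shr_eq]
        refine (den_oct h.1.1 h4 p n t).trans ?_
        rw [← tau_Xo (isCW_ofMask h.1.1) ((card_ofMask (lt_of_isCode h.1.1)).trans h.1.2) h5, φ_encO h.1.1 h5 h4, h.2.2]
      · obtain ⟨⟨hi, hj⟩, h4⟩ := h
        obtain ⟨k1, k2, k3, k4⟩ := hP hi (hj.trans hi)
        have h5 : pt (decP k) ≠ pt (decP' k) := mt (pt_inj hi (hj.trans hi)).1 hj.ne'
        show den (emX _ _ _ _) = _
        rw [den_emX, den_emX, den_emA (by omega) (by omega), k1, k2, k3, k4, e8, e8]
        rw [← congrArg vb h4]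
        cases tb k 23
        · rw [show ∀ a, Nat.xor a (Bool.rec 0 8388608 false) = a from Nat.xor_zero, k3, tau_Xm h5, Up]
          simp only [sg_zero, Bool.toNat_false, Nat.cast_zero]; module
        · rw [k4, tau_Xp h5, Up]
          simp only [sg_zero, Bool.toNat_true, Nat.cast_one, sg_one]; module
    · simp only [Bool.and_eq_true, Nat.beq_eq, Nat.blt_eq] at h
      have h3 := os_encS h.1 hc
      rw [h.2] at h3
      show den (emT _ _ _ _ _) = _
      rw [den_emT (by omega), tau_Xs h3, std_k0.YY_eq, e16, sb_addS, wb_addS, hb' h.1, a0_wb,
        show sb (Nat.xor k 2048) = 0 from (sb_xor _ _).trans (by rw [sb, Nat.testBit_lt_two_pow h1]; rfl), zero_add,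
        show wb (Nat.xor k 2048) = (vb k).1 + wb 2048 from wb_xor _ _]
      module
  rw [Bool.eq_false_iff.2 (mt Nat.blt_eq.mp h1)] at h ⊢
  by_cases h2 : k < 33554432
  · rw [Nat.blt_eq.mpr h2] at h ⊢
    simp only [Bool.and_eq_true, Nat.blt_eq] at h
    cases h3 : Nat.beq (k / 2 ^ 5 % 32) (k % 32)
    · obtain ⟨k1, k2, k3, k4⟩ := hP h.1 h.2
      show den (emX _ _ _ _) = _
      rw [den_emX, den_emX, k1, k2, k3, k4, e16, Bk, if_neg h1, if_pos h2, show k / 32 = k / 2 ^ 5 from rfl,
        tau_A (mt (pt_inj h.1 h.2).1 (Nat.ne_of_beq_eq_false h3)), Um, sg_zero]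
      module
    · show den (.cons _ _ _ _) = _
      rw [den, e16, Bk, if_neg h1, if_pos h2, show k / 32 % 32 = k % 32 from Nat.eq_of_beq_eq_true h3, tau_D]
      module
  rw [Bool.eq_false_iff.2 (mt Nat.blt_eq.mp h2)] at h ⊢
  simp only [Bool.and_eq_true, Nat.beq_eq, Nat.blt_eq] at h
  have h3 := os_encS h.1 hc
  have h4 := congrArg wb h.2
  have h5 := sb_encS h.1 (cw (Nat.land k 2047))
  rw [Bk, if_neg h1, if_neg h2]
  generalize encS _ _ = w at *
  rw [show wb (Nat.land (Nat.xor w k) 4095) = (vb w).1 + wb k from (wb_land _).trans (wb_xor _ _)] at h4
  cases h6 : tb k 11 <;> rw [h6] at h4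
  · have h7 := std_k0.tau_YY h3
    rw [std_k0.YY_eq, std_k0.ZZ_eq, map_smul, sg_add, mul_comm, mul_smul, (smul_right_injective _ (sg_ne_zero _)).eq_iff,
      a0_wb, ← show _ = wb 2048 from h4, ← add_assoc, w_add_self, zero_add] at h7
    show den (emT _ _ _ _ _) = _
    rw [den_emT (by omega), e16, sb_addS, wb_addS, hb, h5, zero_add, show k / 4096 = k / 2 ^ 12 from rfl, h7, a0_wb,
      show _ = wb 2048 from h4]
    show _ = _ • _ • _ • Tn _ (eb (wb w)) + _
    module
  · have h7 := congrArg (sg ((vb w).2 ⬝ᵥ a0 k0 + (lam k0 (pt (k / 2 ^ 12 % 32))).2 ⬝ᵥ (vb w).1) • ·)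
      (std_k0.tau_ZZ h3)
    simp only [std_k0.ZZ_eq, map_smul, smul_smul, sg_mul_self, one_smul] at h7
    show den (emX _ _ _ _) = _
    rw [den_emX, e16, sb_addS, vb_addS, h5, zero_add, show k / 4096 = k / 2 ^ 12 from rfl,
      show wb k = (vb w).1 by rw [← zero_add (wb k), ← w_add_self (vb w).1, add_assoc, h4]; exact add_eq_left.2 wb_zero, h7,
      show ((Nat.add _ _ : ℕ) : ZMod 2) = _ from Nat.cast_add _ _, hb, hb' h.1]
    module

/-- the test of `(τ c)³ v = v` -/
noncomputable def chk3 (k : ℕ) : Bool :=
  stage (fun _ => true) fC (.cons k 1 0 .nil) fun l => stage okT fT l fun l => stage (fun _ => true) fC l fun l =>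
    stage okT fT l fun l => stage (fun _ => true) fC l fun l => stage okT fT l fun l =>
      TL.rec false (fun k' p n t _ => and (and (Nat.beq k' k) (Nat.beq p 2097152)) (and (Nat.beq n 0)
        (TL.rec true (fun _ _ _ _ _ => false) t))) l

/-- the map `τ c` -/
noncomputable def aV : VV →ₗ[ℚ] VV := tau k0 ∘ₗ rho k0 cT

theorem chk3_sound {k : ℕ} (h : chk3 k = true) : aV (aV (aV (Bk k))) = Bk k := by
  obtain ⟨l1, e1, h⟩ := stage_sound _ (fun k p n t _ => den_fC k p n t) h
  obtain ⟨l2, e2, h⟩ := stage_sound _ den_fT h
  obtain ⟨l3, e3, h⟩ := stage_sound _ (fun k p n t _ => den_fC k p n t) h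
  obtain ⟨l4, e4, h⟩ := stage_sound _ den_fT h
  obtain ⟨l5, e5, h⟩ := stage_sound _ (fun k p n t _ => den_fC k p n t) h
  obtain ⟨l6, e6, h⟩ := stage_sound _ den_fT h
  rcases l6 with _ | ⟨k', p, n, _ | _⟩ <;> simp only [Bool.and_eq_true, Nat.beq_eq, reduceCtorEq, and_false] at h
  obtain ⟨⟨rfl, rfl⟩, rfl, -⟩ := h
  rw [e5, e4, e3, e2, e1] at e6
  simp only [den, LinearMap.smul_apply, map_smul, smul_smul, add_zero] at e6
  refine smul_right_injective _ (show (2097152 : ℚ) ≠ 0 by norm_num) ?_
  convert e6.symm using 2 <;> norm_num
  rfl

end CfsgLib.Mon
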