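import Mathlib
import Cfsg.Agent.Lib.Fischer.Model23

/-! A transposition of Fi23 normalising the subgroup of the even words in the letters `b, ..., j` -/

set_option autoImplicit false
set_option maxRecDepth 100000
set_option Elab.async false

namespace CfsgLib.Mon.Y

open CfsgLib.Comput CfsgLib.Fischer

/-- the conjugating word -/
def uL : List ℕ := [0, 1, 2, 3, 4, 5, 6, 7, 3, 2, 1, 4, 3, 5, 8, 7, 3, 2, 1, 0, 4, 3, 2, 1, 5, 4, 7, 3, 2, 8, 7, 3, 4, 5, 6]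

/-- the word of the transposition -/
def tL : List ℕ := uL ++ 9 :: uL.reverse

/-- the edges of `Y422` with the words of their conjugates -/
def eL : List (List ℕ × List ℕ) :=
  [([2, 3], [1, 2, 1, 3, 4, 6, 7, 3, 2, 1, 4, 3, 2, 5, 4, 3, 6, 5, 4, 7, 3, 2, 8, 7, 3, 2, 1, 4, 3, 5, 4, 6, 5, 7, 3, 4, 8, 7, 3, 9, 6, 5, 4, 3, 2, 1, 7, 3, 2, 4, 8, 7, 3, 2, 1, 4]),
    ([1, 2], [1, 5, 7, 3, 2, 1, 4, 3, 2, 5, 4, 3, 6, 5, 4, 7, 3, 2, 1, 4, 3, 2, 5, 4, 3, 6, 5, 4, 7, 3, 2, 4, 5, 6, 8, 7, 3, 2, 1, 4, 3, 2, 5, 4, 3, 6, 5, 7, 8, 9, 6, 5, 4, 3, 2, 1, 7, 3, 2, 4, 3, 5, 4, 6, 5, 7, 3, 4, 8, 7, 3, 4, 5, 6]),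
    ([4, 3], [2, 3, 4, 1, 2, 3, 7, 8, 6, 4, 5, 3, 4, 2, 3, 7, 1, 2, 3, 4, 5, 6, 9, 4, 3, 7, 5, 6, 4, 5, 3, 4, 2, 3, 7, 8, 3, 4, 2, 3, 7, 5, 6, 4, 5, 3, 4, 1, 2, 3, 7, 4, 2, 3, 2, 1]),
    ([5, 4], [6, 5, 4, 3, 7, 8, 4, 3, 7, 5, 6, 4, 5, 3, 4, 2, 3, 7, 1, 2, 3, 4, 5, 6, 9, 8, 7, 5, 6, 3, 4, 5, 2, 3, 4, 1, 2, 3, 7, 8, 6, 5, 4, 2, 3, 7, 4, 5, 6, 3, 4, 5, 2, 3, 4, 1, 2, 3, 7, 4, 5, 6, 3, 4, 5, 2, 3, 4, 1, 2, 3, 7, 4, 2]),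
    ([6, 5], [9, 6, 5, 4, 3, 7, 8, 7, 3, 4, 2, 3, 7, 1, 2, 3, 4, 5, 6, 9, 4, 3, 7, 5, 6, 4, 5, 3, 4, 2, 3, 7, 8, 4, 3, 7, 2, 3, 4, 1, 2, 3, 7, 4, 5, 6, 3, 4, 5, 2, 3, 4, 1, 2, 3, 7, 5, 6, 1, 2, 3, 1, 2, 1]),
    ([9, 6], [2, 3, 4, 1, 2, 3, 7, 8, 4, 5, 3, 4, 2, 3, 7, 1, 2, 3, 4, 5, 6, 9, 4, 3, 7, 5, 6, 4, 5, 3, 4, 2, 3, 7, 8, 3, 4, 2, 3, 7, 5, 6, 4, 5, 3, 4, 1, 2, 3, 7, 6, 3, 4, 3, 2, 1]),
    ([7, 3], [1, 4, 3, 2, 1, 5, 4, 6, 5, 4, 3, 7, 3, 2, 1, 4, 3, 2, 5, 4, 3, 6, 5, 4, 7, 3, 2, 1, 4, 3, 5, 4, 6, 7, 8, 7, 3, 2, 1, 4, 3, 2, 7, 3, 4, 8, 9, 6, 5, 4, 3, 2, 1, 7, 3, 2]),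
    ([8, 7], [3, 7, 6, 5, 2, 3, 4, 1, 2, 3, 7, 8, 7, 3, 4, 2, 3, 7, 1, 2, 3, 4, 5, 6, 9, 3, 4, 1, 2, 3, 7, 8, 4, 5, 3, 4, 2, 3, 7, 6, 3, 4, 5, 2, 3, 4, 1, 2, 3, 7, 8, 5, 4, 3, 7, 2, 3, 4, 1, 2, 3, 7, 5, 6, 4, 5, 2, 3, 4, 1, 2, 3, 7, 4, 5, 6, 5, 1, 2, 3, 1, 2])]

/-- the equations -/
noncomputable def EX : List Eqn := eL.map fun e => ([pk tL, pk e.1, pk tL], [pk e.2])

theorem hX_0 : planeOK 31671 W23 EX 0 = true := by decide +kernel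
theorem hX_1 : planeOK 31671 W23 EX 1 = true := by decide +kernel
theorem hX_2 : planeOK 31671 W23 EX 2 = true := by decide +kernel
theorem hX_3 : planeOK 31671 W23 EX 3 = true := by decide +kernel
theorem hX_4 : planeOK 31671 W23 EX 4 = true := by decide +kernel
theorem hX_5 : planeOK 31671 W23 EX 5 = true := by decide +kernel
theorem hX_6 : planeOK 31671 W23 EX 6 = true := by decide +kernel
theorem hX_7 : planeOK 31671 W23 EX 7 = true := by decide +kernel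
theorem hX_8 : planeOK 31671 W23 EX 8 = true := by decide +kernel
theorem hX_9 : planeOK 31671 W23 EX 9 = true := by decide +kernel
theorem hX_10 : planeOK 31671 W23 EX 10 = true := by decide +kernel
theorem hX_11 : planeOK 31671 W23 EX 11 = true := by decide +kernel
theorem hX_12 : planeOK 31671 W23 EX 12 = true := by decide +kernel
theorem hX_13 : planeOK 31671 W23 EX 13 = true := by decide +kernel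
theorem hX_14 : planeOK 31671 W23 EX 14 = true := by decide +kernel

theorem hX : AllHold g23 EX := allHold23 fun b hb => by
  interval_cases b
  exacts [hX_0, hX_1, hX_2, hX_3, hX_4, hX_5, hX_6, hX_7, hX_8, hX_9, hX_10, hX_11, hX_12, hX_13, hX_14]

end CfsgLib.Mon.Y
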