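import Mathlib
import Cfsg.Agent.Lib.Mon.YmT

/-!
Certified relations in the Monster (generated by `tools/mon/rel.hpp`, `genrel.py`).
-/

set_option autoImplicit false
set_option maxRecDepth 100000
set_option Elab.async false

namespace CfsgLib.Mon.Ym

open CfsgLib.DCX CfsgLib.Comput CfsgLib.Mon.Dce CfsgLib.MonK

/-- relators -/
def coxW0 : List (List ℕ) :=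
 [[0,0],
  [0,1,0,1,0,1],
  [0,2,0,2],
  [0,3,0,3],
  [0,4,0,4],
  [0,5,0,5],
  [0,6,0,6],
  [0,7,0,7],
  [0,8,0,8],
  [0,9,0,9],
  [0,10,0,10,0,10],
  [0,11,0,11],
  [0,12,0,12],
  [0,13,0,13],
  [1,1],
  [1,2,1,2,1,2],
  [1,3,1,3],
  [1,4,1,4],
  [1,5,1,5],
  [1,6,1,6],
  [1,7,1,7],
  [1,8,1,8],
  [1,9,1,9],
  [1,10,1,10],
  [1,11,1,11],
  [1,12,1,12],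
  [1,13,1,13],
  [2,2],
  [2,3,2,3,2,3],
  [2,4,2,4],
  [2,5,2,5],
  [2,6,2,6],
  [2,7,2,7],
  [2,8,2,8],
  [2,9,2,9],
  [2,10,2,10],
  [2,11,2,11],
  [2,12,2,12],
  [2,13,2,13],
  [3,3],
  [3,4,3,4,3,4],
  [3,5,3,5],
  [3,6,3,6],
  [3,7,3,7,3,7],
  [3,8,3,8],
  [3,9,3,9],
  [3,10,3,10],
  [3,11,3,11],
  [3,12,3,12],
  [3,13,3,13],
  [4,4],
  [4,5,4,5,4,5],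
  [4,6,4,6],
  [4,7,4,7],
  [4,8,4,8],
  [4,9,4,9],
  [4,10,4,10],
  [4,11,4,11],
  [4,12,4,12],
  [4,13,4,13],
  [5,5],
  [5,6,5,6,5,6],
  [5,7,5,7],
  [5,8,5,8],
  [5,9,5,9],
  [5,10,5,10],
  [5,11,5,11],
  [5,12,5,12],
  [5,13,5,13],
  [6,6],
  [6,7,6,7],
  [6,8,6,8]]

/-- their proofs -/
noncomputable def coxP0 : List (List Step) :=
 [[],
  [],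
  [],
  [],
  [],
  [],
  [],
  [],
  [⟨0,0,[1141],[]⟩,⟨2,0,[266,274],[]⟩,⟨0,0,[128],[]⟩,⟨0,0,[56],[]⟩,⟨0,0,[7],[]⟩],
  [⟨0,0,[1141],[]⟩,⟨2,0,[266,274],[]⟩,⟨0,0,[128],[]⟩,⟨0,0,[56],[]⟩,⟨0,0,[7],[]⟩],
  [⟨0,0,[1141],[]⟩,⟨2,0,[266,274],[]⟩,⟨0,0,[128],[]⟩,⟨2,0,[122,118,124,132],[]⟩,⟨0,0,[76],[]⟩,⟨2,0,[118,130,118],[]⟩,⟨0,0,[127],[]⟩,⟨2,0,[266,274,274,276],[]⟩,⟨0,0,[128],[]⟩,⟨0,0,[56],[]⟩,⟨0,0,[7],[]⟩],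
  [],
  [],
  [],
  [],
  [],
  [],
  [],
  [],
  [],
  [],
  [⟨0,0,[1141],[]⟩,⟨2,0,[278,272,270],[]⟩,⟨0,0,[128],[]⟩,⟨0,0,[56],[]⟩,⟨0,0,[7],[]⟩],
  [⟨0,0,[1141],[]⟩,⟨2,0,[278,272,270],[]⟩,⟨0,0,[128],[]⟩,⟨0,0,[56],[]⟩,⟨0,0,[7],[]⟩],
  [⟨0,0,[1141],[]⟩,⟨2,0,[278,272,270],[]⟩,⟨0,0,[128],[]⟩,⟨0,0,[56],[]⟩,⟨0,0,[7],[]⟩],
  [],
  [],
  [],
  [],
  [],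
  [],
  [],
  [],
  [],
  [⟨0,0,[1141],[]⟩,⟨2,0,[266,274],[]⟩,⟨0,0,[128],[]⟩,⟨0,0,[56],[]⟩,⟨0,0,[7],[]⟩],
  [⟨0,0,[1141],[]⟩,⟨2,0,[266,274],[]⟩,⟨0,0,[128],[]⟩,⟨0,0,[56],[]⟩,⟨0,0,[7],[]⟩],
  [⟨0,0,[1141],[]⟩,⟨2,0,[266,274],[]⟩,⟨0,0,[128],[]⟩,⟨0,0,[56],[]⟩,⟨0,0,[7],[]⟩],
  [],
  [],
  [],
  [],
  [],
  [],
  [],
  [],
  [⟨0,0,[1141],[]⟩,⟨2,0,[264,278,272],[]⟩,⟨0,0,[128],[]⟩,⟨0,0,[56],[]⟩,⟨0,0,[7],[]⟩],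
  [⟨0,0,[1141],[]⟩,⟨2,0,[264,278,272],[]⟩,⟨0,0,[128],[]⟩,⟨0,0,[56],[]⟩,⟨0,0,[7],[]⟩],
  [⟨0,0,[1141],[]⟩,⟨2,0,[264,278,272],[]⟩,⟨0,0,[128],[]⟩,⟨0,0,[56],[]⟩,⟨0,0,[7],[]⟩],
  [],
  [],
  [],
  [],
  [],
  [],
  [],
  [⟨0,0,[1141],[]⟩,⟨2,0,[278,272,270],[]⟩,⟨0,0,[128],[]⟩,⟨0,0,[56],[]⟩,⟨0,0,[7],[]⟩],
  [⟨0,0,[1141],[]⟩,⟨2,0,[278,272,270],[]⟩,⟨0,0,[128],[]⟩,⟨0,0,[56],[]⟩,⟨0,0,[7],[]⟩],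
  [⟨0,0,[1141],[]⟩,⟨2,0,[278,272,270],[]⟩,⟨0,0,[128],[]⟩,⟨0,0,[56],[]⟩,⟨0,0,[7],[]⟩],
  [],
  [],
  [],
  [],
  [],
  [],
  [⟨0,0,[1141],[]⟩,⟨2,0,[266,274,268],[]⟩,⟨0,0,[128],[]⟩,⟨0,0,[56],[]⟩,⟨0,0,[7],[]⟩],
  [⟨0,0,[1141],[]⟩,⟨2,0,[266,274,268],[]⟩,⟨0,0,[128],[]⟩,⟨0,0,[56],[]⟩,⟨0,0,[7],[]⟩],
  [⟨0,0,[1141],[]⟩,⟨2,0,[266,274,268],[]⟩,⟨0,0,[128],[]⟩,⟨0,0,[56],[]⟩,⟨0,0,[7],[]⟩],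
  [],
  [],
  [],
  [],
  [],
  [⟨0,0,[1141],[]⟩,⟨2,0,[278,272,270],[]⟩,⟨0,0,[128],[]⟩,⟨0,0,[56],[]⟩,⟨0,0,[7],[]⟩]]

theorem cox0_ok : relsOK opsK el.get fs.get (nth [] nwL) false 1899 1144 coxW0 coxP0 = true := by decide +kernel

/-- relators -/
def coxW1 : List (List ℕ) :=
 [[6,9,6,9,6,9],
  [6,10,6,10],
  [6,11,6,11],
  [6,12,6,12],
  [6,13,6,13],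
  [7,7],
  [7,8,7,8,7,8],
  [7,9,7,9],
  [7,10,7,10],
  [7,11,7,11],
  [7,12,7,12],
  [7,13,7,13],
  [8,8],
  [8,9,8,9],
  [8,10,8,10],
  [8,11,8,11],
  [8,12,8,12],
  [8,13,8,13,8,13],
  [9,9],
  [9,10,9,10],
  [9,11,9,11],
  [9,12,9,12,9,12],
  [9,13,9,13],
  [10,10]]

/-- their proofs -/
noncomputable def coxP1 : List (List Step) :=
 [[⟨0,0,[1141],[]⟩,⟨2,0,[278,272,270],[]⟩,⟨0,0,[128],[]⟩,⟨2,0,[122,118,122,128],[]⟩,⟨0,0,[76],[]⟩,⟨2,0,[132,132],[]⟩,⟨0,0,[127],[]⟩,⟨2,0,[264,278,272],[]⟩,⟨0,0,[128],[]⟩,⟨0,0,[56],[]⟩,⟨0,0,[7],[]⟩],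
  [⟨0,0,[1141],[]⟩,⟨2,0,[278,272,270],[]⟩,⟨0,0,[128],[]⟩,⟨0,0,[56],[]⟩,⟨0,0,[7],[]⟩],
  [],
  [],
  [],
  [],
  [⟨0,0,[1141],[]⟩,⟨0,0,[128],[]⟩,⟨2,0,[120,122],[]⟩,⟨0,0,[75],[]⟩,⟨2,0,[124,124,120,128],[]⟩,⟨0,0,[127],[]⟩,⟨0,0,[128],[]⟩,⟨0,0,[56],[]⟩,⟨0,0,[7],[]⟩],
  [⟨0,0,[1141],[]⟩,⟨0,0,[128],[]⟩,⟨0,0,[56],[]⟩,⟨0,0,[7],[]⟩],
  [⟨0,0,[1141],[]⟩,⟨0,0,[128],[]⟩,⟨0,0,[56],[]⟩,⟨0,0,[7],[]⟩],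
  [],
  [],
  [],
  [⟨0,0,[1141],[]⟩,⟨0,0,[128],[]⟩,⟨0,0,[56],[]⟩,⟨0,0,[7],[]⟩],
  [⟨0,0,[1141],[]⟩,⟨0,0,[143],[]⟩,⟨2,0,[268,266,264,272,264],[]⟩,⟨0,0,[173],[]⟩,⟨2,0,[372,376,384],[]⟩,⟨0,0,[174],[]⟩,⟨2,0,[272,276,272,274],[]⟩,⟨0,0,[173],[]⟩,⟨2,0,[376,378],[]⟩,⟨0,0,[174],[]⟩,⟨2,0,[266,268,266,268],[]⟩,⟨0,0,[143],[]⟩,⟨0,0,[128],[]⟩,⟨0,0,[56],[]⟩,⟨0,0,[7],[]⟩],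
  [⟨0,0,[1142],[]⟩,⟨0,0,[143],[]⟩,⟨2,0,[272,270,272,266,278],[]⟩,⟨0,0,[173],[]⟩,⟨2,0,[372,372,376],[]⟩,⟨0,0,[174],[]⟩,⟨2,0,[272,276,272,274],[]⟩,⟨0,0,[173],[]⟩,⟨2,0,[376,378],[]⟩,⟨0,0,[174],[]⟩,⟨2,0,[266,268,266,268],[]⟩,⟨0,0,[143],[]⟩,⟨0,0,[128],[]⟩,⟨0,0,[56],[]⟩,⟨0,0,[7],[]⟩],
  [⟨0,0,[1141],[]⟩,⟨0,0,[128],[]⟩,⟨0,0,[56],[]⟩,⟨0,0,[7],[]⟩],
  [⟨0,0,[1141],[]⟩,⟨0,0,[128],[]⟩,⟨0,0,[56],[]⟩,⟨0,0,[7],[]⟩],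
  [⟨0,0,[1141],[]⟩,⟨0,0,[128],[]⟩,⟨0,0,[72],[]⟩,⟨2,0,[130,128,130],[]⟩,⟨0,0,[127],[]⟩,⟨0,0,[128],[]⟩,⟨0,0,[56],[]⟩,⟨0,0,[7],[]⟩],
  [⟨0,0,[1141],[]⟩,⟨0,0,[128],[]⟩,⟨0,0,[56],[]⟩,⟨0,0,[7],[]⟩],
  [⟨0,0,[1143],[]⟩,⟨0,0,[128],[]⟩,⟨2,0,[118,118,120,126,122],[]⟩,⟨0,0,[99],[]⟩,⟨2,0,[166,172,178],[]⟩,⟨0,0,[141],[]⟩,⟨0,0,[142],[]⟩,⟨2,0,[164,176],[]⟩,⟨0,0,[100],[]⟩,⟨2,0,[126,130,132,132],[]⟩,⟨0,0,[127],[]⟩,⟨0,0,[128],[]⟩,⟨0,0,[56],[]⟩,⟨0,0,[7],[]⟩],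
  [⟨0,0,[1141],[]⟩,⟨0,0,[128],[]⟩,⟨0,0,[56],[]⟩,⟨0,0,[7],[]⟩],
  [⟨0,0,[1141],[]⟩,⟨0,0,[128],[]⟩,⟨0,0,[72],[]⟩,⟨2,0,[130,128,130],[]⟩,⟨0,0,[127],[]⟩,⟨0,0,[128],[]⟩,⟨0,0,[56],[]⟩,⟨0,0,[7],[]⟩],
  [⟨0,0,[1141],[]⟩,⟨0,0,[128],[]⟩,⟨0,0,[56],[]⟩,⟨0,0,[7],[]⟩],
  [⟨0,0,[1141],[]⟩,⟨0,0,[128],[]⟩,⟨0,0,[56],[]⟩,⟨0,0,[7],[]⟩]]

theorem cox1_ok : relsOK opsK el.get fs.get (nth [] nwL) false 1899 1144 coxW1 coxP1 = true := by decide +kernel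

/-- relators -/
def coxW2 : List (List ℕ) :=
 [[10,11,10,11,10,11],
  [10,12,10,12],
  [10,13,10,13],
  [11,11],
  [11,12,11,12],
  [11,13,11,13],
  [12,12],
  [12,13,12,13],
  [13,13]]

/-- their proofs -/
noncomputable def coxP2 : List (List Step) :=
 [[⟨0,0,[1141],[]⟩,⟨0,0,[128],[]⟩,⟨0,0,[72],[]⟩,⟨2,0,[130,128,130],[]⟩,⟨0,0,[127],[]⟩,⟨0,0,[128],[]⟩,⟨0,0,[56],[]⟩,⟨0,0,[7],[]⟩],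
  [⟨0,0,[1141],[]⟩,⟨0,0,[128],[]⟩,⟨0,0,[56],[]⟩,⟨0,0,[7],[]⟩],
  [⟨0,0,[1141],[]⟩,⟨0,0,[128],[]⟩,⟨0,0,[56],[]⟩,⟨0,0,[7],[]⟩],
  [],
  [],
  [],
  [],
  [],
  []]

theorem cox2_ok : relsOK opsK el.get fs.get (nth [] nwL) false 1899 1144 coxW2 coxP2 = true := by decide +kernel

/-- relators -/
def spW0 : List (List ℕ) :=
 [[3,4,5,3,2,1,3,7,8,3,4,5,3,2,1,3,7,8,3,4,5,3,2,1,3,7,8,3,4,5,3,2,1,3,7,8,3,4,5,3,2,1,3,7,8,3,4,5,3,2,1,3,7,8,3,4,5,3,2,1,3,7,8,3,4,5,3,2,1,3,7,8,3,4,5,3,2,1,3,7,8,3,4,5,3,2,1,3,7,8]]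

/-- their proofs -/
noncomputable def spP0 : List (List Step) :=
 [[⟨0,0,[1141],[]⟩,⟨2,0,[264,266,268,278],[]⟩,⟨0,0,[128],[]⟩,⟨2,0,[122,122],[]⟩,⟨0,0,[75],[]⟩,⟨2,0,[132,124,126],[]⟩,⟨0,0,[127],[]⟩,⟨2,0,[276,274,274],[]⟩,⟨0,0,[143],[]⟩,⟨2,0,[278,274,276],[]⟩,⟨0,0,[128],[]⟩,⟨2,0,[124],[]⟩,⟨0,0,[69],[]⟩,⟨2,0,[62,60,52,50,52],[]⟩,⟨0,0,[68],[]⟩,⟨2,0,[120,132,118,122],[]⟩,⟨0,0,[127],[]⟩,⟨2,0,[268,274,266,270],[]⟩,⟨0,0,[143],[]⟩,⟨2,0,[274,272,276,272],[]⟩,⟨0,0,[128],[]⟩,⟨2,0,[130,120,126,122],[]⟩,⟨0,0,[127],[]⟩,⟨2,0,[264,270,266,270],[]⟩,⟨0,0,[143],[]⟩,⟨2,0,[276,270,266],[]⟩,⟨0,0,[143],[]⟩,⟨2,0,[264,276,266,270],[]⟩,⟨0,0,[128],[]⟩,⟨2,0,[120,128,132,124],[]⟩,⟨0,0,[127],[]⟩,⟨2,0,[264,270,27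2,264],[]⟩,⟨0,0,[128],[]⟩,⟨2,0,[122,124,126],[]⟩,⟨0,0,[76],[]⟩,⟨2,0,[130,132],[]⟩,⟨0,0,[69],[]⟩,⟨2,0,[52,62,54,54,62],[]⟩,⟨0,0,[68],[]⟩,⟨2,0,[128,124,124,122],[]⟩,⟨0,0,[76],[]⟩,⟨2,0,[124,124,130,126],[]⟩,⟨0,0,[127],[]⟩,⟨2,0,[276,264,266],[]⟩,⟨0,0,[143],[]⟩,⟨2,0,[278,268,274],[]⟩,⟨0,0,[143],[]⟩,⟨2,0,[278,276,274],[]⟩,⟨0,0,[143],[]⟩,⟨2,0,[270,270,276,272],[]⟩,⟨0,0,[128],[]⟩,⟨0,0,[56],[]⟩,⟨0,0,[7],[]⟩]]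

theorem sp0_ok : relsOK opsK el.get fs.get (nth [] nwL) false 1899 1144 spW0 spP0 = true := by decide +kernel

/-- relators -/
def f3W0 : List (List ℕ) :=
 [[3,7,4,2,8,5,13,3,7,4,2,8,5,13,3,7,4,2,8,5,13,3,7,4,2,8,5,13,3,7,4,2,8,5,13,3,7,4,2,8,5,13,3,7,4,2,8,5,13,3,7,4,2,8,5,13,3,7,4,2,8,5,13]]

/-- their proofs -/
noncomputable def f3P0 : List (List Step) :=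
 [[⟨0,0,[1141],[]⟩,⟨2,0,[266,266,278,270],[]⟩,⟨0,0,[128],[]⟩,⟨2,0,[128,124],[]⟩,⟨0,0,[69],[]⟩,⟨2,0,[50,60,52],[]⟩,⟨0,0,[33],[]⟩,⟨2,0,[50,54,50,60,62,56],[]⟩,⟨0,0,[68],[]⟩,⟨2,0,[128,120,124,128],[]⟩,⟨0,0,[76],[]⟩,⟨2,0,[120,128],[]⟩,⟨0,0,[69],[]⟩,⟨2,0,[58,60,56,54,50],[]⟩,⟨0,0,[68],[]⟩,⟨2,0,[120,126,124,124],[]⟩,⟨0,0,[127],[]⟩,⟨2,0,[276,278,276],[]⟩,⟨0,0,[143],[]⟩,⟨2,0,[264,270,276],[]⟩,⟨0,0,[143],[]⟩,⟨2,0,[264,270,276,274],[]⟩,⟨0,0,[143],[]⟩,⟨2,0,[264,270,266,272],[]⟩,⟨0,0,[143],[]⟩,⟨2,0,[266,264,270],[]⟩,⟨0,0,[143],[]⟩,⟨2,0,[268,270],[]⟩,⟨0,0,[128],[]⟩,⟨2,0,[118,120,122],[]⟩,⟨0,0,[69],[]⟩,⟨2,0,[56,62,54,62,58],[]⟩,⟨0,0,[68],[]⟩,⟨2,0,[120,126,120,124],[]⟩,⟨0,0,[76],[]⟩,⟨2,0,[118,126,118],[]⟩,⟨0,0,[69],[]⟩,⟨2,0,[52,56,58,56],[]⟩,⟨0,0,[68],[]⟩,⟨2,0,[120,130,122,122],[]⟩,⟨0,0,[127],[]⟩,⟨2,0,[278,268,274],[]⟩,⟨0,0,[143],[]⟩,⟨2,0,[270,268,272],[]⟩,⟨0,0,[128],[]⟩,⟨0,0,[56],[]⟩,⟨0,0,[7],[]⟩]]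

theorem f30_ok : relsOK opsK el.get fs.get (nth [] nwL) false 1899 1144 f3W0 f3P0 = true := by decide +kernel

/-- relators -/
def TW0 : List (List ℕ) :=
 [[14,0,1,2,3,4,5,6,7,3,2,1,4,3,5,8,7,3,2,1,0,4,3,2,1,5,4,7,3,2,8,7,3,4,5,6,9,6,5,4,3,7,8,2,3,7,4,5,1,2,3,4,0,1,2,3,7,8,5,3,4,1,2,3,7,6,5,4,3,2,1,0]]

/-- their proofs -/
noncomputable def TP0 : List (List Step) :=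
 [[⟨2,0,[276,278,266,266,272],[]⟩,⟨0,0,[142],[]⟩,⟨2,0,[164,164,172,176,166],[]⟩,⟨0,0,[119],[]⟩,⟨2,0,[218,224,230,228,232,220],[]⟩,⟨0,0,[194],[]⟩,⟨2,0,[372,380,382,376,372,380],[]⟩,⟨0,0,[179],[]⟩,⟨2,0,[308,300,300,308,300],[]⟩,⟨0,0,[171],[]⟩,⟨2,0,[298,300,298,300],[]⟩,⟨0,0,[169],[]⟩,⟨2,0,[298,306,300,312],[]⟩,⟨0,0,[162],[]⟩,⟨2,0,[176,168],[]⟩,⟨0,0,[100],[]⟩,⟨2,0,[120,132,128],[]⟩,⟨0,0,[69],[]⟩,⟨2,0,[64,58,62,54,62],[]⟩,⟨0,0,[68],[]⟩,⟨2,0,[120,120,120,120],[]⟩,⟨0,0,[76],[]⟩,⟨2,0,[120,132,124,132],[]⟩,⟨0,0,[127],[]⟩,⟨2,0,[264,274,274,276],[]⟩,⟨0,0,[128],[]⟩,⟨0,0,[56],[]⟩,⟨0,0,[7],[]⟩]]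

theorem T0_ok : relsOK opsK el.get fs.get (nth [] nwL) false 1899 1144 TW0 TP0 = true := by decide +kernel

/-- relators -/
def xW0 : List (List ℕ) :=
 [[15,16],
  [15,0,3,16,3,0],
  [15,13,15,13,15,13]]

/-- their proofs -/
noncomputable def xP0 : List (List Step) :=
 [[⟨0,0,[20],[]⟩,⟨0,0,[7],[]⟩],
  [⟨2,0,[52,60],[]⟩,⟨0,0,[20],[]⟩,⟨0,0,[7],[]⟩],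
  [⟨0,0,[20],[]⟩,⟨2,0,[28,26,24,16],[]⟩,⟨0,0,[19],[]⟩,⟨0,0,[20],[]⟩,⟨0,0,[7],[]⟩]]

theorem x0_ok : relsOK opsK el.get fs.get (nth [] nwL) false 1899 1144 xW0 xP0 = true := by decide +kernel

/-- relators -/
def cjW0 : List (List ℕ) :=
 [[17,18],
  [17,11,18,12],
  [19,20],
  [19,11,20,13],
  [21,22],
  [21,11,22,7],
  [24,25],
  [24,13,25,26],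
  [24,7,25,23]]

/-- their proofs -/
noncomputable def cjP0 : List (List Step) :=
 [[],
  [],
  [],
  [],
  [⟨0,0,[7],[]⟩],
  [⟨0,0,[7],[]⟩],
  [⟨0,0,[7],[]⟩],
  [⟨0,0,[7],[]⟩],
  [⟨0,0,[7],[]⟩]]

theorem cj0_ok : relsOK opsK el.get fs.get (nth [] nwL) false 1899 1144 cjW0 cjP0 = true := by decide +kernel

end CfsgLib.Mon.Ym
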