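import Mathlib
import Cfsg.Agent.Lib.Mon.YmT

/-!
Certified relations in the Monster (generated by `tools/mon/rel.hpp`, `genrel.py`).
-/

set_option autoImplicit false
set_option maxRecDepth 100000
set_option Elab.async false

namespace CfsgLib.Mon.Ym

open CfsgLib.DCX CfsgLib.Comput CfsgLib.Mon.Dce CfsgLib.MonK

/-- relators -/
def ptW0 : List (List ℕ) :=
 [[22,3,7,2,3,1,2,0,1,10,14,10,14,16,1,0,2,1,3,2,7,3,21],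
  [22,3,7,2,3,1,2,10,14,10,14,16,2,1,3,2,7,3,21],
  [22,3,7,2,3,10,14,10,14,16,3,2,7,3,21],
  [22,3,7,10,14,10,14,16,7,3,21]]

/-- their proofs -/
noncomputable def ptP0 : List (List Step) :=
 [[⟨2,0,[538,524,532,530,530,534,534],[7]⟩,⟨0,0,[270],[7,4136]⟩,⟨2,0,[554,560,558,554,558,554,556],[]⟩,⟨0,0,[300],[]⟩,⟨2,0,[586,584,594,590,592],[]⟩,⟨0,0,[305],[]⟩,⟨2,0,[596,590,584,588,592,592],[]⟩,⟨0,0,[362],[]⟩,⟨2,0,[746,742,750,738],[]⟩,⟨0,0,[453],[]⟩,⟨2,0,[876,874,882,884,880,876],[]⟩,⟨0,0,[606],[]⟩,⟨2,0,[1164,1162,1154,1150,1160,1154],[]⟩,⟨0,0,[593],[]⟩,⟨2,0,[778,778,788,786],[]⟩,⟨0,0,[403],[]⟩,⟨2,0,[778,778,778,786,784],[]⟩,⟨0,0,[683],[]⟩,⟨2,0,[1290,1296,1298,1292],[]⟩,⟨0,0,[752],[]⟩,⟨2,0,[1296,1294,1302,1294,1304,1304,1302],[]⟩,⟨0,0,[841],[]⟩,⟨2,0,[1292,1292,1304,1294,1300,1298],[]⟩,⟨0,0,[788],[]⟩,⟨2,0,[786],[]⟩,⟨0,0,[397],[]⟩,⟨2,0,[636,624],[]⟩,⟨0,0,[330],[]⟩,⟨2,0,[626,628],[]⟩,⟨0,0,[307],[]⟩,⟨2,0,[564,556],[]⟩,⟨0,0,[271],[]⟩],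
  [⟨2,0,[538,524,532,530,530,534,534],[7]⟩,⟨0,0,[270],[7,4136]⟩,⟨2,0,[560,566,564,568,558,556,558],[]⟩,⟨0,0,[300],[]⟩,⟨2,0,[596,584,594],[]⟩,⟨0,0,[305],[]⟩,⟨2,0,[588,590,596,594],[]⟩,⟨0,0,[301],[]⟩,⟨2,0,[558,564,560,568,554,568,562,560],[]⟩,⟨0,0,[306],[]⟩,⟨2,0,[628,638,624,626,634],[]⟩,⟨0,0,[376],[]⟩,⟨2,0,[736,738,748,746,742,742],[]⟩,⟨0,0,[383],[]⟩,⟨2,0,[740,742,742,746,742,742],[]⟩,⟨0,0,[377],[]⟩,⟨2,0,[632,624,626,632,638,638,624,628],[]⟩,⟨0,0,[641],[]⟩,⟨2,0,[1296,1292,1302,1300],[]⟩,⟨0,0,[752],[]⟩,⟨2,0,[1300,1302,1302,1294,1294,1292],[]⟩,⟨0,0,[841],[]⟩,⟨2,0,[1292,1290,1302],[]⟩,⟨0,0,[788],[]⟩,⟨2,0,[776,776,786,790],[]⟩,⟨0,0,[397],[]⟩,⟨2,0,[626,632,624],[]⟩,⟨0,0,[307],[]⟩,⟨2,0,[556,556],[]⟩,⟨0,0,[285],[]⟩,⟨2,0,[554,568],[]⟩,⟨0,0,[271],[]⟩],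
  [⟨2,0,[538,524,532,530,530,534,534],[7]⟩,⟨0,0,[270],[7,4136]⟩,⟨2,0,[554,560,558,554,558,554,556],[]⟩,⟨0,0,[300],[]⟩,⟨2,0,[590,586,594,590,592],[]⟩,⟨0,0,[305],[]⟩,⟨2,0,[584,586,598,594,594],[]⟩,⟨0,0,[301],[]⟩,⟨2,0,[558,566,556,568,566,568,560],[]⟩,⟨0,0,[306],[]⟩,⟨2,0,[630,632,626,628,634,634],[]⟩,⟨0,0,[376],[]⟩,⟨2,0,[736,738,744,746,744,738],[]⟩,⟨0,0,[383],[]⟩,⟨2,0,[738,742,736,736,746],[]⟩,⟨0,0,[377],[]⟩,⟨2,0,[632,626,626,634,636,638,626],[]⟩,⟨0,0,[641],[]⟩,⟨2,0,[1304,1296,1290,1298],[]⟩,⟨0,0,[752],[]⟩,⟨2,0,[1290,1290,1294,1302,1304,1300],[]⟩,⟨0,0,[841],[]⟩,⟨2,0,[1302,1292,1294,1298],[]⟩,⟨0,0,[792],[]⟩,⟨2,0,[1290,1292,1296],[]⟩,⟨0,0,[642],[]⟩,⟨2,0,[624,626,626],[]⟩,⟨0,0,[330],[]⟩,⟨2,0,[624,624],[]⟩,⟨0,0,[307],[]⟩,⟨2,0,[556,566,566],[]⟩,⟨0,0,[271],[]⟩],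
  [⟨2,0,[538,524,532,530,530,534,534],[7]⟩,⟨0,0,[270],[7,4136]⟩,⟨2,0,[566,556,566,554,556,562,566],[]⟩,⟨0,0,[300],[]⟩,⟨2,0,[586,596,586,588,590],[]⟩,⟨0,0,[305],[]⟩,⟨2,0,[584,596,586,592],[]⟩,⟨0,0,[301],[]⟩,⟨2,0,[566,556,554,556,566,558,558],[]⟩,⟨0,0,[306],[]⟩,⟨2,0,[624,628,624,626,638],[]⟩,⟨0,0,[376],[]⟩,⟨2,0,[742,746,750,750,744,740],[]⟩,⟨0,0,[383],[]⟩,⟨2,0,[738,746,736,740,742],[]⟩,⟨0,0,[377],[]⟩,⟨2,0,[638,636,624,630,632,632,634],[]⟩,⟨0,0,[641],[]⟩,⟨2,0,[1296,1298,1290],[]⟩,⟨0,0,[747],[]⟩,⟨2,0,[1296,1290,1300,1298,1302,1292],[]⟩,⟨0,0,[841],[]⟩,⟨2,0,[1296,1290,1294,1304,1296],[]⟩,⟨0,0,[788],[]⟩,⟨2,0,[782,788,784,786],[]⟩,⟨0,0,[397],[]⟩,⟨2,0,[624,624,632],[]⟩,⟨0,0,[307],[]⟩,⟨2,0,[564,554,562,568,556],[]⟩,⟨0,0,[287],[]⟩,⟨2,0,[554,556,562],[]⟩,⟨0,0,[271],[]⟩]]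

theorem pt0_ok : relsOK opsK el.get fs.get (nth [] nwL) true 1899 1144 ptW0 ptP0 = true := by decide +kernel

/-- relators -/
def ptW1 : List (List ℕ) :=
 [[22,3,7,4,3,10,14,10,14,16,3,4,7,3,21],
  [22,3,7,4,3,5,4,10,14,10,14,16,4,5,3,4,7,3,21],
  [22,3,7,4,3,5,4,6,5,10,14,10,14,16,5,6,4,5,3,4,7,3,21],
  [22,10,14,10,14,16,21]]

/-- their proofs -/
noncomputable def ptP1 : List (List Step) :=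
 [[⟨2,0,[538,524,532,530,530,534,534],[7]⟩,⟨0,0,[270],[7,4136]⟩,⟨2,0,[556,560,554,566,558,556,564],[]⟩,⟨0,0,[300],[]⟩,⟨2,0,[588,596,598,596,586],[]⟩,⟨0,0,[305],[]⟩,⟨2,0,[586,586,596,590],[]⟩,⟨0,0,[301],[]⟩,⟨2,0,[564,568,566,566,564,554,564,564],[]⟩,⟨0,0,[306],[]⟩,⟨2,0,[632,624,630,634,624,626],[]⟩,⟨0,0,[376],[]⟩,⟨2,0,[736,742,744,748,738,738],[]⟩,⟨0,0,[383],[]⟩,⟨2,0,[736,736,736,740,742],[]⟩,⟨0,0,[377],[]⟩,⟨2,0,[632,628,628,636,628,630,624],[]⟩,⟨0,0,[641],[]⟩,⟨2,0,[1298,1298,1290,1298],[]⟩,⟨0,0,[752],[]⟩,⟨2,0,[1290,1304,1296,1302,1294,1290],[]⟩,⟨0,0,[841],[]⟩,⟨2,0,[1290,1302,1302,1290,1304,1304],[]⟩,⟨0,0,[788],[]⟩,⟨2,0,[782,788,784,786],[]⟩,⟨0,0,[397],[]⟩,⟨2,0,[626,634,624],[]⟩,⟨0,0,[307],[]⟩,⟨2,0,[568,566,560,564,558],[]⟩,⟨0,0,[287],[]⟩,⟨2,0,[564,558],[]⟩,⟨0,0,[271],[]⟩],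
  [⟨2,0,[538,524,532,530,530,534,534],[7]⟩,⟨0,0,[270],[7,4136]⟩,⟨2,0,[564,560,562,560,560,554],[]⟩,⟨0,0,[300],[]⟩,⟨2,0,[586,584,588,598,592,586],[]⟩,⟨0,0,[305],[]⟩,⟨2,0,[586,594,598,588],[]⟩,⟨0,0,[301],[]⟩,⟨2,0,[554,568,558,560,558,554,554,560],[]⟩,⟨0,0,[306],[]⟩,⟨2,0,[628,638,628,624,634,630],[]⟩,⟨0,0,[376],[]⟩,⟨2,0,[736,738,738,736,740,736],[]⟩,⟨0,0,[383],[]⟩,⟨2,0,[740,746,738,746,744],[]⟩,⟨0,0,[377],[]⟩,⟨2,0,[634,634,632,634,638,626,624],[]⟩,⟨0,0,[641],[]⟩,⟨2,0,[1300,1300,1294,1302],[]⟩,⟨0,0,[752],[]⟩,⟨2,0,[1298,1290,1300,1300,1298,1298,1304],[]⟩,⟨0,0,[841],[]⟩,⟨2,0,[1300,1292,1300,1294,1298,1290],[]⟩,⟨0,0,[792],[]⟩,⟨2,0,[1304,1290],[]⟩,⟨0,0,[642],[]⟩,⟨2,0,[628,626],[]⟩,⟨0,0,[307],[]⟩,⟨2,0,[556,556,562,558,568,558],[]⟩,⟨0,0,[287],[]⟩,⟨2,0,[558,558,556],[]⟩,⟨0,0,[271],[]⟩],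
  [⟨2,0,[538,524,532,530,530,534,534],[7]⟩,⟨0,0,[270],[7,4136]⟩,⟨2,0,[556,560,554,566,558,556,564],[]⟩,⟨0,0,[300],[]⟩,⟨2,0,[588,596,598,596,586],[]⟩,⟨0,0,[305],[]⟩,⟨2,0,[586,586,596,590],[]⟩,⟨0,0,[301],[]⟩,⟨2,0,[562,566,558,556,566,566,568,562],[]⟩,⟨0,0,[306],[]⟩,⟨2,0,[638,630,624,630,632],[]⟩,⟨0,0,[376],[]⟩,⟨2,0,[748,736,746,746,744],[]⟩,⟨0,0,[383],[]⟩,⟨2,0,[736,748,738,744,738],[]⟩,⟨0,0,[377],[]⟩,⟨2,0,[628,626,638,634,638,624,624],[]⟩,⟨0,0,[641],[]⟩,⟨2,0,[1304,1292,1290,1298],[]⟩,⟨0,0,[752],[]⟩,⟨2,0,[1296,1290,1304,1290,1304,1304],[]⟩,⟨0,0,[841],[]⟩,⟨2,0,[1300,1292,1300,1294,1298,1290],[]⟩,⟨0,0,[792],[]⟩,⟨2,0,[1304,1290],[]⟩,⟨0,0,[642],[]⟩,⟨2,0,[626,628,632],[]⟩,⟨0,0,[307],[]⟩,⟨2,0,[558,560,556,564,558],[]⟩,⟨0,0,[287],[]⟩,⟨2,0,[556],[]⟩,⟨0,0,[271],[]⟩],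
  [⟨2,0,[538,524,532,530,530,534,534],[7]⟩,⟨0,0,[270],[7,4136]⟩,⟨0,0,[271],[]⟩,⟨2,0,[532,532,528,534,526,524],[7]⟩,⟨0,0,[258],[7,0]⟩,⟨2,0,[528,532,538,534,526,526,528,536],[7]⟩,⟨0,0,[270],[7,4136]⟩,⟨2,0,[568,554,554,554,560,558],[]⟩,⟨0,0,[300],[]⟩,⟨2,0,[598,598,588,586,588,598],[]⟩,⟨0,0,[362],[]⟩,⟨2,0,[736,738,746,740],[]⟩,⟨0,0,[380],[]⟩,⟨2,0,[742,744,738],[]⟩,⟨0,0,[380],[]⟩,⟨2,0,[736,748,742,738,748,742,744,742],[]⟩,⟨0,0,[407],[]⟩,⟨2,0,[778,778,784,788,786],[]⟩,⟨0,0,[683],[]⟩,⟨2,0,[1290,1304,1296,1294,1304],[]⟩,⟨0,0,[751],[]⟩,⟨2,0,[1296,1290,1296,1290,1294],[]⟩,⟨0,0,[792],[]⟩,⟨2,0,[1292,1302],[]⟩,⟨0,0,[642],[]⟩,⟨2,0,[626,634],[]⟩,⟨0,0,[307],[]⟩,⟨2,0,[554,556,558,562,562,558],[]⟩,⟨0,0,[287],[]⟩,⟨2,0,[564,554,554],[]⟩,⟨0,0,[271],[]⟩]]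

theorem pt1_ok : relsOK opsK el.get fs.get (nth [] nwL) true 1899 1144 ptW1 ptP1 = true := by decide +kernel

/-- relators -/
def ptW2 : List (List ℕ) :=
 [[20,8,13,10,14,10,14,16,13,8,19],
  [18,9,12,10,14,10,14,16,12,9,17],
  [10,11,10,14,10,14,16,11,10]]

/-- their proofs -/
noncomputable def ptP2 : List (List Step) :=
 [[⟨2,0,[538,538,538,538,538],[7]⟩,⟨0,0,[258],[7,0]⟩,⟨2,0,[524,530,526,526,538,536,528,530,536],[7]⟩,⟨0,0,[288],[7,4408]⟩,⟨2,0,[586,590,594,584,596,594,596],[]⟩,⟨0,0,[362],[]⟩,⟨0,0,[380],[]⟩,⟨2,0,[744,744,750,736,736,738],[]⟩,⟨0,0,[383],[]⟩,⟨2,0,[736,742,740,746],[]⟩,⟨0,0,[380],[]⟩,⟨2,0,[742,748,740,748,750,742],[]⟩,⟨0,0,[377],[]⟩,⟨2,0,[638,638,634,636,636],[]⟩,⟨0,0,[376],[]⟩,⟨2,0,[742,746,73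6,750,742],[]⟩,⟨0,0,[381],[]⟩,⟨2,0,[740,750,736,742,750,744],[]⟩,⟨0,0,[381],[]⟩,⟨2,0,[738,744,746,744,736,748,744,736],[]⟩,⟨0,0,[407],[]⟩,⟨2,0,[790,780,776,786,780,790],[]⟩,⟨0,0,[667],[]⟩,⟨2,0,[1296,1302,1304,1298,1294,1302],[]⟩,⟨0,0,[762],[]⟩,⟨2,0,[976,982,976,976,976],[]⟩,⟨0,0,[564],[]⟩,⟨2,0,[976,980,984,982,988,978],[]⟩,⟨0,0,[626],[]⟩,⟨2,0,[1158,1150,1160,1164,1162],[]⟩,⟨0,0,[609],[]⟩,⟨2,0,[884,880],[]⟩,⟨0,0,[454],[]⟩,⟨2,0,[736,746,746,744],[]⟩,⟨0,0,[363],[]⟩,⟨0,0,[289],[]⟩,⟨2,0,[524,528,524,530,530,532],[7]⟩,⟨0,0,[258],[7,0]⟩],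
  [⟨2,0,[538,538,538,538,538],[7]⟩,⟨0,0,[258],[7,0]⟩,⟨2,0,[532,526,524,532,536,538,530,538],[7]⟩,⟨0,0,[288],[7,4408]⟩,⟨2,0,[592,586,588,596,594,586],[]⟩,⟨0,0,[362],[]⟩,⟨0,0,[363],[]⟩,⟨2,0,[584,586,594,594,592,594],[]⟩,⟨0,0,[305],[]⟩,⟨2,0,[592,598,586,588,590,590,594],[]⟩,⟨0,0,[362],[]⟩,⟨2,0,[742,750,740,736,742,742],[]⟩,⟨0,0,[377],[]⟩,⟨2,0,[624,636,632,638,638,636],[]⟩,⟨0,0,[376],[]⟩,⟨2,0,[740,736,738,742,744],[]⟩,⟨0,0,[383],[]⟩,⟨2,0,[738,740,750,738,748,742],[]⟩,⟨0,0,[381],[]⟩,⟨2,0,[744,744,742,736,742,738,746],[]⟩,⟨0,0,[407],[]⟩,⟨2,0,[780,786,788,784,778,790],[]⟩,⟨0,0,[667],[]⟩,⟨2,0,[1290,1300,1294,1298,1298,1300,1300],[]⟩,⟨0,0,[841],[]⟩,⟨2,0,[1290,1292,1304,1302,1290,1290],[]⟩,⟨0,0,[788],[]⟩,⟨2,0,[780,782,784,778,790,786],[]⟩,⟨0,0,[667],[]⟩,⟨2,0,[1302,1294],[]⟩,⟨0,0,[639],[]⟩,⟨2,0,[624,628,636,638,636,638],[]⟩,⟨0,0,[376],[]⟩,⟨2,0,[744,746],[]⟩,⟨0,0,[363],[]⟩,⟨0,0,[289],[]⟩,⟨2,0,[524,528,524,530,530,532],[7]⟩,⟨0,0,[258],[7,0]⟩],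
  [⟨2,0,[538,538,538,538,538],[7]⟩,⟨0,0,[258],[7,0]⟩,⟨2,0,[524,538,530,534,526,530,532,526,526],[7]⟩,⟨0,0,[288],[7,4408]⟩,⟨2,0,[588,586,598,586,590,588,588],[]⟩,⟨0,0,[362],[]⟩,⟨0,0,[363],[]⟩,⟨0,0,[302],[]⟩,⟨2,0,[592,596,584,588,594,588,584],[]⟩,⟨0,0,[362],[]⟩,⟨2,0,[738,738,736,748,750,748],[]⟩,⟨0,0,[453],[]⟩,⟨2,0,[884,874,874,884,880,870],[]⟩,⟨0,0,[696],[]⟩,⟨2,0,[1300,1292,1298,1300,1290],[]⟩,⟨0,0,[747],[]⟩,⟨2,0,[1290,1292,1296,1302],[]⟩,⟨0,0,[724],[]⟩,⟨2,0,[1154],[]⟩,⟨0,0,[624],[]⟩,⟨2,0,[1156,1150,1160,1162,1158],[]⟩,⟨0,0,[723],[]⟩,⟨2,0,[1292,1296,1298,1304,1304,1298],[]⟩,⟨0,0,[747],[]⟩,⟨2,0,[1304,1296],[]⟩,⟨0,0,[745],[]⟩,⟨2,0,[1292,1296,1290,1296,1304],[]⟩,⟨0,0,[747],[]⟩,⟨2,0,[1290,1290,1298],[]⟩,⟨0,0,[639],[]⟩,⟨2,0,[624,628,636,638,636,638],[]⟩,⟨0,0,[376],[]⟩,⟨2,0,[736,742,738,744],[]⟩,⟨0,0,[363],[]⟩,⟨0,0,[289],[]⟩,⟨2,0,[524,528,524,530,530,532],[7]⟩,⟨0,0,[258],[7,0]⟩]]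

theorem pt2_ok : relsOK opsK el.get fs.get (nth [] nwL) true 1899 1144 ptW2 ptP2 = true := by decide +kernel

/-- relators -/
def ptW3 : List (List ℕ) :=
 [[10,14,10,14,16],
  [18,10,14,10,14,16,17],
  [20,10,14,10,14,16,19]]

/-- their proofs -/
noncomputable def ptP3 : List (List Step) :=
 [[⟨2,0,[538,538,538,538,538],[7]⟩,⟨0,0,[258],[7,0]⟩,⟨2,0,[524,538,530,534,526,530,532,526,526],[7]⟩,⟨0,0,[288],[7,4408]⟩,⟨2,0,[588,586,598,586,590,588,588],[]⟩,⟨0,0,[362],[]⟩,⟨2,0,[736,742,742,736,736,748],[]⟩,⟨0,0,[453],[]⟩,⟨2,0,[870,876,884,872,880,880,874],[]⟩,⟨0,0,[696],[]⟩,⟨2,0,[1298,1290,1300,1300,1298],[]⟩,⟨0,0,[747],[]⟩,⟨2,0,[1290,1290,1290,1294,1304],[]⟩,⟨0,0,[724],[]⟩,⟨2,0,[1154,1160,1152],[]⟩,⟨0,0,[589],[]⟩,⟨2,0,[742,736,750,742,742,740],[]⟩,⟨0,0,[377],[]⟩,⟨2,0,[624,628,624,638,632,626,630,632],[]⟩,⟨0,0,[396],[]⟩,⟨2,0,[776,778,782,790],[]⟩,⟨0,0,[418],[]⟩,⟨2,0,[778,784,778],[]⟩,⟨0,0,[397],[]⟩,⟨2,0,[626,634],[]⟩,⟨0,0,[307],[]⟩,⟨2,0,[556,556],[]⟩,⟨0,0,[271],[]⟩],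
  [⟨2,0,[538,538,538,538,538],[7]⟩,⟨0,0,[258],[7,0]⟩,⟨2,0,[528,526,530,534,536],[7]⟩,⟨0,0,[258],[7,0]⟩,⟨2,0,[530,538,526,534,526],[7]⟩,⟨0,0,[258],[7,0]⟩,⟨2,0,[530,526,526,528,526,524,526,536],[7]⟩,⟨0,0,[270],[7,4136]⟩,⟨2,0,[554,568,562,562,560,568,560],[]⟩,⟨0,0,[300],[]⟩,⟨2,0,[586,598,588,584,596,594,588],[]⟩,⟨0,0,[362],[]⟩,⟨2,0,[736,738,738,736],[]⟩,⟨0,0,[380],[]⟩,⟨2,0,[746,736,736,742,738,750,744,736],[]⟩,⟨0,0,[407],[]⟩,⟨2,0,[790,786,786,778],[]⟩,⟨0,0,[683],[]⟩,⟨2,0,[1290,1304,1294,1298,1292,1304],[]⟩,⟨0,0,[739],[]⟩,⟨2,0,[1292,1298,1302],[]⟩,⟨0,0,[662],[]⟩,⟨2,0,[778,776,784,782],[]⟩,⟨0,0,[397],[]⟩,⟨2,0,[626,628,624],[]⟩,⟨0,0,[307],[]⟩,⟨2,0,[556,556],[]⟩,⟨0,0,[271],[]⟩],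
  [⟨0,0,[258],[7,0]⟩,⟨2,0,[536,526,538,530,532,538],[7]⟩,⟨0,0,[258],[7,0]⟩,⟨2,0,[526,526,536,538,526],[7]⟩,⟨0,0,[258],[7,0]⟩,⟨2,0,[532,536,524,532,532,526,526],[7]⟩,⟨0,0,[270],[7,4136]⟩,⟨2,0,[568,568,562,568,564,554],[]⟩,⟨0,0,[300],[]⟩,⟨2,0,[594,592,598,590,598],[]⟩,⟨0,0,[305],[]⟩,⟨2,0,[592,596,596,584],[]⟩,⟨0,0,[303],[]⟩,⟨2,0,[586,594,598,594,596],[]⟩,⟨0,0,[323],[]⟩,⟨2,0,[628,624,636,636,634,634],[]⟩,⟨0,0,[354],[]⟩,⟨2,0,[680,692,688,692,688,686,692],[]⟩,⟨0,0,[449],[]⟩,⟨2,0,[872,880,878,882],[]⟩,⟨0,0,[450],[]⟩,⟨2,0,[680],[]⟩,⟨0,0,[336],[]⟩,⟨2,0,[562,566],[]⟩,⟨0,0,[271],[]⟩,⟨2,0,[524,526,536,538,530],[7]⟩,⟨0,0,[258],[7,0]⟩]]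

theorem pt3_ok : relsOK opsK el.get fs.get (nth [] nwL) true 1899 1144 ptW3 ptP3 = true := by decide +kernel

end CfsgLib.Mon.Ym
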