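import Mathlib
import Cfsg.Agent.Lib.Mon.RkC
import Cfsg.Agent.Lib.Mon.Four1
import Cfsg.Agent.Lib.MonRec.OnC

/-!
The extraspecial groups `Q_s` attached to the `2B` involutions of the Monster, and arks.
-/

set_option autoImplicit false

namespace CfsgLib.Mon.Mx

open Cfsg CfsgLib.Leech CfsgLib.MType CfsgLib.OrthE CfsgLib.Golay Subgroup QuadraticMap
open scoped commutatorElement Pointwise

variable {G : Type*} [Group G] {π0 π : C k0 →* G} {τ : G}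

/-- a conjugate of the basic frame -/
structure Frm (π0 π : C k0 →* G) (τ : G) : Prop where
  ms : MS π τ
  cj : ∃ g, ∀ c, π c = g * π0 c * g⁻¹

/-- the class `2B` -/
def B2 (π0 : C k0 →* G) (s : G) : Prop := ∃ π τ, Frm π0 π τ ∧ π (z k0) = s

/-- the group `Q_s` -/
def QQ (π0 : C k0 →* G) (s : G) : Subgroup G where
  carrier := {x | ∀ g, g * π0 (z k0) * g⁻¹ = s → g⁻¹ * x * g ∈ (Q k0).map π0}
  one_mem' := fun g _ => by simp
  mul_mem' := fun ha hb g e => by simpa [mul_assoc] using mul_mem (ha g e) (hb g e)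
  inv_mem' := fun ha g e => by simpa [mul_assoc] using inv_mem (ha g e)

theorem conj_mem_QQ {s x : G} (g : G) (h : x ∈ QQ π0 s) : g * x * g⁻¹ ∈ QQ π0 (g * s * g⁻¹) := fun k e => by
  simpa [mul_assoc] using h (g⁻¹ * k) (by
    rw [show g⁻¹ * k * π0 (z k0) * (g⁻¹ * k)⁻¹ = g⁻¹ * (k * π0 (z k0) * k⁻¹) * g by group, e]; group)

theorem conj_mem_QQ_iff {s x : G} (g : G) : g * x * g⁻¹ ∈ QQ π0 (g * s * g⁻¹) ↔ x ∈ QQ π0 s :=
  ⟨fun h => by simpa [mul_assoc] using conj_mem_QQ g⁻¹ h, conj_mem_QQ g⟩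

theorem conj_mem_of_comm {s x g : G} (e : g * s = s * g) (h : x ∈ QQ π0 s) : g * x * g⁻¹ ∈ QQ π0 s := by
  simpa [e] using conj_mem_QQ g h

theorem comm_mem_QQ {s x g : G} (e : g * s = s * g) (h : x ∈ QQ π0 s) : ⁅g, x⁆ ∈ QQ π0 s :=
  mul_mem (conj_mem_of_comm e h) (inv_mem h)

theorem comm_mem_QQ' {s x g : G} (e : g * s = s * g) (h : x ∈ QQ π0 s) : ⁅x, g⁆ ∈ QQ π0 s :=
  commutatorElement_inv g x ▸ inv_mem (comm_mem_QQ e h)

theorem fst_tau (e : ZMod 2) {v : V24} (hv : v.1 = 0) : ∃ e' v', v'.1 = 0 ∧ (q k0 e v, q k0 e' v') ∈ Gam k0 := by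
  have := MonRec.gam13 std_k0 (e + v.2 ⬝ᵥ a0 k0) (v := v + (e + v.2 ⬝ᵥ a0 k0) • w0 k0) (by simp [hv, std_k0.w0_fst])
  rw [add_assoc v, ← add_smul, z2_add_self, zero_smul, add_zero, Prod.snd_add, Prod.smul_snd, add_dotProduct,
    smul_dotProduct, std_k0.w0_dot_a0, smul_eq_mul, mul_one, add_comm e, ← add_assoc, z2_add_self, zero_add] at this
  exact ⟨_, _, by simp [hv, std_k0.w0_fst], this⟩

namespace Frm

theorem mm (h : Frm π0 π τ) : MM π τ := h.ms.mm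

theorem conj (h : Frm π0 π τ) (g : G) : ∃ π' τ', Frm π0 π' τ' ∧ ∀ c, π' c = g * π c * g⁻¹ :=
  let ⟨k, hk⟩ := h.cj
  ⟨_, _, ⟨Cov.ms_map h.ms (MulAut.conj g), g * k, fun c => by simp [hk, mul_assoc]⟩, fun _ => rfl⟩

theorem b2_iff (h : Frm π0 π τ) {x : G} : B2 π0 x ↔ IsConj (π (z k0)) x := by
  refine ⟨?_, fun e => ?_⟩
  · rintro ⟨π', τ', h', rfl⟩
    obtain ⟨g, hg⟩ := h.cj
    obtain ⟨g', hg'⟩ := h'.cj
    exact isConj_iff.2 ⟨g' * g⁻¹, by rw [hg, hg']; group⟩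
  · obtain ⟨g, rfl⟩ := isConj_iff.1 e
    obtain ⟨π', τ', h', e⟩ := h.conj g
    exact ⟨π', τ', h', e _⟩

theorem b2_z (h : Frm π0 π τ) : B2 π0 (π (z k0)) := ⟨π, τ, h, rfl⟩

theorem mem_QQ (h : Frm π0 π τ) {x : G} : x ∈ QQ π0 (π (z k0)) ↔ ∃ e v, x = π (q k0 e v) := by
  obtain ⟨g, hg⟩ := h.cj
  refine ⟨fun hx => ?_, ?_⟩
  · obtain ⟨_, ⟨e, v, rfl⟩, e1⟩ := hx g (hg _).symm
    exact ⟨e, v, by rw [hg, e1]; group⟩
  · rintro ⟨e, v, rfl⟩ k hk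
    obtain ⟨c, hc⟩ := h.mm.exists_eq' (g := g * k⁻¹) (by conv_lhs => rw [← hk]
                                                         rw [hg]; group)
    refine ⟨c * q k0 e v * c⁻¹, normal_Q.conj_mem _ (q_mem_Q _ _) _, ?_⟩
    refine (MulAut.conj g).injective ?_
    rw [MulAut.conj_apply, MulAut.conj_apply, ← hg, map_mul, map_mul, map_inv, hc]; group

theorem q_mem (h : Frm π0 π τ) (e : ZMod 2) (v : V24) : π (q k0 e v) ∈ QQ π0 (π (z k0)) := h.mem_QQ.2 ⟨e, v, rfl⟩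

theorem mem_QQ' (h : Frm π0 π τ) {c : C k0} : π c ∈ QQ π0 (π (z k0)) ↔ c ∈ Q k0 := by
  rw [h.mem_QQ, mem_Q]; simp only [h.ms.inj.eq_iff]

theorem b2_w (h : Frm π0 π τ) (f : ZMod 2) : B2 π0 (π (q k0 f (w0 k0))) :=
  h.b2_iff.2 (h.ms.am.isConj_four f (sqNorm_e8 none))

theorem mem_w (h : Frm π0 π τ) (e f : ZMod 2) {v : V24} (hv : v.1 = 0) :
    π (q k0 e v) ∈ QQ π0 (π (q k0 f (w0 k0))) := by
  have k : ∀ e v, v.1 = 0 → π (q k0 e v) ∈ QQ π0 (π (q k0 0 (w0 k0))) := fun e v hv => by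
    obtain ⟨e', v', -, a⟩ := fst_tau e hv
    rw [← h.ms.am.conj a, ← h.ms.am.conj_z]
    exact conj_mem_QQ τ (h.q_mem _ _)
  rcases z2_cases f with rfl | rfl
  · exact k e v hv
  · obtain ⟨e', v', b, a⟩ := fst_tau e hv
    rw [← h.ms.am.conj a, ← h.ms.am.conj_z'']
    exact conj_mem_QQ τ (k _ _ b)

theorem four (h : Frm π0 π τ) [Finite G] {e : ZMod 2} {v : V24} (hb : B2 π0 (π (q k0 e v))) (h0 : v ≠ 0) :
    ∃ u : leechLattice, sqNorm u.1 = 64 ∧ k0.φ u = v := by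
  have hb := h.b2_iff.1 hb
  obtain ⟨u, ⟨f, a⟩, b | b⟩ := mt_C.exists_type (q_mem_Q (κ := k0) e v) (fun a => h0 (q_inj (a.trans q_zero.symm)).2)
    (fun a => h0 (q_inj a).2) (h.ms.inj (by rw [map_mul, map_one]; exact MonRec.sq_of_isConj_z hb))
  · exact absurd (a ▸ hb) (h.mm.not_isConj_short f b)
  · exact ⟨u, b, (q_inj a).2.symm⟩

end Frm

namespace B2

variable {s r t x y : G}

theorem conj (h : B2 π0 s) (g : G) : B2 π0 (g * s * g⁻¹) := by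
  obtain ⟨π, τ, h, rfl⟩ := h
  exact h.b2_iff.2 (isConj_iff.2 ⟨g, rfl⟩)

theorem sq (h : B2 π0 s) : s * s = 1 := by
  obtain ⟨π, τ, -, rfl⟩ := h
  rw [← map_mul, z_mul_self, map_one]

theorem ne_one (h : B2 π0 s) : s ≠ 1 := by
  obtain ⟨π, τ, h, rfl⟩ := h
  exact h.mm.z_ne_one

theorem mem (h : B2 π0 s) : s ∈ QQ π0 s := by
  obtain ⟨π, τ, h, rfl⟩ := h
  exact h.q_mem _ _

theorem comm (h : B2 π0 s) (hx : x ∈ QQ π0 s) : x * s = s * x := by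
  obtain ⟨π, τ, h, rfl⟩ := h
  obtain ⟨e, v, rfl⟩ := h.mem_QQ.1 hx
  exact h.mm.comm_z _

theorem comm_or (h : B2 π0 s) (hx : x ∈ QQ π0 s) (hy : y ∈ QQ π0 s) : ⁅x, y⁆ = 1 ∨ ⁅x, y⁆ = s := by
  obtain ⟨π, τ, h, rfl⟩ := h
  obtain ⟨e, v, rfl⟩ := h.mem_QQ.1 hx
  obtain ⟨f, w, rfl⟩ := h.mem_QQ.1 hy
  rw [← map_commutatorElement, commutatorElement_def, conj_q, cε_q, cact_q]
  rcases z2_cases (om v w) with a | a <;> rw [a]
  · left; simp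
  · right; rw [← z_mul_q, mul_inv_cancel_right]

theorem sq_or (h : B2 π0 s) (hx : x ∈ QQ π0 s) : x * x = 1 ∨ x * x = s := by
  obtain ⟨π, τ, h, rfl⟩ := h
  obtain ⟨e, v, rfl⟩ := h.mem_QQ.1 hx
  rw [← map_mul, q_mul_self]
  rcases z2_cases (qf v) with a | a <;> rw [a]
  exacts [Or.inl (by simp), Or.inr rfl]

theorem cent (h : B2 π0 s) (hx : ∀ y ∈ QQ π0 s, y * x = x * y) : x = 1 ∨ x = s := by
  obtain ⟨π, τ, h, rfl⟩ := h
  obtain ⟨c, rfl⟩ := h.mm.exists_eq (hx _ h.b2_z.mem).symm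
  exact (cent_Q fun y hy => h.mm.comm_iff.1 (hx _ (h.mem_QQ'.2 hy))).imp (by rintro rfl; simp) (congrArg π)

theorem card (h : B2 π0 s) : Nat.card (QQ π0 s) = 2 ^ 25 := by
  obtain ⟨π, τ, h, rfl⟩ := h
  rw [← card_Q (κ := k0), ← card_map_of_injective h.ms.inj]
  congr 2; ext x
  exact h.mem_QQ.trans ⟨fun ⟨e, v, a⟩ => ⟨_, q_mem_Q e v, a.symm⟩, fun ⟨_, ⟨e, v, a⟩, b⟩ => ⟨e, v, a ▸ b.symm⟩⟩

variable [Finite G]

theorem pair (hs : B2 π0 s) (hr : B2 π0 r) (h : r ∈ QQ π0 s) (hne : r ≠ s) :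
    ∃ π τ, Frm π0 π τ ∧ π (z k0) = s ∧ π (q k0 0 (w0 k0)) = r := by
  obtain ⟨π, τ, k, rfl⟩ := hs
  obtain ⟨e, v, rfl⟩ := k.mem_QQ.1 h
  obtain ⟨u, h1, rfl⟩ := k.four hr (by
    rintro rfl
    rcases z2_cases e with rfl | rfl
    exacts [hr.ne_one (by simp), hne rfl])
  obtain ⟨c, hc⟩ := conj_four (κ := k0) (sqNorm_e8 none) h1 0 e
  obtain ⟨π', τ', k', a⟩ := k.conj (π c)
  exact ⟨π', τ', k', by rw [a, k.mm.comm_z, mul_inv_cancel_right], by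
    rw [a, ← hc, map_mul, map_mul, map_inv]; rfl⟩

theorem symm (hs : B2 π0 s) (hr : B2 π0 r) (h : r ∈ QQ π0 s) : s ∈ QQ π0 r := by
  by_cases e : r = s
  · exact e ▸ h
  obtain ⟨π, τ, k, rfl, rfl⟩ := hs.pair hr h e
  exact k.mem_w _ _ rfl

theorem mul (hs : B2 π0 s) (hr : B2 π0 r) (h : r ∈ QQ π0 s) (hne : r ≠ s) : B2 π0 (s * r) := by
  obtain ⟨π, τ, k, rfl, rfl⟩ := hs.pair hr h hne
  rw [← map_mul, z_mul_q]
  exact k.b2_w _

theorem comm_of (hs : B2 π0 s) (hr : B2 π0 r) (hne : r ≠ s) (h1 : x ∈ QQ π0 s) (h2 : y ∈ QQ π0 s)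
    (h3 : x ∈ QQ π0 r) (h4 : y ∈ QQ π0 r) : x * y = y * x :=
  commutatorElement_eq_one_iff_mul_comm.1 ((hs.comm_or h1 h2).elim id fun a =>
    (hr.comm_or h3 h4).resolve_right fun b => hne (b.symm.trans a))

end B2

theorem Frm.inf13 [Finite G] (h : Frm π0 π τ) {x : G} {f : ZMod 2} (h1 : x ∈ QQ π0 (π (z k0)))
    (h2 : x ∈ QQ π0 (π (q k0 f (w0 k0)))) : ∃ e v, v.1 = 0 ∧ x = π (q k0 e v) := by
  obtain ⟨e, v, rfl⟩ := h.mem_QQ.1 h1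
  exact ⟨e, v, MonRec.fst_eq_zero fun w hw => q_comm_iff.1 (h.mm.comm_iff.1 (h.b2_z.comm_of (h.b2_w f)
    (fun a => w0_ne_zero (q_inj (h.ms.inj a)).2) h1 (h.q_mem 0 w) h2 (h.mem_w _ _ hw))), rfl⟩

namespace B2

variable [Finite G] {s r t x y : G}

theorem mem_mul (hs : B2 π0 s) (hr : B2 π0 r) (h : r ∈ QQ π0 s) (hne : r ≠ s) (h1 : x ∈ QQ π0 s)
    (h2 : x ∈ QQ π0 r) : x ∈ QQ π0 (s * r) := by
  obtain ⟨π, τ, k, rfl, rfl⟩ := hs.pair hr h hne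
  obtain ⟨e, v, a, rfl⟩ := k.inf13 h1 h2
  rw [← map_mul, z_mul_q]
  exact k.mem_w _ _ a

/-- the common neighbour is a commutator -/
theorem exists_comm (hs : B2 π0 s) (hr : B2 π0 r) (h : r ∈ QQ π0 s) (h1 : t ∈ QQ π0 r) (h2 : t ∉ QQ π0 s) :
    ∃ x ∈ QQ π0 s, x ∈ QQ π0 r ∧ ⁅t, x⁆ = r := by
  obtain ⟨π, τ, k, rfl, rfl⟩ := hs.pair hr h (by rintro rfl; exact h2 h1)
  by_contra! a
  have b : ∀ e v, v.1 = 0 → t * π (q k0 e v) = π (q k0 e v) * t := fun e v hv =>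
    commutatorElement_eq_one_iff_mul_comm.1 ((hr.comm_or h1 (k.mem_w _ _ hv)).resolve_right
      (a _ (k.q_mem _ _) (k.mem_w _ _ hv)))
  obtain ⟨c, rfl⟩ := k.mm.exists_eq (b 1 0 rfl)
  obtain ⟨e, v, -, rfl⟩ := MonRec.cent13 std_k0 (c := c) fun v hv => by
    rw [k.mm.comm_iff.1 (b 0 v hv), mul_inv_cancel_right]
  exact h2 (k.q_mem _ _)

end B2

/-- the centralizer of an ark -/
abbrev OO (ι : V10 → G) : Subgroup G := centralizer (Set.range ι)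

theorem mem_OO {ι : V10 → G} {g : G} : g ∈ OO ι ↔ ∀ x, ι x * g = g * ι x := by
  simp [mem_centralizer_iff]

/-- the properties of an ark at a singular point -/
structure At (π0 : C k0 →* G) (S : Set G) (s : G) : Prop where
  card : Nat.card (QQ π0 s ⊓ centralizer S : Subgroup G) = 2 ^ 17
  cent : ∀ g, (∀ y ∈ QQ π0 s, y ∈ centralizer S → y * g = g * y) → g ∈ S
  fix : ∀ a ∈ S, a ∉ QQ π0 s → ∀ y ∈ QQ π0 s, ⁅a, y⁆ = 1 ∨ ⁅a, y⁆ = s → y ∈ centralizer S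
  im : ∀ a ∈ S, ∀ y ∈ QQ π0 s, ⁅a, y⁆ ∈ S
  two : ∀ a ∈ S, a ∉ QQ π0 s → ∀ y ∈ QQ π0 s, y * a * (y * a) = 1 → y * a ∈ S ∨ B2 π0 (y * a)

/-- arks -/
structure Ark (π0 : C k0 →* G) (ι : V10 → G) : Prop where
  ea : EA ι
  sing : ∀ x, x ≠ 0 → (B2 π0 (ι x) ↔ Q10 x = 0)
  mem : ∀ {r}, r ≠ 0 → Q10 r = 0 → ∀ x, ι x ∈ QQ π0 (ι r) ↔ polar Q10 r x = 0
  card : Nat.card (OO ι) = 2 ^ 26
  cm : ∀ a ∈ OO ι, ∀ b ∈ OO ι, ∃ x, ι x = ⁅a, b⁆
  sq : ∀ a ∈ OO ι, ∃ x, ι x = a * a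
  loc : ∀ {r}, r ≠ 0 → Q10 r = 0 → At π0 (Set.range ι) (ι r)
  rank : ∀ E : Subgroup G, (∀ x ∈ E, x * x = 1) → Nat.card E ≤ 2 ^ 15

theorem mem_Fb_of_fix {v : V24} (h : k0.act tO v = v) : v ∈ Fb k0 := by
  obtain ⟨l, rfl⟩ := k0.surj v
  obtain ⟨u, hu⟩ := k0.φ_eq_iff.1 ((k0.act_φ _ _).symm.trans h)
  have a : ∀ i, (if i ∈ d0 then -l.1 i else l.1 i) - l.1 i = 2 * u.1 i := fun i => congrFun (congrArg Subtype.val hu) i
  rw [← add_sub_cancel_right l u, φ_sub]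
  refine add_mem (φ_mem_Fb fun i hi => ?_) (std_k0.Ub_le (φ_mem_Ub fun i hi => ?_)) <;> have := a i <;>
    simp only [hi, if_true, if_false] at this
  · show l.1 i + u.1 i = 0; omega
  · omega

theorem cact_i0 {x : V10} (h : x (.inr 0) = 1) (v : V24) : cact (i0 x) v = k0.act tO v := by
  simp [i0, h, f0, cact_mul, ZMod.val_one, isY_y0.g_eq, tO]

theorem card_Fb : Nat.card (Fb k0) = 2 ^ 16 := by
  have := card_perp (Ub k0)
  rw [card_Ub] at this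
  exact Nat.eq_of_mul_eq_mul_right (by norm_num) (this.trans (by norm_num))

theorem ls_mem_Ub {δ : Finset GolayPt} (h : δ ⊆ d0) (h2 : δ.card % 2 = 0) : ls k0 δ ∈ Ub k0 := by
  have : ls k0 δ = ∑ i ∈ δ, k0.φ (dlL i none) := by
    simp only [φ_dlL, Finset.sum_add_distrib, Finset.sum_const, even_nsmul h2, add_zero, ls]
  exact this ▸ sum_mem fun i hi => φ_mem_Ub (dlL_mem_Ld (h hi) none_mem_d0)

namespace Frm

variable [Finite G]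

theorem mem_O (h : Frm π0 π τ) {g : G} : (g ∈ OO fun x => π (i0 x)) ↔ ∃ c ∈ CA k0 (Ub k0), π c = g := by
  obtain ⟨ρ, hρ, -, hk⟩ := h.mm.exists_rho_ten
  rw [mem_OO]
  refine ⟨fun e => ?_, fun ⟨c, hc, e⟩ x => ?_⟩
  · exact (hk ⟨g, h.mm.ea_ten.mem_norm.2 fun a => ⟨a, by rw [← e, mul_inv_cancel_right]⟩⟩).1
      (O_ext fun x => h.mm.ea_ten.inj ((hρ _ x).symm.trans (by rw [← e, mul_inv_cancel_right]; rfl)))
  · have := hρ ⟨π c, h.mm.mem_norm_ten fun u hu => by rwa [(mem_CA.1 hc u hu).2]⟩ x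
    rw [(hk _).2 ⟨c, hc, rfl⟩, mul_inv_eq_iff_eq_mul] at this
    exact e ▸ this.symm

theorem q_mem_O (h : Frm π0 π τ) {e : ZMod 2} {v : V24} : (π (q k0 e v) ∈ OO fun x => π (i0 x)) ↔ v ∈ Fb k0 := by
  rw [h.mem_O]
  exact ⟨fun ⟨c, a, b⟩ => q_mem_CA.1 (h.ms.inj b ▸ a), fun a => ⟨_, q_mem_CA.2 a, rfl⟩⟩

theorem mem_A (h : Frm π0 π τ) {c : C k0} : (π c ∈ Set.range fun x => π (i0 x)) ↔ c ∈ CA k0 (Fb k0) :=
  ⟨fun ⟨x, e⟩ => h.ms.inj e ▸ i0_mem x, fun e => (exists_i0 e).imp fun _ => congrArg π⟩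

theorem i0_mem_QQ (h : Frm π0 π τ) {x : V10} : π (i0 x) ∈ QQ π0 (π (z k0)) ↔ x (.inr 0) = 0 := by
  rw [h.mem_QQ']
  refine ⟨fun e => (z2_cases _).resolve_right fun a => f0_notMem ?_, fun e => i0_of_zero e ▸ q_mem_Q _ _⟩
  rwa [i0, a, ZMod.val_one, pow_one, mul_mem_cancel_left (q_mem_Q _ _)] at e

theorem loc (h : Frm π0 π τ) : At π0 (Set.range fun x => π (i0 x)) (π (z k0)) := by
  have k : ∀ (c : C k0) e v, ⁅π c, π (q k0 e v)⁆ = π (q k0 (cε c v + qf v + bet (cact c v) v) (cact c v + v)) :=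
    fun c e v => by
      rw [← map_commutatorElement, commutatorElement_def, conj_q, q_inv, q_mul]
      congr 2; linear_combination z2_add_self e
  have k2 : ∀ x, π (i0 x) ∉ QQ π0 (π (z k0)) → ∀ v, cact (i0 x) v + v = 0 → v ∈ Fb k0 := fun x hx v a =>
    mem_Fb_of_fix (by
      rw [← cact_i0 ((z2_cases _).resolve_left (mt h.i0_mem_QQ.2 hx)), eq_of_add_eq_zero' a])
  refine ⟨?_, fun g hg => ?_, ?_, ?_, ?_⟩
  · rw [show (2 : ℕ) ^ 17 = 2 * Nat.card (Fb k0) by rw [card_Fb]; rfl,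
      ← card_inf_Q (z_mem_CA (Ub k0)) (Fb k0) fun v => q_mem_CA.symm, ← card_map_of_injective h.ms.inj]
    congr 2; ext x
    refine ⟨fun ⟨a, b⟩ => ?_, ?_⟩
    · obtain ⟨e, v, rfl⟩ := h.mem_QQ.1 a
      exact ⟨_, ⟨q_mem_CA.2 (h.q_mem_O.1 b), q_mem_Q _ _⟩, rfl⟩
    · rintro ⟨c, ⟨a, b⟩, rfl⟩
      exact ⟨h.mem_QQ'.2 b, h.mem_O.2 ⟨c, a, rfl⟩⟩
  · obtain ⟨c, rfl⟩ := h.mm.exists_eq (hg _ h.b2_z.mem (h.q_mem_O.2 (zero_mem _))).symm
    refine h.mem_A.2 ?_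
    rintro _ ⟨u, hu, rfl⟩
    exact h.mm.comm_iff.1 (hg _ (h.q_mem _ _) (h.q_mem_O.2 hu))
  · rintro _ ⟨x, rfl⟩ hx y hy e
    obtain ⟨f, v, rfl⟩ := h.mem_QQ.1 hy
    rw [k, ← map_one π, ← q_zero] at e
    exact h.q_mem_O.2 (k2 x hx v (e.elim (fun a => (q_inj (h.ms.inj a)).2) fun a => (q_inj (h.ms.inj a)).2))
  · rintro _ ⟨x, rfl⟩ y hy
    obtain ⟨f, v, rfl⟩ := h.mem_QQ.1 hy
    obtain ⟨c, hc⟩ := mk_surjective (i0 x)
    rw [k, h.mem_A, q_mem_CA, ← hc, cact_mk]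
    exact act_add_mem_perp (mem_img_CA.1 ⟨c, by simpa [hc] using i0_mem x, rfl⟩) v
  · rintro _ ⟨x, rfl⟩ hx y hy e
    obtain ⟨f, v, rfl⟩ := h.mem_QQ.1 hy
    have h1 := (z2_cases _).resolve_left (mt h.i0_mem_QQ.2 hx)
    obtain ⟨f', u, a⟩ : (Mon.mk k0 y0)⁻¹ * (q k0 f v * i0 x) ∈ Q k0 := by
      rw [normal_Q.mem_comm_iff, mul_assoc, mul_mem_cancel_left (q_mem_Q _ _), i0, h1, ZMod.val_one, pow_one, mul_assoc,
        mul_mem_cancel_left (q_mem_Q _ _), f0]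
      exact normal_Q.conj_mem _ (q_mem_Q _ _) _
    rw [inv_mul_eq_iff_eq_mul] at a
    rw [← map_mul, a] at e ⊢
    rcases MonRec.two_of_ms h.ms _ e with b | b | b
    · exact Or.inl ⟨0, h.mm.ea_ten.zero.trans b.symm⟩
    · exact Or.inl (h.mem_A.2 (mul_mem y0_mem (q_mem_CA.2 fun w hw => (om_comm _ _).trans
        (h.ms.perp_of_isConj isY_y0 d0_oct.2 b (isY_y0.g_eq ▸ act_tO hw)))))
    · exact Or.inr (h.b2_iff.2 b)

theorem exists_iso (h : Frm π0 π τ) {g : O Q10} (hg : g ∈ OrthE.E Q10) :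
    ∃ π' τ', Frm π0 π' τ' ∧ ∀ x, π' (i0 x) = π (i0 (g.1 x)) := by
  obtain ⟨ρ, hρ, hE, -⟩ := h.mm.exists_rho_ten
  obtain ⟨n, rfl⟩ := hE hg
  obtain ⟨π', τ', h', e⟩ := h.conj n
  exact ⟨π', τ', h', fun x => (e _).trans (hρ n x)⟩

theorem exists_pt (h : Frm π0 π τ) {r : V10} (h0 : r ≠ 0) (hr : Q10 r = 0) :
    ∃ π' τ', ∃ g : O Q10, Frm π0 π' τ' ∧ g.1 e10 = r ∧ ∀ x, π' (i0 x) = π (i0 (g.1 x)) := by
  have hy := hyp_qPlus (F := ZMod 2) (m := 5) 0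
  have hQ := nondeg_qPlus (F := ZMod 2) 5
  obtain ⟨g, hg, b, hb, e⟩ := hy.exists_E_singular hQ (hy.exists_nonsingular hQ (by simp))
    (x := e10) (by simp) h0 hy.he hr
  obtain ⟨π', τ', h', e'⟩ := h.exists_iso hg
  exact ⟨π', τ', g, h', by rw [e, (z2_cases b).resolve_left hb, one_smul], e'⟩

theorem ark (h : Frm π0 π τ) : Ark π0 fun x => π (i0 x) := by
  refine ⟨h.mm.ea_ten, fun x hx => ?_, fun h0 hr x => ?_, ?_, fun a ha b hb => ?_, fun a ha => ?_, fun h0 hr => ?_,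
    fun E hE => h.mm.rank.2 E ⟨⟨fun a b => Subtype.ext (MonRec.mul_comm_of_sq hE a.2 b.2)⟩⟩
      fun a ha => (pow_two a).trans (hE a ha)⟩
  · rw [h.b2_iff, ← h.mm.sing_iff, h.mm.ea_ten.eq_one, or_iff_right hx]
  · obtain ⟨π', τ', g, h', rfl, e⟩ := h.exists_pt h0 hr
    rw [← O_apply_inv_apply g x, ← e, ← e, i0_e, h'.i0_mem_QQ, O_polar, polar_comm, polar_qPlus_inl]
  · rw [← card_CA_Ub (κ := k0), ← card_map_of_injective h.ms.inj]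
    congr 2; ext x; exact h.mem_O
  · obtain ⟨a, a1, rfl⟩ := h.mem_O.1 ha
    obtain ⟨b, b1, rfl⟩ := h.mem_O.1 hb
    exact map_commutatorElement π a b ▸ h.mem_A.2 (commutator_mem a1 b1)
  · obtain ⟨a, a1, rfl⟩ := h.mem_O.1 ha
    exact map_mul π a a ▸ h.mem_A.2 (mul_self_mem a1)
  · obtain ⟨π', τ', g, h', rfl, e⟩ := h.exists_pt h0 hr
    have := h'.loc
    rwa [← i0_e, funext e, e, show (Set.range fun x => π (i0 (g.1 x))) = Set.range fun x => π (i0 x) from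
      g.1.surjective.range_comp fun x => π (i0 x)] at this

/-- the frame attached to an octad -/
theorem exists_oct (h : Frm π0 π τ) {o : Finset GolayPt} (ho : o ∈ octads) : ∃ π' τ', ∃ σ : M24, Frm π0 π' τ' ∧
    σ • d0 = o ∧ π' (z k0) = π (z k0) ∧ (∀ f, π' (q k0 f (w0 k0)) = π (q k0 f (w0 k0))) ∧
    (∃ k : Chat k0, k.g = permAut σ ∧ ∀ c, π' c = π (Mon.mk k0 k * c * (Mon.mk k0 k)⁻¹)) ∧
    (∀ δ ⊆ o, δ.card % 2 = 0 → ∀ (e : ZMod 2) (n : ℕ), ∃ x, π' (i0 x) = π (q k0 e (ls k0 δ + n • w0 k0))) ∧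
    ∀ e v, (π (q k0 e v) ∈ OO fun x => π' (i0 x)) → om (xv k0 o) v = 0 := by
  obtain ⟨σ, rfl⟩ := MOrb.trans_oct ho
  obtain ⟨x, hx, hσ⟩ := std_k0.exists_E σ
  obtain ⟨π', τ', h', e⟩ := h.conj (π (Mon.mk k0 x))
  have e1 : ∀ c, π' c = π (Mon.mk k0 x * c * (Mon.mk k0 x)⁻¹) := fun c => by rw [e, map_mul, map_mul, map_inv]
  have e2 : ∀ f v, ∃ f', π (q k0 f (k0.act (permAut σ) v)) = π' (q k0 f' v) := fun f v =>
    ⟨f + x.ε v, by rw [e1, mk_conj_q, hσ, add_assoc, z2_add_self, add_zero]⟩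
  have hN := mk_mem_Nxyz.1 (std_k0.isE_mem_Nxyz hx)
  refine ⟨π', τ', σ, h', rfl, by rw [e1, z_comm, mul_inv_cancel_right], fun f => by
    rw [e1, mk_conj_q, hN.1, add_zero, act_w0_iff.2 hN.2], ⟨_, hσ, e1⟩,
    fun δ h1 h2 f n => ?_, fun f v hv => ?_⟩
  · obtain ⟨f', a⟩ := e2 f (ls k0 (σ⁻¹ • δ) + n • w0 k0)
    rw [map_add, act_perm_ls, smul_inv_smul, map_nsmul, ← hσ, act_w0_iff.2 hN.2] at a
    rw [a]
    exact h'.mem_A.2 (q_mem_CA_Fb.2 (add_mem (ls_mem_Ub (Finset.subset_smul_finset_iff.1 h1)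
      (by rwa [Finset.card_smul_finset])) (nsmul_mem w0_mem_Ub _)))
  · obtain ⟨f', a⟩ := e2 f (k0.act (permAut σ)⁻¹ v)
    rw [k0.act_act_inv] at a
    rw [a, h'.q_mem_O] at hv
    rw [← k0.act_act_inv (permAut σ) v, show ofMask MOrb.O0 = d0 from rfl, ← act_perm_xv σ hd0, k0.om_act, om_comm]
    exact hv _ xv_mem_Ub

end Frm

theorem act_sgn_compl {d : Finset GolayPt} (hd : IsCW d) (v : V24) :
    k0.act (sgnAut dᶜ hd.compl) v = k0.act (sgnAut d hd) v := by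
  rw [← k0.act_neg v, ← k0.act_mul, k0.act_neg, show negAut = sgnAut _ isCW_univ from rfl, sgnAut_mul]
  have : symmDiff dᶜ Finset.univ = d := by ext i; simp [Finset.mem_symmDiff]
  simp only [this]

theorem fst_of_dod {d : Finset GolayPt} (hd : IsCW d) (h12 : d.card = 12) {v : V24}
    (h : k0.act (sgnAut d hd) v = v) (h2 : qf v = 0) : v.1 = 0 := by
  obtain ⟨e, he, h1, h3⟩ := std_k0.fix_cases hd (Or.inr h12) (w := v) (Or.inl (by rw [h, ww_add_self]))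
  have h4 : v.1 = 0 ∨ v.1 = kk k0 d := by
    have k : ∀ e, IsCW e → d ∩ e = d → kk k0 e = 0 ∨ kk k0 e = kk k0 d := fun e he a => by
      rcases sub_cases he hd (Finset.inter_eq_left.1 a) with b | b | b | b
      exacts [by simp [b] at h12, Or.inr (b ▸ rfl), by omega, Or.inl (he.eq_univ (by omega) ▸ std_k0.kk_univ)]
    rw [h1]
    rcases h3 with a | a
    · rw [← std_k0.kk_compl he]
      exact k _ he.compl (Finset.inter_eq_left.2 fun x hx => Finset.mem_compl.2 fun b =>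
        Finset.notMem_empty x (a ▸ Finset.mem_inter.2 ⟨hx, b⟩))
    · exact k e he a
  refine h4.resolve_right fun a => ?_
  have h5 : (v + xv k0 d).1 = 0 := by rw [Prod.fst_add, a, std_k0.xv_fst, w_add_self]
  have h6 : k0.act (sgnAut d hd) (xv k0 d) = xv k0 d := by
    rw [xv, map_add, map_nsmul, act_w0_iff.2 (sgnAut_mem_monoGrp d hd), k0.act_φ, ← k0.φ_neg]
    congr 2; ext i
    by_cases b : i ∈ d <;> simp [sgnAut_smul_apply, tw_apply hd, b]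
  obtain ⟨y, hy⟩ := Chat.exists_g (κ := k0) (sgnAut d hd)
  obtain ⟨e', -, -, h7, -⟩ := std_k0.exists_sgn (c := mk k0 y) (pc_mk.2 (hy ▸ pp_sgn d hd))
  have h8 := qf_add (v + xv k0 d) (xv k0 d)
  have h9 : om (lam k0 none) (v + xv k0 d) = om (k0.act (sgnAut d hd) (lam k0 none)) (v + xv k0 d) := by
    conv_lhs => rw [← k0.om_act (sgnAut d hd), map_add, h, h6]
  rw [om_of_fst h5, om_of_fst h5, std_k0.act_sgn_lam, std_k0.lam_fst, dotProduct_add, left_eq_add] at h9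
  rw [add_assoc, ww_add_self, add_zero, h2, qf_xv hd, h12, om_comm, om_of_fst h5, std_k0.xv_fst, h9,
    show qf (v + xv k0 d) = 0 from bet_of_fst h5 _] at h8
  exact absurd h8 (by decide)

namespace B2

variable [Finite G] {s r t : G}

/-- a common neighbour exists -/
theorem exists_nb (hs : B2 π0 s) (h2 : t * t = 1) (hc : t * s = s * t) (hn : t ∉ QQ π0 s) :
    ∃ r, B2 π0 r ∧ s ∈ QQ π0 r ∧ t ∈ QQ π0 r := by
  obtain ⟨π, τ, h, rfl⟩ := hs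
  obtain ⟨c, rfl⟩ := h.mm.exists_eq hc
  obtain ⟨k, _, ⟨e, v, rfl⟩, a⟩ := (std_k0.inv_cases (h.ms.inj (by rwa [map_mul, map_one]))).resolve_left
    (mt h.mem_QQ'.2 hn)
  refine ⟨_, (h.b2_w 0).conj (π k)⁻¹, ?_, ?_⟩
  · have := conj_mem_QQ (π k)⁻¹ (h.mem_w 1 0 (v := 0) rfl)
    rwa [show q k0 1 0 = z k0 from rfl, ← map_inv π k, h.mm.comm_z, mul_inv_cancel_right, map_inv π k] at this
  · have := conj_mem_QQ (π k)⁻¹ (conj_mem_QQ τ (h.q_mem e v))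
    rw [h.ms.am.conj a, h.ms.am.conj_z] at this
    simpa [mul_assoc] using this

/-- the two types of commuting pairs -/
theorem types (hs : B2 π0 s) (hr : B2 π0 r) (h1 : s ∈ QQ π0 r) (h2 : t ∈ QQ π0 r) (hc : t * s = s * t)
    (hn : t ∉ QQ π0 s) : (∃ ι σ a, Ark π0 ι ∧ σ ≠ 0 ∧ Q10 σ = 0 ∧ ι σ = s ∧ t * ι a ∈ QQ π0 s) ∨
    ∀ x ∈ QQ π0 s, x * x = 1 → t * x = x * t → x ∈ QQ π0 r := by
  obtain ⟨π, τ, h, rfl, rfl⟩ := hs.pair hr (hr.symm hs h1) (by rintro rfl; exact hn h2)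
  have h3 := conj_mem_QQ τ⁻¹ h2
  rw [← h.ms.am.conj_z, inv_inv, show τ⁻¹ * (τ * π (z k0) * τ⁻¹) * τ = π (z k0) by group] at h3
  obtain ⟨e, v, h4⟩ := h.mem_QQ.1 h3
  obtain ⟨c, ⟨-, c1⟩, c2⟩ := h.ms.am.conj_Q (q_mem_Q e v) ((h.mm.comm_w0 1).1 (by
    refine (MulAut.conj τ).injective ?_
    rw [map_mul, map_mul, ← h4, MulAut.conj_apply, MulAut.conj_apply, h.ms.am.conj_z']
    simpa [mul_assoc] using hc))
  obtain rfl : t = π c := by rw [← c2, ← h4]; group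
  obtain ⟨x, rfl⟩ := mk_surjective c
  obtain ⟨d, hd, h5⟩ := (mk_mem_pre negAut_mem_signs).1 c1
  have k : ∀ d (hd : IsCW d), d.card = 8 → (∀ v, k0.act x.g v = k0.act (sgnAut d hd) v) →
      ∃ ι σ a, Ark π0 ι ∧ σ ≠ 0 ∧ Q10 σ = 0 ∧ ι σ = π (z k0) ∧ π (mk k0 x) * ι a ∈ QQ π0 (π (z k0)) := fun d hd h8 a => by
    obtain ⟨π', τ', σ, h', rfl, b1, -, ⟨k, b2, b3⟩, -⟩ := h.exists_oct (mem_octads_iff.2 ⟨hd, h8⟩)
    refine ⟨_, e10, Pi.single (.inr 0) 1, h'.ark, by simp, by decide, by rw [i0_e, b1], ?_⟩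
    rw [b3, ← map_mul, h.mem_QQ', mem_Q_iff_cact]
    intro v
    rw [cact_mul, cact_mul, cact_mul, cact_i0 (by simp), cact_mk, cact_mk, a, ← map_inv, cact_mk, Chat.inv_g, b2,
      ← k0.act_mul, ← k0.act_mul, ← k0.act_mul, tO, mul_assoc (sgnAut _ _) (permAut σ),
      permAut_mul_sgnAut, ← mul_assoc, sgnAut_mul_self]
    simp
  rw [h.mem_QQ', mk_mem_Q, h5] at hn
  rcases hd.card_eq with a | a | a | a | a
  · obtain rfl := Finset.card_eq_zero.1 a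
    exact absurd (Or.inl sgnAut_empty) hn
  · exact Or.inl (k d hd a fun v => by rw [h5])
  · refine Or.inr fun y hy y2 yc => ?_
    obtain ⟨f, u, rfl⟩ := h.mem_QQ.1 hy
    refine h.mem_w _ _ (fst_of_dod hd a ?_ (q_mul_self_eq_one.1 (h.ms.inj (by rwa [map_mul, map_one]))))
    simpa [h5] using (comm_q_iff.1 (h.mm.comm_iff.1 yc)).2
  · exact Or.inl (k dᶜ hd.compl (by simp [Finset.card_compl, a]) fun v => by rw [h5, act_sgn_compl])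
  · obtain rfl := hd.eq_univ (by omega)
    exact absurd (Or.inr rfl) hn

end B2

/-- mutually perpendicular points generate a singular subgroup -/
theorem sing_closure [Finite G] {S : Set G} (h1 : ∀ s ∈ S, B2 π0 s) (h2 : ∀ s ∈ S, ∀ r ∈ S, r ∈ QQ π0 s) {x : G}
    (hx : x ∈ closure S) : (∀ s ∈ S, x ∈ QQ π0 s) ∧
      (x = 1 ∨ B2 π0 x ∧ ∀ g, (∀ s ∈ S, g ∈ QQ π0 s) → g ∈ QQ π0 x) := by
  have k : ∀ x ∈ closure S, ∀ s ∈ S, x ∈ QQ π0 s := fun x hx s hs => (closure_le _).2 (h2 s hs) hx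
  refine ⟨k x hx, ?_⟩
  induction hx using closure_induction with
  | mem x hx => exact Or.inr ⟨h1 x hx, fun g hg => hg x hx⟩
  | one => exact Or.inl rfl
  | inv x _ h => rwa [inv_eq_of_mul_eq_one_right (h.elim (by simp +contextual) fun a => a.1.sq)]
  | mul x y _ hy a b =>
    rcases a with rfl | a
    · rwa [one_mul]
    rcases b with rfl | b
    · rw [mul_one]; exact Or.inr a
    by_cases e : y = x
    · exact Or.inl (e ▸ b.1.sq)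
    · exact Or.inr ⟨a.1.mul b.1 (a.2 y (k y hy)) e, fun g hg =>
        a.1.mem_mul b.1 (a.2 y (k y hy)) e (a.2 g hg) (b.2 g hg)⟩

end CfsgLib.Mon.Mx
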