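import Mathlib
import Cfsg.Agent.Lib.Mon.MxA
import Cfsg.Agent.Lib.Forms.Normal

/-!
Linear algebra of the squaring map from the half-spin module to the natural module.
-/

set_option autoImplicit false

namespace CfsgLib.Mon.Mx

open CfsgLib.OrthE QuadraticMap Module

/-- the sixteen-dimensional space -/
abbrev V16 : Type := Fin 16 → ZMod 2

local notation "F2" => ZMod 2
local notation "𝔹" => polar Q10

theorem vv {ι : Type*} (x : ι → F2) : x + x = 0 := funext fun i => z2_add_self (x i)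

theorem add_eq_zero2 {ι : Type*} {x y : ι → F2} : x + y = 0 ↔ x = y := by
  rw [add_eq_zero_iff_eq_neg, neg_eq_of_add_eq_zero_right (vv y)]

theorem bself (x : V10) : 𝔹 x x = 0 := by rw [polar_self', show (2 : F2) = 0 from rfl, zero_mul]

theorem z2_ne {a : F2} : a ≠ 0 ↔ a = 1 := by revert a; decide

theorem z2_ne' {a : F2} : a ≠ 1 ↔ a = 0 := by revert a; decide

theorem finrank_V10 : finrank F2 V10 = 10 := by simp

/-- the perpendicular space -/
noncomputable def pp (X : Submodule F2 V10) : Submodule F2 V10 := LinearMap.BilinForm.orthogonal (polarBilin Q10) X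

theorem mem_pp {X : Submodule F2 V10} {v : V10} : v ∈ pp X ↔ ∀ x ∈ X, 𝔹 x v = 0 := Iff.rfl

theorem nd10 : (polarBilin Q10).Nondegenerate := (nondeg_iff _).1 (nondeg_qPlus 5)

theorem finrank_pp (X : Submodule F2 V10) : finrank F2 X + finrank F2 (pp X) = 10 := by
  have := X.finrank_le
  rw [pp, LinearMap.BilinForm.finrank_orthogonal nd10, finrank_V10] at *
  omega

theorem pp_pp (X : Submodule F2 V10) : pp (pp X) = X :=
  LinearMap.BilinForm.orthogonal_orthogonal nd10 (fun x y h => (polar_comm Q10 y x).trans h) X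

theorem exists_sep {X : Submodule F2 V10} {v : V10} (h : v ∉ X) : ∃ a, (∀ x ∈ X, 𝔹 x a = 0) ∧ 𝔹 v a = 1 := by
  rw [← pp_pp X, mem_pp] at h
  push Not at h
  obtain ⟨a, h1, h2⟩ := h
  exact ⟨a, h1, by rw [polar_comm]; exact z2_ne.1 h2⟩

theorem mem_span1 {M : Type*} [AddCommGroup M] [Module F2 M] {r x : M} :
    x ∈ Submodule.span F2 {r} ↔ x = 0 ∨ x = r := by
  rw [Submodule.mem_span_singleton]
  exact ⟨fun ⟨a, e⟩ => (z2_cases a).imp (fun h => by simp [← e, h]) fun h => by simp [← e, h],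
    fun h => h.elim (fun e => ⟨0, by simp [e]⟩) fun e => ⟨1, by simp [e]⟩⟩

theorem mem_span2 {M : Type*} [AddCommGroup M] [Module F2 M] {r s x : M} :
    x ∈ Submodule.span F2 {r, s} ↔ x = 0 ∨ x = r ∨ x = s ∨ x = r + s := by
  rw [Submodule.mem_span_pair]
  refine ⟨fun ⟨a, b, e⟩ => ?_, ?_⟩
  · rcases z2_cases a with rfl | rfl <;> rcases z2_cases b with rfl | rfl <;> simp [← e]
  · rintro (rfl | rfl | rfl | rfl)
    exacts [⟨0, 0, by simp⟩, ⟨1, 0, by simp⟩, ⟨0, 1, by simp⟩, ⟨1, 1, by simp⟩]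

theorem ex1 {r s : V10} (h0 : s ≠ 0) (h : s ≠ r) : ∃ a, 𝔹 r a = 0 ∧ 𝔹 s a = 1 :=
  let ⟨a, h1, h2⟩ := exists_sep (X := Submodule.span F2 {r}) (v := s) (by rw [mem_span1]; tauto)
  ⟨a, h1 r (Submodule.mem_span_singleton_self r), h2⟩

theorem ex11 {r s : V10} (h0 : r ≠ 0) (h1 : s ≠ 0) (h : r ≠ s) : ∃ a, 𝔹 r a = 1 ∧ 𝔹 s a = 1 := by
  obtain ⟨a, a1, a2⟩ := ex1 h1 h.symm
  obtain ⟨b, b1, b2⟩ := ex1 h0 h
  exact ⟨a + b, by simp [polar_add_right, a1, b2], by simp [polar_add_right, a2, b1]⟩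

theorem finrank_le_succ {M : Type*} [AddCommGroup M] [Module F2 M] [Module.Finite F2 M] {J I : Submodule F2 M}
    (h : ∀ x ∈ I, ∀ y ∈ I, x ∉ J → y ∉ J → x + y ∈ J) : finrank F2 I ≤ finrank F2 J + 1 := by
  by_cases e : I ≤ J
  · exact (Submodule.finrank_mono e).trans (Nat.le_succ _)
  obtain ⟨y, y1, y2⟩ := SetLike.not_le_iff_exists.1 e
  have : I ≤ J ⊔ Submodule.span F2 {y} := fun x hx => by
    by_cases a : x ∈ J
    · exact Submodule.mem_sup_left a
    · exact (Submodule.add_mem_iff_left _ (Submodule.mem_sup_right (Submodule.mem_span_singleton_self y))).1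
        (Submodule.mem_sup_left (h x hx y y1 a y2))
  refine (Submodule.finrank_mono this).trans ((Submodule.finrank_add_le_finrank_add_finrank _ _).trans ?_)
  simpa using finrank_span_le_card (R := F2) {y}

theorem finrank_sup1 {M : Type*} [AddCommGroup M] [Module F2 M] [Module.Finite F2 M] {J : Submodule F2 M} {y : M}
    (h : y ∉ J) : finrank F2 (J ⊔ Submodule.span F2 {y} : Submodule F2 M) = finrank F2 J + 1 := by
  have := Submodule.finrank_sup_add_finrank_inf_eq J (Submodule.span F2 {y})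
  rwa [(Submodule.disjoint_span_singleton_of_notMem h).eq_bot, finrank_bot, add_zero,
    finrank_span_singleton (by rintro rfl; exact h (zero_mem _))] at this

theorem mem_sup1 {M : Type*} [AddCommGroup M] [Module F2 M] {J : Submodule F2 M} {y x : M} :
    x ∈ J ⊔ Submodule.span F2 {y} ↔ ∃ j ∈ J, x = j ∨ x = j + y := by
  simp only [Submodule.mem_sup, mem_span1]
  exact ⟨fun ⟨j, a, _, b, c⟩ => ⟨j, a, b.imp (fun e => by simp [← c, e]) fun e => by simp [← c, e]⟩,
    fun ⟨j, a, b⟩ => b.elim (fun e => ⟨j, a, 0, Or.inl rfl, by simp [e]⟩) fun e => ⟨j, a, y, Or.inr rfl, e.symm⟩⟩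

theorem self_pp {I : Submodule F2 V10} (h : ∀ x ∈ I, ∀ y ∈ I, 𝔹 x y = 0) :
    finrank F2 I ≤ 5 ∧ (5 ≤ finrank F2 I → pp I = I) := by
  have h1 : I ≤ pp I := fun y hy x hx => h x hx y hy
  have := finrank_pp I
  have := Submodule.finrank_mono h1
  exact ⟨by omega, fun a => (Submodule.eq_of_le_of_finrank_le h1 (by omega)).symm⟩

theorem polar_of_sing {I : Submodule F2 V10} (h : ∀ x ∈ I, Q10 x = 0) : ∀ x ∈ I, ∀ y ∈ I, 𝔹 x y = 0 :=
  fun x hx y hy => by simp [polar, h x hx, h y hy, h _ (add_mem hx hy)]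

theorem siegel (f : V10 →+ V10) {r s : V10} (h0 : r ≠ 0) (h1 : s ≠ 0) (h : r ≠ s)
    (hf : ∀ ρ, ρ = r ∨ ρ = s ∨ ρ = r + s → ∀ a, 𝔹 ρ a = 0 → f a = 0 ∨ f a = ρ) :
    (∀ a, f a = 0) ∨ ∀ a, f a = 𝔹 s a • r + 𝔹 r a • s := by
  obtain ⟨u, u1, u2⟩ := ex1 h1 h.symm
  obtain ⟨v, v1, v2⟩ := ex1 h0 h
  have k : ∀ a, f a = 𝔹 s a • f u + 𝔹 r a • f v := fun a => by
    have e : ∀ ρ, ρ = r ∨ ρ = s → 𝔹 ρ (a + (𝔹 s a • u + 𝔹 r a • v)) = 0 := by
      rintro _ (rfl | rfl) <;> simp [polar_add_right, polar_smul_right, u1, u2, v1, v2, z2_add_self]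
    have := (hf r (by simp) _ (e r (by simp))).elim id fun x =>
      (hf s (by simp) _ (e s (by simp))).resolve_right fun y => h (x.symm.trans y)
    rwa [map_add, add_eq_zero2, map_add, ZMod.map_smul, ZMod.map_smul] at this
  have k3 := hf (r + s) (by simp) (u + v) (by simp [polar_add_left, polar_add_right, u1, u2, v1, v2, z2_add_self])
  rw [map_add] at k3
  rcases hf r (by simp) u u1 with a | a <;> rcases hf s (by simp) v v1 with b | b <;> rw [a, b] at k3
  · exact Or.inl fun x => by simp [k x, a, b]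
  · simp [h0, h1] at k3
  · simp [h0, h1] at k3
  · exact Or.inr fun x => by rw [k, a, b]

theorem even_corank {M : Type*} [AddCommGroup M] [Module F2 M] [Module.Finite F2 M] (b : LinearMap.BilinForm F2 M)
    (hA : b.IsAlt) : ∃ k, finrank F2 (LinearMap.ker b) + 2 * k = finrank F2 M := by
  obtain ⟨U, hU⟩ := Submodule.exists_isCompl (LinearMap.ker b)
  obtain ⟨k, hk⟩ := CfsgLib.Forms.even_finrank_of_alt (b.restrict U) (fun x => hA x)
    (b.nondegenerate_restrict_of_disjoint_orthogonal hA.isRefl (Submodule.disjoint_def.2 fun x hx h =>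
      Submodule.disjoint_def.1 hU.disjoint x (LinearMap.ext fun y => by
        obtain ⟨a, ha, c, hc, rfl⟩ := Submodule.mem_sup.1 (hU.sup_eq_top ▸ Submodule.mem_top : y ∈ _ ⊔ U)
        rw [map_add, hA.isRefl _ _ (LinearMap.congr_fun ha x), hA.isRefl _ _ (h c hc)]
        simp) hx))
  exact ⟨k, by rw [← Submodule.finrank_add_eq_of_isCompl hU, hk]; ring⟩

/-- the spaces `D r` -/
def DD (S : QuadraticMap F2 V16 V10) (r : V10) : Submodule F2 V16 where
  carrier := {w | ∀ y, 𝔹 r (polar S w y) = 0}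
  add_mem' ha hb y := by rw [polar_add_left, polar_add_right, ha y, hb y, add_zero]
  zero_mem' y := by simp
  smul_mem' c w h y := by rw [polar_smul_left, polar_smul_right, h y, smul_zero]

/-- the commutator space -/
noncomputable def II (S : QuadraticMap F2 V16 V10) (w : V16) : Submodule F2 V10 := LinearMap.range (polarBilin S w)

/-- the axioms for the squaring map -/
structure Spin (S : QuadraticMap F2 V16 V10) : Prop where
  fr : ∀ {r}, r ≠ 0 → Q10 r = 0 → finrank F2 (DD S r) = 8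
  sq : ∀ {r}, r ≠ 0 → Q10 r = 0 → ∀ w ∈ DD S r, S w = 0 ∨ S w = r
  dis : ∀ {r t}, Hyp Q10 r t → ∀ w ∈ DD S r, w ∈ DD S t → w = 0
  rk : ∀ X : Submodule F2 V16, (∀ w ∈ X, S w = 0) → finrank F2 X ≤ 5

variable {S : QuadraticMap F2 V16 V10} {r s t : V10} {g g' w x y : V16}

theorem mem_DD : w ∈ DD S r ↔ ∀ y, 𝔹 r (polar S w y) = 0 := Iff.rfl

theorem cm_mem (w y : V16) : polar S w y ∈ II S w := ⟨y, rfl⟩

theorem mem_DD_iff : w ∈ DD S r ↔ r ∈ pp (II S w) :=
  ⟨fun h _ ⟨y, e⟩ => e ▸ (polar_comm _ _ _).trans (h y), fun h y => (polar_comm _ _ _).trans (h _ (cm_mem w y))⟩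

theorem DD_add (h1 : w ∈ DD S r) (h2 : w ∈ DD S s) : w ∈ DD S (r + s) := fun y => by
  rw [polar_add_left, h1 y, h2 y, add_zero]

theorem S_add (x y : V16) : S (x + y) = S x + S y + polar S x y := by rw [polar]; abel

theorem cself (x : V16) : polar S x x = 0 := by rw [polar_self, two_smul, vv]

theorem card_hyp (j : Fin 5 ⊕ Fin 5) :
    (Finset.univ.filter fun r : V10 => Q10 r = 0 ∧ 𝔹 (Pi.single j 1) r = 1).card = 256 := by
  simp only [qPlus_apply, polar_qPlus]
  revert j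
  decide +kernel

namespace Spin

theorem cm_or (h : Spin S) (h0 : r ≠ 0) (hr : Q10 r = 0) (h1 : x ∈ DD S r) (h2 : y ∈ DD S r) :
    polar S x y = 0 ∨ polar S x y = r :=
  mem_span1.1 (sub_mem (sub_mem (mem_span1.2 (h.sq h0 hr _ (add_mem h1 h2))) (mem_span1.2 (h.sq h0 hr _ h1)))
    (mem_span1.2 (h.sq h0 hr _ h2)))

theorem sup (h : Spin S) (hy : Hyp Q10 r t) (w : V16) : ∃ u ∈ DD S r, ∃ v ∈ DD S t, u + v = w := by
  have := Submodule.finrank_sup_add_finrank_inf_eq (DD S r) (DD S t)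
  rw [(Submodule.disjoint_def.2 (h.dis hy)).eq_bot, finrank_bot, h.fr hy.e_ne hy.he, h.fr hy.f_ne hy.hf] at this
  exact Submodule.mem_sup.1 (Submodule.eq_top_of_finrank_eq (this.trans (by simp)) ▸ Submodule.mem_top)

theorem sq_sing (h : Spin S) (x : V16) : Q10 (S x) = 0 ∧ x ∈ DD S (S x) := by
  classical
  by_cases h0 : S x = 0
  · rw [h0]; exact ⟨map_zero _, fun y => by simp⟩
  obtain ⟨j, hj, hx⟩ : ∃ j, Q10 (Pi.single j 1) = 0 ∧ 𝔹 (Pi.single j 1) (S x) = 1 := by
    obtain ⟨i | i, hi⟩ := Function.ne_iff.1 h0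
    · exact ⟨.inr i, (hyp_qPlus i).hf, by rw [polar_comm, polar_qPlus_inr]; exact z2_ne.1 hi⟩
    · exact ⟨.inl i, (hyp_qPlus i).he, by rw [polar_comm, polar_qPlus_inl]; exact z2_ne.1 hi⟩
  set e : V10 := Pi.single j 1
  set X := Finset.univ.filter fun x : V16 => 𝔹 e (S x) = 1
  set Y := X.filter fun x : V16 => Q10 (S x) = 0 ∧ x ∈ DD S (S x)
  have k : ∀ r ∈ Finset.univ.filter fun r : V10 => Q10 r = 0 ∧ 𝔹 e r = 1,
      X.card ≤ 256 * (Y.filter fun y => S y = r).card := fun r hr => by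
    obtain ⟨-, h1, h2⟩ := Finset.mem_filter.1 hr
    have hy : Hyp Q10 e r := ⟨hj, h1, h2⟩
    choose u hu v hv huv using h.sup hy
    have c : (Finset.univ.filter (· ∈ DD S e)).card = 256 := by
      rw [← Fintype.card_subtype, ← Nat.card_eq_fintype_card, Module.natCard_eq_pow_finrank (K := F2),
        h.fr hy.e_ne hj]; simp
    rw [← c, ← Finset.card_product]
    refine Finset.card_le_card_of_injOn (fun w => (u w, v w)) (fun w hw => ?_) fun w _ w' _ e => by
      rw [← huv w, ← huv w', (Prod.mk.inj e).1, (Prod.mk.inj e).2]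
    have a : 𝔹 e (S (v w)) = 1 := by
      have := (Finset.mem_filter.1 hw).2
      rw [← huv w, S_add, polar_add_right, polar_add_right, hu w, add_zero] at this
      rcases h.sq hy.e_ne hj _ (hu w) with b | b <;> simpa [b, hj] using this
    have b : S (v w) = r := (h.sq hy.f_ne h1 _ (hv w)).resolve_left fun b => by simp [b] at a
    simp [X, Y, hu, a, b, h1, h2, hv]
  have k2 := Finset.card_nsmul_le_sum _ _ _ k
  rw [card_hyp, ← Finset.mul_sum, ← Finset.card_eq_sum_card_fiberwise fun y hy => by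
    simp only [X, Y, Finset.coe_filter, Finset.mem_filter, Finset.mem_univ, true_and, Set.mem_ofPred_eq] at hy ⊢
    exact ⟨hy.2.1, hy.1⟩, smul_eq_mul] at k2
  have k3 : Y = X := Finset.eq_of_subset_of_card_le (Finset.filter_subset _ _) (by omega)
  exact (Finset.mem_filter.1 (k3 ▸ (by simp [X, hx] : x ∈ X) : x ∈ Y)).2

theorem jac (h : Spin S) (x y w u : V16) : 𝔹 (polar S x y) (polar S w u) + 𝔹 (polar S x w) (polar S y u) +
    𝔹 (polar S y w) (polar S x u) = 0 := by
  have k := fun x => (h.sq_sing x).2 u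
  have h1 := k (x + y + w)
  have h2 := k (x + y)
  have h3 := k (x + w)
  have h4 := k (y + w)
  simp only [S_add, polar_add_left, polar_add_right] at h1 h2 h3 h4
  linear_combination h1 - h2 - h3 - h4 + k x + k y + k w

theorem l4 (h : Spin S) (h1 : polar S x w = 0) (h2 : polar S y w = 0) : w ∈ DD S (polar S x y) := fun u => by
  simpa [h1, h2] using h.jac x y w u

theorem II_sing (h : Spin S) (h0 : S w = 0) : ∀ r ∈ II S w, Q10 r = 0 := by
  rintro _ ⟨y, rfl⟩
  have := (h.sq_sing (y + w)).1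
  rwa [S_add, h0, add_zero, Q_add, (h.sq_sing y).1, (h.sq_sing y).2, zero_add, add_zero, polar_comm] at this

theorem DD_of_II (h : Spin S) (h0 : S w = 0) (hr : r ∈ II S w) : w ∈ DD S r := fun y =>
  polar_of_sing (h.II_sing h0) _ hr _ (cm_mem w y)

theorem rk' (h : Spin S) {X : Submodule F2 V16} (hX : ∀ x ∈ X, S x = 0 ∧ polar S x w = 0) (h0 : S w = 0)
    (hw : w ∉ X) : finrank F2 X ≤ 4 := by
  have := h.rk (X ⊔ Submodule.span F2 {w}) fun y hy => by
    obtain ⟨x, hx, rfl | rfl⟩ := mem_sup1.1 hy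
    exacts [(hX _ hx).1, by simp [S_add, hX x hx, h0]]
  rw [finrank_sup1 hw] at this
  omega

/-- the centralizer of `w` in `D t` -/
noncomputable def NN (S : QuadraticMap F2 V16 V10) (t : V10) (w : V16) : Submodule F2 V16 :=
  DD S t ⊓ LinearMap.ker (polarBilin S w)

theorem NN_sq (h : Spin S) (h0 : S w = 0) (ht : Q10 t = 0) (hw : w ∉ DD S t) (hy : y ∈ NN S t w) :
    S y = 0 ∧ polar S y w = 0 := by
  have e : polar S y w = 0 := (polar_comm _ _ _).trans hy.2
  refine ⟨(h.sq (by rintro rfl; exact hw fun y => by simp) ht y hy.1).resolve_right fun a => hw ?_, e⟩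
  have := (h.sq_sing (y + w)).2
  rw [S_add, h0, e, a, add_zero, add_zero] at this
  exact (Submodule.add_mem_iff_right _ hy.1).1 this

theorem NN_le (h : Spin S) (h0 : S w = 0) (ht : Q10 t = 0) (hw : w ∉ DD S t) : finrank F2 (NN S t w) ≤ 4 :=
  h.rk' (fun _ => h.NN_sq h0 ht hw) h0 fun a => hw a.1

theorem NN_add (h : Spin S) (h0 : t ≠ 0) (ht : Q10 t = 0) (w : V16) :
    finrank F2 ((DD S t).map (polarBilin S w)) + finrank F2 (NN S t w) = 8 := by
  rw [← h.fr h0 ht, ← LinearMap.finrank_range_add_finrank_ker ((polarBilin S w).domRestrict (DD S t)),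
    LinearMap.range_domRestrict, LinearMap.ker_domRestrict, NN, ← Submodule.finrank_map_subtype_eq,
    Submodule.map_comap_subtype]

theorem exists_hyp (h : Spin S) (h0 : S w = 0) (hw : w ≠ 0) : ∃ s t, Hyp Q10 s t ∧ s ∈ II S w ∧ w ∉ DD S t := by
  obtain ⟨y, hy⟩ : ∃ y, polar S w y ≠ 0 := by
    by_contra! a
    exact hw (h.dis (hyp_qPlus 0) w (fun y => by simp [a]) fun y => by simp [a])
  obtain ⟨t, ht⟩ := (nondeg_qPlus 5).exists_hyp (h.II_sing h0 _ (cm_mem w y)) hy
  exact ⟨_, t, ht, cm_mem w y, fun a => hw (h.dis ht w (h.DD_of_II h0 (cm_mem w y)) a)⟩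

theorem map_lt {s t : V10} (hy : Hyp Q10 s t) {I : Submodule F2 V10} {X : Submodule F2 V16} (hX : X ≤ DD S t)
    (hs : s ∈ I) (hI : X.map (polarBilin S w) ≤ I) : finrank F2 (X.map (polarBilin S w)) < finrank F2 I :=
  Submodule.finrank_lt_finrank_of_lt (lt_of_le_of_ne hI fun e => by
    obtain ⟨y, a, b⟩ := e ▸ hs
    have := hX a w
    rw [polar_comm S, show polar S w y = s from b, hy.hfe] at this
    exact one_ne_zero this)

theorem finrank_II (h : Spin S) (h0 : S w = 0) (hw : w ≠ 0) : finrank F2 (II S w) = 5 := by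
  obtain ⟨s, t, hy, hs, ht⟩ := h.exists_hyp h0 hw
  have h1 := h.NN_le h0 hy.hf ht
  have h2 := h.NN_add hy.f_ne hy.hf w
  have h3 := map_lt hy le_rfl hs (LinearMap.map_le_range (f := polarBilin S w))
  have h4 := (self_pp (polar_of_sing (h.II_sing h0))).1
  omega

theorem mem_II (h : Spin S) (h0 : S w = 0) (hw : w ≠ 0) : r ∈ II S w ↔ w ∈ DD S r := by
  rw [mem_DD_iff, (self_pp (polar_of_sing (h.II_sing h0))).2 (h.finrank_II h0 hw).ge]

theorem odd_inf (h : Spin S) (h0 : S g = 0) (h0' : S g' = 0) (hg : g ≠ 0) (hg' : g' ≠ 0) (hc : polar S g g' = 0) :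
    Odd (finrank F2 (II S g ⊓ II S g' : Submodule F2 V10)) := by
  obtain ⟨k, hk⟩ := even_corank ((polarBilin Q10).compl₁₂ (polarBilin S g) (polarBilin S g')) fun y => by
    have := h.II_sing (w := g + g') (by simp [S_add, h0, h0', hc]) _ (cm_mem _ y)
    rwa [polar_add_left, Q_add, h.II_sing h0 _ (cm_mem _ y), h.II_sing h0' _ (cm_mem _ y), zero_add, zero_add] at this
  have e : LinearMap.ker ((polarBilin Q10).compl₁₂ (polarBilin S g) (polarBilin S g')) =
      (II S g').comap (polarBilin S g) := by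
    ext y
    rw [Submodule.mem_comap, h.mem_II h0' hg']
    exact LinearMap.ext_iff
  have h1 := LinearMap.finrank_range_add_finrank_ker ((polarBilin S g).domRestrict ((II S g').comap (polarBilin S g)))
  have h2 := LinearMap.finrank_range_add_finrank_ker (polarBilin S g)
  rw [LinearMap.range_domRestrict, LinearMap.ker_domRestrict, Submodule.map_comap_eq,
    ← Submodule.finrank_map_subtype_eq, Submodule.map_comap_subtype,
    inf_eq_right.2 (LinearMap.ker_le_comap _)] at h1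
  have h3 := h.finrank_II h0 hg
  rw [e] at hk
  exact ⟨2 - k, by unfold II at *; omega⟩

theorem rk2 (h : Spin S) {X : Submodule F2 V16} (hX : X ≤ DD S t) (hy : Hyp Q10 s t)
    (h1 : ∀ x ∈ X, S x = 0 ∧ polar S x g = 0 ∧ polar S x g' = 0) (h0 : S g = 0) (h0' : S g' = 0) (hg : g ≠ 0)
    (hg' : g' ≠ 0) (hne : g ≠ g') (hc : polar S g g' = 0) (h2 : g ∈ DD S s) (h2' : g' ∈ DD S s) :
    finrank F2 X ≤ 3 := by
  have := h.rk' (X := X ⊔ Submodule.span F2 {g}) (w := g') (fun y hy => by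
    obtain ⟨x, hx, rfl | rfl⟩ := mem_sup1.1 hy
    exacts [⟨(h1 _ hx).1, (h1 _ hx).2.2⟩, by simp [S_add, h1 x hx, h0, hc, polar_add_left]]) h0' fun a => by
      obtain ⟨x, hx, rfl | rfl⟩ := mem_sup1.1 a
      · exact hg' (h.dis hy _ h2' (hX hx))
      · exact hne (by rw [h.dis hy x ((Submodule.add_mem_iff_left _ h2).1 h2') (hX hx), zero_add])
  rw [finrank_sup1 fun a => hg (h.dis hy _ h2 (hX a))] at this
  omega

theorem four_le_NN (h : Spin S) (h0 : S w = 0) (hw : w ≠ 0) (hy : Hyp Q10 s t) (hs : w ∈ DD S s) :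
    4 ≤ finrank F2 (NN S t w) := by
  have h2 := h.NN_add hy.f_ne hy.hf w
  have h3 := map_lt hy le_rfl ((h.mem_II h0 hw).2 hs) (LinearMap.map_le_range (f := polarBilin S w))
  have h4 := h.finrank_II h0 hw
  omega

theorem three_le_inf (h : Spin S) (h0 : S g = 0) (h0' : S g' = 0) (hg : g ≠ 0) (hg' : g' ≠ 0)
    (hc : polar S g g' = 0) : 3 ≤ finrank F2 (II S g ⊓ II S g' : Submodule F2 V10) := by
  by_cases hne : g = g'
  · rw [hne, inf_idem, h.finrank_II h0' hg']; omega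
  obtain ⟨k, hk⟩ := h.odd_inf h0 h0' hg hg' hc
  obtain ⟨s, ⟨h1, h1'⟩, hs⟩ := Submodule.exists_mem_ne_zero_of_ne_bot (p := II S g ⊓ II S g') fun e => by
    rw [e, finrank_bot] at hk; omega
  obtain ⟨t, hy⟩ := (nondeg_qPlus 5).exists_hyp (h.II_sing h0 _ h1) hs
  have a := h.DD_of_II h0 h1
  have a' := h.DD_of_II h0' h1'
  have b' : g' ∉ DD S t := fun e => hg' (h.dis hy _ a' e)
  obtain ⟨y, h2, h3⟩ : ∃ y ∈ NN S t g', polar S g y ≠ 0 := by
    by_contra! c
    have := h.rk2 (X := NN S t g') inf_le_left hy (fun x hx => ⟨(h.NN_sq h0' hy.hf b' hx).1,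
      (polar_comm _ _ _).trans (c x hx), (h.NN_sq h0' hy.hf b' hx).2⟩) h0 h0' hg hg' hne hc a a'
    have := h.four_le_NN h0' hg' hy a'
    omega
  have h4 := map_lt (w := g) hy (X := Submodule.span F2 {y}) (I := II S g ⊓ II S g')
    ((Submodule.span_singleton_le_iff_mem _ _).2 h2.1) ⟨h1, h1'⟩ (by
      rw [Submodule.map_span, Set.image_singleton, Submodule.span_singleton_le_iff_mem]
      exact ⟨cm_mem _ _, (h.mem_II h0' hg').2 (h.l4 hc (h.NN_sq h0' hy.hf b' h2).2)⟩)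
  rw [Submodule.map_span, Set.image_singleton, finrank_span_singleton (v := polarBilin S g y) h3] at h4
  omega

/-- a pure vector is determined by two points and commutation -/
theorem eq_of_II (h : Spin S) (h0 : S g = 0) (h0' : S g' = 0) (hg : g ≠ 0) (hg' : g' ≠ 0) (hc : polar S g g' = 0)
    (e : II S g = II S g') : g = g' := by
  by_contra hne
  obtain ⟨s, t, hy, hs, ht⟩ := h.exists_hyp h0 hg
  have a := h.DD_of_II h0 hs
  have := h.four_le_NN h0 hg hy a
  have := h.rk2 (X := NN S t g) inf_le_left hy (fun x hx => ?_) h0 h0' hg hg' hne hc a (h.DD_of_II h0' (e ▸ hs))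
  · omega
  obtain ⟨b1, b2⟩ := h.NN_sq h0 hy.hf ht hx
  refine ⟨b1, b2, ?_⟩
  by_cases hx0 : x = 0
  · simp [hx0]
  have h3 := h.three_le_inf b1 h0 hx0 hg b2
  by_contra c
  have : II S x ⊓ II S g ≤ Submodule.span F2 {polar S x g'} := fun r hr => mem_span1.2 (or_iff_not_imp_left.2 fun r0 =>
    ((h.cm_or r0 (h.II_sing b1 _ hr.1) (h.DD_of_II b1 hr.1) (h.DD_of_II h0' (e ▸ hr.2))).resolve_left c).symm)
  have := Submodule.finrank_mono this
  rw [finrank_span_singleton c] at this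
  omega

theorem t2 (h : Spin S) (hy : Hyp Q10 s t) {X : Submodule F2 V16} (hX : X ≤ DD S s) (h3 : finrank F2 X ≤ 3)
    (h0 : S g = 0) (hg : g ≠ 0) (hg' : g ∈ DD S t) (hc : ∀ x ∈ X, polar S g x = 0) :
    ∃ r, r ≠ 0 ∧ g ∈ DD S r ∧ X ≤ DD S r := by
  let f : DD S s →ₗ[F2] Dual F2 X := ((polarBilin S).compr₂ (polarBilin Q10 t)).domRestrict₁₂ _ _
  have h1 := LinearMap.finrank_range_add_finrank_ker f
  have h2 := (LinearMap.range f).finrank_le
  rw [Subspace.dual_finrank_eq] at h2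
  rw [h.fr hy.e_ne hy.he, ← Submodule.finrank_map_subtype_eq] at h1
  have h4 := h.NN_le h0 hy.he fun a => hg (h.dis hy _ a hg')
  obtain ⟨_, ⟨k, hk, rfl⟩, h5⟩ := SetLike.not_le_iff_exists.1 fun a : (LinearMap.ker f).map (DD S s).subtype ≤ NN S s g =>
    absurd (Submodule.finrank_mono a) (by omega)
  refine ⟨polar S g k, fun a => h5 ⟨k.2, a⟩, h.DD_of_II h0 (cm_mem _ _), fun x hx => h.l4 (hc x hx) ?_⟩
  refine (h.cm_or hy.e_ne hy.he k.2 (hX hx)).resolve_right fun a => ?_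
  have : 𝔹 t (polar S k x) = 0 := LinearMap.congr_fun hk ⟨x, hx⟩
  rw [a, hy.hfe] at this
  exact one_ne_zero this

end Spin

end CfsgLib.Mon.Mx
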