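import Mathlib
import Cfsg.Agent.Lib.Mon.MxB

/-!
Arks and their centralizers.
-/

set_option autoImplicit false

namespace CfsgLib.Mon.Mx

open Cfsg CfsgLib.Leech CfsgLib.MType CfsgLib.OrthE CfsgLib.Golay Subgroup QuadraticMap Module
open scoped commutatorElement Pointwise

local notation "F2" => ZMod 2
local notation "𝔹" => polar Q10

variable {G : Type*} [Group G] {π0 π : C k0 →* G} {τ : G} {ι ι' : V10 → G}

theorem exists_coord {W : Type*} [Group W] [Finite W] (h : ∀ x : W, x * x = 1) {n : ℕ} (hn : Nat.card W = 2 ^ n) :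
    ∃ φ : W → Fin n → F2, Function.Bijective φ ∧ ∀ a b, φ (a * b) = φ a + φ b := by
  letI : CommGroup W := { mul_comm := fun a b => MonRec.mul_comm_of_sq (E := ⊤) (fun x _ => h x) trivial trivial }
  letI : Module F2 (Additive W) := AddCommGroup.zmodModule fun x => by rw [two_nsmul]; exact h x
  have : finrank F2 (Additive W) = n := Nat.pow_right_injective (le_refl 2) (by
    have := Module.natCard_eq_pow_finrank (K := F2) (V := Additive W)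
    rw [Nat.card_zmod] at this
    exact this.symm.trans hn)
  let e := LinearEquiv.ofFinrankEq (R := F2) (Additive W) (Fin n → F2) (by simp [this])
  exact ⟨fun x => e (Additive.ofMul x), e.bijective, fun a b => map_add e _ _⟩

theorem card_hom {M : Type*} [AddCommGroup M] [Finite G] (H : Subgroup G) (p : G → M)
    (hp : ∀ a ∈ H, ∀ b ∈ H, p (a * b) = p a + p b) {K : Subgroup G} (hK : ∀ g, g ∈ K ↔ g ∈ H ∧ p g = 0)
    {X : Set M} (hX : ∀ x, x ∈ X ↔ ∃ g ∈ H, p g = x) : Nat.card K * Nat.card X = Nat.card H := by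
  let φ : H →* Multiplicative M := MonoidHom.mk' (fun g => .ofAdd (p g)) fun a b => hp _ a.2 _ b.2
  rw [← φ.ker.card_mul_index, index_ker, ← card_map_of_injective (K := φ.ker) H.subtype_injective]
  congr 1
  · congr 2; ext g
    exact (hK g).trans ⟨fun ⟨a, b⟩ => ⟨⟨g, a⟩, b, rfl⟩, fun ⟨a, b, c⟩ => c ▸ ⟨a.2, b⟩⟩
  · exact Nat.card_congr (Equiv.subtypeEquiv Multiplicative.ofAdd fun x => (hX x).trans
      ⟨fun ⟨g, a, b⟩ => ⟨⟨g, a⟩, congrArg Multiplicative.ofAdd b⟩, fun ⟨g, b⟩ => ⟨g, g.2, b⟩⟩)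

theorem card_sub {M : Type*} [AddCommGroup M] [Module F2 M] [Module.Finite F2 M] (X : Submodule F2 M) :
    Nat.card X = 2 ^ finrank F2 X := by
  rw [Module.natCard_eq_pow_finrank (K := F2), Nat.card_zmod]

theorem mem_zp {s x : G} (hs : s * s = 1) : x ∈ zpowers s ↔ x = 1 ∨ x = s := by
  refine ⟨fun h => ?_, fun h => h.elim (· ▸ one_mem _) (· ▸ mem_zpowers s)⟩
  obtain ⟨k, rfl⟩ := mem_zpowers_iff.1 h
  obtain ⟨k, rfl | rfl⟩ := Int.even_or_odd' k <;> simp [zpow_add, zpow_mul, pow_two, hs]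

/-- the preimage of a subgroup -/
def pb (h : EA ι) (K : Subgroup G) : Submodule F2 V10 where
  carrier := {x | ι x ∈ K}
  add_mem' ha hb := by simpa [h.add] using mul_mem ha hb
  zero_mem' := by simp [h.zero]
  smul_mem' c x hx := by rcases z2_cases c with rfl | rfl <;> simp_all [h.zero]

theorem card_pb (h : EA ι) (K : Subgroup G) : Nat.card (K ⊓ h.sub : Subgroup G) = 2 ^ finrank F2 (pb h K) := by
  rw [← card_sub]
  exact (Nat.card_congr (Equiv.ofBijective (fun x : pb h K => (⟨ι x, x.2, h.mem _⟩ : (K ⊓ h.sub : Subgroup G)))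
    ⟨fun a b e => Subtype.ext (h.inj (congrArg Subtype.val e)), fun ⟨_, a, x, e⟩ => ⟨⟨x, show ι x ∈ K from e ▸ a⟩,
      Subtype.ext e⟩⟩)).symm

/-- the group `Q_s A` -/
def Dg (π0 : C k0 →* G) (ι : V10 → G) (s g : G) : Prop := ∃ b, g * ι b ∈ QQ π0 s

theorem Dg.of_mem (h : EA ι) {s g : G} (hg : g ∈ QQ π0 s) : Dg π0 ι s g := ⟨0, by rwa [h.zero, mul_one]⟩

namespace Ark

variable {r s t : V10} {g x y : G}

theorem b2 (h : Ark π0 ι) (h0 : r ≠ 0) (hr : Q10 r = 0) : B2 π0 (ι r) := (h.sing r h0).2 hr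

theorem of_b2 (h : Ark π0 ι) (hb : B2 π0 (ι r)) : r ≠ 0 ∧ Q10 r = 0 :=
  have : r ≠ 0 := fun e => hb.ne_one (h.ea.eq_one.2 e)
  ⟨this, (h.sing r this).1 hb⟩

theorem perp (h : Ark π0 ι) (hb : B2 π0 (ι r)) (x : V10) : ι x ∈ QQ π0 (ι r) ↔ 𝔹 r x = 0 :=
  h.mem (h.of_b2 hb).1 (h.of_b2 hb).2 x

theorem at' (h : Ark π0 ι) (hb : B2 π0 (ι r)) : At π0 (Set.range ι) (ι r) := h.loc (h.of_b2 hb).1 (h.of_b2 hb).2

theorem memO (h : Ark π0 ι) (a : V10) : ι a ∈ OO ι := mem_OO.2 fun x => h.ea.comm x a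

theorem inv (h : Ark π0 ι) (a : V10) : (ι a)⁻¹ = ι a := inv_eq_of_mul_eq_one_right (h.ea.mul_self a)

theorem split (h : Ark π0 ι) {s : G} (hg : Dg π0 ι s g) : ∃ y ∈ QQ π0 s, ∃ a, g = y * ι a :=
  let ⟨b, e⟩ := hg; ⟨_, e, b, by rw [mul_assoc, h.ea.mul_self, mul_one]⟩

theorem ks (h : Ark π0 ι) (hb : B2 π0 (ι r)) (hg : Dg π0 ι (ι r) g) (hn : g ∉ QQ π0 (ι r)) (hx : x ∈ QQ π0 (ι r))
    (hc : ⁅g, x⁆ = 1 ∨ ⁅g, x⁆ = ι r) : x ∈ OO ι := by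
  obtain ⟨y, hy, a, rfl⟩ := h.split hg
  refine (h.at' hb).fix _ ⟨a, rfl⟩ (fun e => hn (mul_mem hy e)) x hx ?_
  have e : ⁅ι a, x⁆ = y⁻¹ * (⁅y * ι a, x⁆ * ⁅y, x⁆⁻¹) * y := by simp only [commutatorElement_def]; group
  rcases (mem_zp hb.sq).1 (mul_mem ((mem_zp hb.sq).2 hc) (inv_mem ((mem_zp hb.sq).2 (hb.comm_or hy hx)))) with b | b <;>
    rw [e, b]
  · simp
  · rw [mul_assoc, ← hb.comm hy, inv_mul_cancel_left]; simp

theorem ks' (h : Ark π0 ι) (hb : B2 π0 (ι r)) (hg : Dg π0 ι (ι r) g) (hn : g ∉ QQ π0 (ι r)) (hx : x ∈ QQ π0 (ι r))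
    (hc : g * x = x * g) : x ∈ OO ι :=
  h.ks hb hg hn hx (Or.inl (commutatorElement_eq_one_iff_mul_comm.2 hc))

theorem memO_of_sq (h : Ark π0 ι) (hb : B2 π0 (ι r)) (hg : Dg π0 ι (ι r) g) (hn : g ∉ QQ π0 (ι r))
    (h2 : g * g = 1) : g ∈ OO ι := by
  obtain ⟨y, hy, a, rfl⟩ := h.split hg
  refine mul_mem (h.ks hb hg hn hy ((mem_zp hb.sq).1 ?_)) (h.memO a)
  rw [show ⁅y * ι a, y⁆ = y * ι a * (y * ι a) * ((ι a)⁻¹ * (ι a)⁻¹) * (y * y)⁻¹ by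
    simp only [commutatorElement_def]; group, h2, h.inv, h.ea.mul_self, one_mul, one_mul]
  exact inv_mem ((mem_zp hb.sq).2 (hb.sq_or hy))

theorem im (h : Ark π0 ι) (hb : B2 π0 (ι r)) (hg : Dg π0 ι (ι r) g) (hO : g ∈ OO ι) (hx : x ∈ QQ π0 (ι r)) :
    ∃ a, ι a = ⁅g, x⁆ := by
  obtain ⟨y, hy, a, rfl⟩ := h.split hg
  obtain ⟨b, e⟩ := (h.at' hb).im _ ⟨a, rfl⟩ x hx
  have e2 : ⁅y * ι a, x⁆ = ι b * ⁅y, x⁆ := by
    rw [commutatorElement_mul_left_eq_conj_mul, ← e, ← mem_OO.1 ((mul_mem_cancel_right (h.memO a)).1 hO),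
      mul_inv_cancel_right]
  rcases hb.comm_or hy hx with c | c <;> rw [e2, c]
  exacts [⟨b, (mul_one _).symm⟩, ⟨b + r, h.ea.add _ _⟩]

theorem canon (h : Ark π0 ι) (hb : B2 π0 (ι r)) {t : G} (ht : Dg π0 ι (ι r) t) (hn : t ∉ QQ π0 (ι r))
    (hO : t ∈ OO ι) : g ∈ Set.range ι ↔ ∀ x ∈ QQ π0 (ι r), ⁅t, x⁆ = 1 ∨ ⁅t, x⁆ = ι r → x * g = g * x := by
  refine ⟨?_, fun k => (h.at' hb).cent g fun x hx xO => k x hx ?_⟩
  · rintro ⟨a, rfl⟩ x hx c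
    exact (mem_OO.1 (h.ks hb ht hn hx c) a).symm
  · obtain ⟨y, hy, a, rfl⟩ := h.split ht
    rw [commutatorElement_mul_left_eq_conj_mul, commutatorElement_eq_one_iff_mul_comm.2 (mem_OO.1 xO a)]
    simpa using hb.comm_or hy hx

theorem uniq (h : Ark π0 ι) (h' : Ark π0 ι') {s t : G} (hb : B2 π0 s) (h1 : s ∈ Set.range ι) (h1' : s ∈ Set.range ι')
    (h2 : Dg π0 ι s t) (h2' : Dg π0 ι' s t) (hn : t ∉ QQ π0 s) (ht : t * t = 1) : Set.range ι = Set.range ι' := by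
  obtain ⟨r, rfl⟩ := h1
  obtain ⟨r', e⟩ := h1'
  ext g
  rw [h.canon hb h2 hn (h.memO_of_sq hb h2 hn ht), ← e]
  rw [← e] at hb h2' hn
  rw [h'.canon hb h2' hn (h'.memO_of_sq hb h2' hn ht)]

theorem dg_self (h : Ark π0 ι) (s : G) (a : V10) : Dg π0 ι s (ι a) := ⟨a, by rw [h.ea.mul_self]; exact one_mem _⟩

theorem mul_mem_of (h : Ark π0 ι) (hb : B2 π0 (ι r)) (hg : Dg π0 ι (ι r) g) (hn : g ∉ QQ π0 (ι r)) {a : V10}
    (ha : 𝔹 r a = 1) : g * ι a ∈ QQ π0 (ι r) := by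
  obtain ⟨y, hy, b, rfl⟩ := h.split hg
  rw [mul_assoc, ← h.ea.add]
  refine mul_mem hy ((h.perp hb _).2 ?_)
  rw [polar_add_right, ha, z2_ne.1 fun e => hn (mul_mem hy ((h.perp hb _).2 e))]; rfl

theorem mul_mem_dg (h : Ark π0 ι) (hb : B2 π0 (ι r)) (hg : Dg π0 ι (ι r) g) (hn : g ∉ QQ π0 (ι r))
    (hy : Dg π0 ι (ι r) y) (hn' : y ∉ QQ π0 (ι r)) (hO : y ∈ OO ι) : g * y ∈ QQ π0 (ι r) := by
  obtain ⟨a, ha⟩ := (nondeg_qPlus 5).exists_eq (h.of_b2 hb).1 1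
  rw [polar_comm] at ha
  have := mul_mem (h.mul_mem_of hb hg hn ha) (h.mul_mem_of hb hy hn' ha)
  rwa [← mem_OO.1 hO, mul_assoc, ← mul_assoc (ι a), h.ea.mul_self, one_mul] at this

variable [Finite G]

theorem mem_add (h : Ark π0 ι) (hr : B2 π0 (ι r)) (hs : B2 π0 (ι s)) (hne : r ≠ s) (hp : 𝔹 r s = 0)
    (h1 : g ∈ QQ π0 (ι r)) (h2 : g ∈ QQ π0 (ι s)) : g ∈ QQ π0 (ι (r + s)) :=
  h.ea.add r s ▸ hr.mem_mul hs ((h.perp hr s).2 hp) (fun e => hne (h.ea.inj e).symm) h1 h2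

theorem b2_add (h : Ark π0 ι) (hr : B2 π0 (ι r)) (hs : B2 π0 (ι s)) (hne : r ≠ s) (hp : 𝔹 r s = 0) :
    B2 π0 (ι (r + s)) :=
  h.ea.add r s ▸ hr.mul hs ((h.perp hr s).2 hp) fun e => hne (h.ea.inj e).symm

theorem lam (h : Ark π0 ι) (hr : B2 π0 (ι r)) (hs : B2 π0 (ι s)) (hne : r ≠ s) (hp : 𝔹 r s = 0)
    (h1 : Dg π0 ι (ι r) g) (h2 : Dg π0 ι (ι s) g) (n1 : g ∉ QQ π0 (ι r)) (n2 : g ∉ QQ π0 (ι s)) :
    g ∈ QQ π0 (ι (r + s)) := by
  obtain ⟨a, a1, a2⟩ := ex11 (h.of_b2 hr).1 (h.of_b2 hs).1 hne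
  exact (mul_mem_cancel_right ((h.perp (h.b2_add hr hs hne hp) a).2 (by rw [polar_add_left, a1, a2]; rfl))).1
    (h.mem_add hr hs hne hp (h.mul_mem_of hr h1 n1 a1) (h.mul_mem_of hs h2 n2 a2))

omit [Finite G] in
theorem exists_f (h : Ark π0 ι) (hg : ∀ a, ∃ b, ι b = ⁅g, ι a⁆) : ∃ f : V10 →+ V10, ∀ a, ι (f a) = ⁅g, ι a⁆ := by
  choose f hf using hg
  refine ⟨AddMonoidHom.mk' f fun a b => h.ea.inj ?_, hf⟩
  rw [hf, h.ea.add, h.ea.add, commutatorElement_mul_right_eq_mul_conj, ← hf, ← hf, mul_assoc (ι (f a)),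
    mul_assoc (ι (f a)), h.ea.comm a, mul_inv_cancel_right]

omit [Finite G] in
theorem f_or (h : Ark π0 ι) {f : V10 →+ V10} (hf : ∀ a, ι (f a) = ⁅g, ι a⁆) (hr : B2 π0 (ι r)) {u : G}
    (hu : u ∈ OO ι) (hg : g * u ∈ QQ π0 (ι r)) {a : V10} (ha : 𝔹 r a = 0) : f a = 0 ∨ f a = r := by
  have := hr.comm_or hg ((h.perp hr a).2 ha)
  rw [commutatorElement_mul_left_eq_conj_mul, commutatorElement_eq_one_iff_mul_comm.2 (mem_OO.1 hu a).symm, mul_one,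
    mul_inv_cancel, one_mul, ← hf] at this
  exact this.imp h.ea.eq_one.1 fun e => h.ea.inj e

theorem tri (h : Ark π0 ι) (hr : B2 π0 (ι r)) (hs : B2 π0 (ι s)) (ht : B2 π0 (ι t)) (hne : r ≠ s) (hp : 𝔹 r s = 0)
    (hn : t ∉ Submodule.span F2 {r, s}) (h1 : g ∈ QQ π0 (ι r)) (h2 : g ∈ QQ π0 (ι s)) (h3 : g ∈ QQ π0 (ι t)) :
    g ∈ OO ι := by
  obtain ⟨f, hf⟩ := h.exists_f (g := g) fun a => by
    obtain ⟨b, e⟩ := (h.at' hr).im _ ⟨a, rfl⟩ g h1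
    exact ⟨b, by rw [← commutatorElement_inv, ← e, h.inv]⟩
  have k : ∀ {ρ}, B2 π0 (ι ρ) → g ∈ QQ π0 (ι ρ) → ∀ a, 𝔹 ρ a = 0 → f a = 0 ∨ f a = ρ := fun b c a e =>
    h.f_or hf b (one_mem _) (by rwa [mul_one]) e
  rcases siegel f (h.of_b2 hr).1 (h.of_b2 hs).1 hne (by
    rintro _ (rfl | rfl | rfl)
    exacts [k hr h1, k hs h2, k (h.b2_add hr hs hne hp) (h.mem_add hr hs hne hp h1 h2)]) with a | a
  · exact mem_OO.2 fun x => (commutatorElement_eq_one_iff_mul_comm.1 (by rw [← hf, a, h.ea.zero])).symm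
  rw [mem_span2] at hn
  obtain ⟨x, x1, x2⟩ := exists_sep (X := Submodule.span F2 {r, t}) (v := s) (by
    rw [mem_span2]
    rintro (e | e | e | e)
    exacts [(h.of_b2 hs).1 e, hne e.symm, hn (by simp [e]), hn (by simp [e, ← add_assoc, vv])])
  have := k ht h3 x (x1 t (by simp [mem_span2]))
  rw [a, x2, x1 r (by simp [mem_span2]), one_smul, zero_smul, add_zero] at this
  exact (this.elim (h.of_b2 hr).1 fun e => hn (by simp [e])).elim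

end Ark

/-- coordinates on `O / A` -/
structure Sp (π0 : C k0 →* G) (ι : V10 → G) (p : G → V16) (S : QuadraticMap F2 V16 V10) : Prop where
  ark : Ark π0 ι
  mul : ∀ {a b}, a ∈ OO ι → b ∈ OO ι → p (a * b) = p a + p b
  surj : ∀ w, ∃ g ∈ OO ι, p g = w
  ker : ∀ {g}, g ∈ OO ι → (p g = 0 ↔ g ∈ Set.range ι)
  sq : ∀ {g}, g ∈ OO ι → ι (S (p g)) = g * g
  cm : ∀ {g y}, g ∈ OO ι → y ∈ OO ι → ι (polar S (p g) (p y)) = ⁅g, y⁆

theorem Ark.exists_sp [Finite G] (h : Ark π0 ι) : ∃ p S, Sp π0 ι p S := by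
  classical
  have hle : h.ea.sub ≤ OO ι := by rintro _ ⟨a, rfl⟩; exact h.memO a
  haveI : (h.ea.sub.subgroupOf (OO ι)).Normal := ⟨by
    rintro n ⟨a, e⟩ g
    exact ⟨a, by rw [coe_subtype] at e ⊢; rw [coe_mul, coe_mul, ← e, ← mem_OO.1 g.2, coe_inv, mul_inv_cancel_right]⟩⟩
  obtain ⟨φ, h1, h2⟩ := exists_coord (W := OO ι ⧸ h.ea.sub.subgroupOf (OO ι)) (n := 16) (by
    rintro ⟨x⟩; exact (QuotientGroup.eq_one_iff (x * x)).2 (h.sq x x.2)) (by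
    have := card_eq_card_quotient_mul_card_subgroup (h.ea.sub.subgroupOf (OO ι))
    rw [h.card, Nat.card_congr (subgroupOfEquivOfLe hle).toEquiv, h.ea.card, Nat.card_fun, Nat.card_zmod] at this
    simp only [Nat.card_eq_fintype_card, Fintype.card_sum, Fintype.card_fin] at this ⊢
    omega)
  let p : G → V16 := fun g => if e : g ∈ OO ι then φ (QuotientGroup.mk ⟨g, e⟩) else 0
  have p1 : ∀ {a b}, a ∈ OO ι → b ∈ OO ι → p (a * b) = p a + p b := fun ha hb => by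
    simp only [p, dif_pos ha, dif_pos hb, dif_pos (mul_mem ha hb), ← h2]; rfl
  have p2 : ∀ w, ∃ g ∈ OO ι, p g = w := fun w => by
    obtain ⟨⟨g⟩, rfl⟩ := h1.2 w
    exact ⟨g, g.2, dif_pos g.2⟩
  have p3 : ∀ {g}, g ∈ OO ι → (p g = 0 ↔ g ∈ Set.range ι) := fun hg => by
    rw [show (0 : V16) = φ 1 from left_eq_add.1 ((congrArg φ (mul_one 1)).symm.trans (h2 1 1)) ▸ rfl]
    simp only [p, dif_pos hg, h1.1.eq_iff]
    exact QuotientGroup.eq_one_iff _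
  choose σ σ1 σ2 using p2
  choose f hf using fun w => h.sq _ (σ1 w)
  have f1 : ∀ {g}, g ∈ OO ι → ι (f (p g)) = g * g := fun {g} hg => by
    obtain ⟨a, e⟩ := (p3 (mul_mem (inv_mem hg) (σ1 (p g)))).1 (by
      rw [← add_right_inj (p g), ← p1 hg (mul_mem (inv_mem hg) (σ1 _)), mul_inv_cancel_left, σ2, add_zero])
    rw [hf, show σ (p g) = g * ι a by rw [e, mul_inv_cancel_left], mul_assoc, ← mul_assoc (ι a), mem_OO.1 hg,
      mul_assoc, h.ea.mul_self, mul_one]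
  have f2 : ∀ {g y}, g ∈ OO ι → y ∈ OO ι → ι (polar f (p g) (p y)) = ⁅g, y⁆ := fun {g y} hg hy => by
    obtain ⟨c, hc⟩ := h.cm g hg y hy
    rw [← hc, polar, ← p1 hg hy, show f (p (g * y)) = c + f (p g) + f (p y) from h.ea.inj ?_]
    · congr 1; abel
    have e : y * g = ι c * (g * y) := by rw [← h.inv, hc, commutatorElement_def]; group
    rw [h.ea.add, h.ea.add, f1 hg, f1 hy, f1 (mul_mem hg hy), mul_assoc g, ← mul_assoc y, e, ← mul_assoc,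
      ← mul_assoc, ← mem_OO.1 hg]
    group
  have f3 : ∀ x x' y, polar f (x + x') y = polar f x y + polar f x' y := fun x x' y => h.ea.inj (by
    rw [h.ea.add, ← σ2 x, ← σ2 x', ← σ2 y, ← p1 (σ1 _) (σ1 _), f2 (mul_mem (σ1 _) (σ1 _)) (σ1 _),
      commutatorElement_mul_left_eq_conj_mul, ← f2 (σ1 _) (σ1 _), ← f2 (σ1 _) (σ1 _), ← mem_OO.1 (σ1 x),
      mul_inv_cancel_right, h.ea.comm])
  have f0 : f 0 = 0 := h.ea.eq_one.1 (by rw [← (p3 (one_mem _)).2 ⟨0, h.ea.zero⟩, f1 (one_mem _), mul_one])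
  refine ⟨p, QuadraticMap.ofPolar f (fun a x => ?_) f3 fun a x y => ?_, h, p1, fun w => ⟨_, σ1 w, σ2 w⟩, p3, f1, f2⟩ <;>
    rcases z2_cases a with rfl | rfl <;> simp [f0, polar]

namespace Sp

variable {p : G → V16} {S : QuadraticMap F2 V16 V10} {r s t : V10} {g x y : G}

theorem p_i (h : Sp π0 ι p S) (a : V10) : p (ι a) = 0 := (h.ker (h.ark.memO a)).2 ⟨a, rfl⟩

theorem p_one (h : Sp π0 ι p S) : p 1 = 0 := h.ark.ea.zero ▸ h.p_i 0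

theorem p_inv (h : Sp π0 ι p S) (hg : g ∈ OO ι) : p g⁻¹ = p g := by
  rw [← add_eq_zero2, ← h.mul (inv_mem hg) hg, inv_mul_cancel, h.p_one]

theorem p_mul_i (h : Sp π0 ι p S) (hg : g ∈ OO ι) (a : V10) : p (g * ι a) = p g := by
  rw [h.mul hg (h.ark.memO a), h.p_i, add_zero]

theorem eq_iff (h : Sp π0 ι p S) (hg : g ∈ OO ι) (hy : y ∈ OO ι) : p g = p y ↔ ∃ a, g = y * ι a := by
  refine ⟨fun e => ?_, fun ⟨a, e⟩ => by rw [e, h.p_mul_i hy]⟩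
  obtain ⟨a, ha⟩ := (h.ker (mul_mem (inv_mem hy) hg)).1 (by rw [h.mul (inv_mem hy) hg, h.p_inv hy, e, vv])
  exact ⟨a, by rw [ha, mul_inv_cancel_left]⟩

theorem sq_zero (h : Sp π0 ι p S) (hg : g ∈ OO ι) : S (p g) = 0 ↔ g * g = 1 := by rw [← h.sq hg, h.ark.ea.eq_one]

theorem cm_zero (h : Sp π0 ι p S) (hg : g ∈ OO ι) (hy : y ∈ OO ι) : polar S (p g) (p y) = 0 ↔ g * y = y * g := by
  rw [← h.ark.ea.eq_one, h.cm hg hy, commutatorElement_eq_one_iff_mul_comm]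

/-- the image of a subgroup -/
def img (h : Sp π0 ι p S) (H : Subgroup G) : Submodule F2 V16 where
  carrier := {w | ∃ g ∈ H ⊓ OO ι, p g = w}
  add_mem' := by rintro _ _ ⟨a, ha, rfl⟩ ⟨b, hb, rfl⟩; exact ⟨_, mul_mem ha hb, h.mul ha.2 hb.2⟩
  zero_mem' := ⟨1, one_mem _, h.p_one⟩
  smul_mem' c x hx := by
    rcases z2_cases c with rfl | rfl
    exacts [⟨1, one_mem _, by simp [h.p_one]⟩, by simpa using hx]

/-- the preimage of a subspace -/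
def pre (h : Sp π0 ι p S) (X : Submodule F2 V16) : Subgroup G where
  carrier := {g | g ∈ OO ι ∧ p g ∈ X}
  mul_mem' ha hb := ⟨mul_mem ha.1 hb.1, h.mul ha.1 hb.1 ▸ add_mem ha.2 hb.2⟩
  one_mem' := ⟨one_mem _, h.p_one ▸ zero_mem _⟩
  inv_mem' ha := ⟨inv_mem ha.1, (h.p_inv ha.1).symm ▸ ha.2⟩

theorem card_img [Finite G] (h : Sp π0 ι p S) (H : Subgroup G) :
    Nat.card (H ⊓ OO ι : Subgroup G) = 2 ^ (finrank F2 (pb h.ark.ea H) + finrank F2 (h.img H)) := by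
  rw [pow_add, ← card_pb, ← card_sub]
  exact (card_hom (H ⊓ OO ι) p (fun a ha b hb => h.mul ha.2 hb.2) (K := H ⊓ h.ark.ea.sub) (fun g =>
    ⟨fun ⟨a, x, e⟩ => e ▸ ⟨⟨e ▸ a, h.ark.memO x⟩, h.p_i x⟩, fun ⟨a, b⟩ => ⟨a.1, (h.ker a.2).1 b⟩⟩)
    (X := h.img H) fun _ => Iff.rfl).symm

theorem DD_of (h : Sp π0 ι p S) (hb : B2 π0 (ι r)) (hg : g ∈ OO ι) (hd : Dg π0 ι (ι r) g) : p g ∈ DD S r := by
  obtain ⟨y, hy, a, rfl⟩ := h.ark.split hd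
  have yO := (mul_mem_cancel_right (h.ark.memO a)).1 hg
  intro w
  obtain ⟨u, hu, rfl⟩ := h.surj w
  rw [h.p_mul_i yO, ← h.ark.perp hb, h.cm yO hu]
  exact comm_mem_QQ' (mem_OO.1 hu r).symm hy

theorem img_le (h : Sp π0 ι p S) (hb : B2 π0 (ι r)) : h.img (QQ π0 (ι r)) ≤ DD S r := by
  rintro _ ⟨g, hg, rfl⟩
  exact h.DD_of hb hg.2 (Dg.of_mem h.ark.ea hg.1)

theorem dis (h : Sp π0 ι p S) (hy : Hyp Q10 r t) {w : V16} (h1 : w ∈ h.img (QQ π0 (ι r))) (h2 : w ∈ DD S t) :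
    w = 0 := by
  obtain ⟨g, hg, rfl⟩ := h1
  have hb := h.ark.b2 hy.e_ne hy.he
  refine (h.ker hg.2).2 ((h.ark.at' hb).cent g fun y hy1 hy2 => ((h.cm_zero hg.2 hy2).1 ?_).symm)
  have := hb.comm_or hg.1 hy1
  rw [← h.cm hg.2 hy2, h.ark.ea.eq_one] at this
  refine this.resolve_right fun e => ?_
  have := h2 (p y)
  rw [h.ark.ea.inj e, hy.hfe] at this
  exact one_ne_zero this

variable [Finite G]

theorem finrank_img (h : Sp π0 ι p S) (hb : B2 π0 (ι r)) : finrank F2 (h.img (QQ π0 (ι r))) = 8 := by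
  have h1 := h.card_img (QQ π0 (ι r))
  have h2 := finrank_pp (Submodule.span F2 {r})
  rw [finrank_span_singleton (h.ark.of_b2 hb).1, show pp (Submodule.span F2 {r}) = pb h.ark.ea (QQ π0 (ι r)) from
    Submodule.ext fun x => by
      simp only [mem_pp, mem_span1, forall_eq_or_imp, forall_eq, polar_zero_left, true_and]
      exact (h.ark.perp hb x).symm] at h2
  rw [(h.ark.at' hb).card] at h1
  have := Nat.pow_right_injective (le_refl 2) h1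
  omega

theorem DD_eq (h : Sp π0 ι p S) (hb : B2 π0 (ι r)) : DD S r = h.img (QQ π0 (ι r)) := by
  obtain ⟨t, hy⟩ := (nondeg_qPlus 5).exists_hyp (h.ark.of_b2 hb).2 (h.ark.of_b2 hb).1
  have ht := h.ark.b2 hy.f_ne hy.hf
  have h1 := Submodule.finrank_sup_add_finrank_inf_eq (DD S r) (h.img (QQ π0 (ι t)))
  have h2 := (DD S r ⊔ h.img (QQ π0 (ι t))).finrank_le
  rw [(Submodule.disjoint_def.2 fun w a b => h.dis hy.symm b a).eq_bot, finrank_bot, h.finrank_img ht] at h1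
  refine (Submodule.eq_of_le_of_finrank_le (h.img_le hb) ?_).symm
  rw [h.finrank_img hb]
  simp at h2
  omega

theorem mem_DD (h : Sp π0 ι p S) (hb : B2 π0 (ι r)) (hg : g ∈ OO ι) : p g ∈ DD S r ↔ Dg π0 ι (ι r) g := by
  refine ⟨fun e => ?_, h.DD_of hb hg⟩
  obtain ⟨y, hy, e⟩ := h.DD_eq hb ▸ e
  obtain ⟨a, rfl⟩ := (h.eq_iff hy.2 hg).1 e
  exact ⟨a, hy.1⟩

theorem spin (h : Sp π0 ι p S) : Spin S := by
  refine ⟨fun h0 hr => ?_, fun h0 hr w hw => ?_, fun hy w h1 h2 => ?_, fun X hX => ?_⟩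
  · rw [h.DD_eq (h.ark.b2 h0 hr), h.finrank_img (h.ark.b2 h0 hr)]
  · obtain ⟨g, hg, rfl⟩ := h.DD_eq (h.ark.b2 h0 hr) ▸ hw
    have := (h.ark.b2 h0 hr).sq_or hg.1
    rwa [← h.sq hg.2, h.ark.ea.eq_one, h.ark.ea.inj.eq_iff] at this
  · exact h.dis hy (h.DD_eq (h.ark.b2 hy.e_ne hy.he) ▸ h1) h2
  · have h1 := h.ark.rank (h.pre X) fun g hg => (h.sq_zero hg.1).1 (hX _ hg.2)
    have h2 := h.card_img (h.pre X)
    rw [inf_eq_left.2 fun g hg => hg.1, show pb h.ark.ea (h.pre X) = ⊤ from eq_top_iff.2 fun a _ =>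
      ⟨h.ark.memO a, (h.p_i a).symm ▸ zero_mem _⟩, show h.img (h.pre X) = X from le_antisymm (by
        rintro _ ⟨g, hg, rfl⟩; exact hg.1.2) fun w hw => let ⟨g, a, b⟩ := h.surj w; ⟨g, ⟨⟨a, b ▸ hw⟩, a⟩, b⟩,
      finrank_top, finrank_V10] at h2
    have := (Nat.pow_le_pow_iff_right (le_refl 2)).1 (h2 ▸ h1)
    omega

end Sp

/-- arks with a frame -/
def Ak (π0 : C k0 →* G) (ι : V10 → G) : Prop := ∃ π τ, Frm π0 π τ ∧ ι = fun x => π (i0 x)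

theorem Ak.ark [Finite G] (h : Ak π0 ι) : Ark π0 ι := by
  obtain ⟨π, τ, h, rfl⟩ := h
  exact h.ark

theorem Ak.conj (h : Ak π0 ι) (g : G) : Ak π0 fun x => g * ι x * g⁻¹ := by
  obtain ⟨π, τ, h, rfl⟩ := h
  obtain ⟨π', τ', h', e⟩ := h.conj g
  exact ⟨π', τ', h', funext fun x => (e _).symm⟩

theorem Ak.iso [Finite G] (h : Ak π0 ι) {g : O Q10} (hg : g ∈ OrthE.E Q10) : Ak π0 fun x => ι (g.1 x) := by
  obtain ⟨π, τ, h, rfl⟩ := h
  obtain ⟨π', τ', h', e⟩ := h.exists_iso hg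
  exact ⟨π', τ', h', funext fun x => (e _).symm⟩

theorem Dg.conj {s g : G} (h : Dg π0 ι s g) (n : G) : Dg π0 (fun x => n * ι x * n⁻¹) (n * s * n⁻¹) (n * g * n⁻¹) :=
  let ⟨b, e⟩ := h; ⟨b, by simpa [mul_assoc] using conj_mem_QQ n e⟩

theorem Dg.congr {s g : G} (h : Dg π0 ι s g) (e : Set.range ι = Set.range ι') : Dg π0 ι' s g := by
  obtain ⟨b, hb⟩ := h
  obtain ⟨c, hc⟩ : ι b ∈ Set.range ι' := e ▸ ⟨b, rfl⟩
  exact ⟨c, hc ▸ hb⟩

theorem Ak.norm [Finite G] (h : Ak π0 ι) {s t n : G} (hb : B2 π0 s) (h1 : s ∈ Set.range ι) (h2 : Dg π0 ι s t)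
    (hn : t ∉ QQ π0 s) (ht : t * t = 1) (e1 : n * s = s * n) (e2 : n * t = t * n) :
    (Set.range fun x => n * ι x * n⁻¹) = Set.range ι :=
  (h.conj n).ark.uniq h.ark hb (let ⟨r, e⟩ := h1; ⟨r, by simp [e, e1]⟩) h1 (by simpa [e1, e2] using h2.conj n) h2 hn ht

/-- the two types of commuting pairs -/
theorem B2.types' [Finite G] {s r t : G} (hs : B2 π0 s) (hr : B2 π0 r) (h1 : s ∈ QQ π0 r) (h2 : t ∈ QQ π0 r)
    (hc : t * s = s * t) (hn : t ∉ QQ π0 s) : (∃ ι, Ak π0 ι ∧ s ∈ Set.range ι ∧ Dg π0 ι s t) ∨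
    ∀ x ∈ QQ π0 s, x * x = 1 → t * x = x * t → x ∈ QQ π0 r := by
  obtain ⟨π, τ, h, rfl, rfl⟩ := hs.pair hr (hr.symm hs h1) (by rintro rfl; exact hn h2)
  have h3 := conj_mem_QQ τ⁻¹ h2
  rw [← h.ms.am.conj_z, inv_inv, show τ⁻¹ * (τ * π (z k0) * τ⁻¹) * τ = π (z k0) by group] at h3
  obtain ⟨e, v, h4⟩ := h.mem_QQ.1 h3
  obtain ⟨c, ⟨-, c1⟩, c2⟩ := h.ms.am.conj_Q (q_mem_Q e v) ((h.mm.comm_w0 1).1 (by
    refine (MulAut.conj τ).injective ?_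
    rw [map_mul, map_mul, ← h4, MulAut.conj_apply, MulAut.conj_apply, h.ms.am.conj_z']
    simpa [mul_assoc] using hc))
  obtain rfl : t = π c := by rw [← c2, ← h4]; group
  obtain ⟨x, rfl⟩ := mk_surjective c
  obtain ⟨d, hd, h5⟩ := (mk_mem_pre negAut_mem_signs).1 c1
  have k : ∀ d (hd : IsCW d), d.card = 8 → (∀ v, k0.act x.g v = k0.act (sgnAut d hd) v) →
      ∃ ι, Ak π0 ι ∧ π (z k0) ∈ Set.range ι ∧ Dg π0 ι (π (z k0)) (π (mk k0 x)) := fun d hd h8 a => by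
    obtain ⟨π', τ', σ, h', rfl, b1, -, ⟨k, b2, b3⟩, -⟩ := h.exists_oct (mem_octads_iff.2 ⟨hd, h8⟩)
    refine ⟨_, ⟨π', τ', h', rfl⟩, ⟨e10, by rw [← b1, ← i0_e]⟩, Pi.single (.inr 0) 1, ?_⟩
    beta_reduce
    rw [b3, ← map_mul, h.mem_QQ', mem_Q_iff_cact]
    intro v
    rw [cact_mul, cact_mul, cact_mul, cact_i0 (by simp), cact_mk, cact_mk, a, ← map_inv, cact_mk, Chat.inv_g, b2,
      ← k0.act_mul, ← k0.act_mul, ← k0.act_mul, tO, mul_assoc (sgnAut _ _) (permAut σ),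
      permAut_mul_sgnAut, ← mul_assoc, sgnAut_mul_self]
    simp
  rw [h.mem_QQ', mk_mem_Q, h5] at hn
  rcases hd.card_eq with a | a | a | a | a
  · obtain rfl := Finset.card_eq_zero.1 a
    exact absurd (Or.inl sgnAut_empty) hn
  · exact Or.inl (k d hd a fun v => by rw [h5])
  · refine Or.inr fun y hy y2 yc => ?_
    obtain ⟨f, u, rfl⟩ := h.mem_QQ.1 hy
    refine h.mem_w _ _ (fst_of_dod hd a ?_ (q_mul_self_eq_one.1 (h.ms.inj (by rwa [map_mul, map_one]))))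
    simpa [h5] using (comm_q_iff.1 (h.mm.comm_iff.1 yc)).2
  · exact Or.inl (k dᶜ hd.compl (by simp [Finset.card_compl, a]) fun v => by rw [h5, act_sgn_compl])
  · obtain rfl := hd.eq_univ (by omega)
    exact absurd (Or.inr rfl) hn

end CfsgLib.Mon.Mx
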