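import Mathlib
import Cfsg.Agent.Lib.Mon.MxC
import Cfsg.Agent.Lib.Core.Cores
import Cfsg.Agent.Lib.PLocal.Constrained
import Cfsg.Prelude.Def_CaseTheorems

/-!
Maximal `2`-local subgroups: the set-up, and non-perpendicular pairs inside an ark.
-/

set_option autoImplicit false

namespace CfsgLib.Mon.Mx

open Cfsg CfsgLib.Leech CfsgLib.MType CfsgLib.OrthE CfsgLib.Golay Subgroup QuadraticMap Module
open scoped commutatorElement Pointwise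

local notation "F2" => ZMod 2
local notation "𝔹" => polar Q10

variable {G : Type*} [Group G] {π0 π : C k0 →* G} {τ : G} {ι ι' : V10 → G} {Z : Subgroup G}

/-- invariant sets of involutions of odd size meet `Z` -/
def Fix (Z : Subgroup G) : Prop := ∀ T : Set G, Odd T.ncard → (∀ x ∈ T, x * x = 1) →
  (∀ g, (∀ y ∈ Z, g * y = y * g) → ∀ x ∈ T, g * x * g⁻¹ ∈ T) → ∃ x ∈ T, x ∈ Z

theorem pg_of_sq {E : Subgroup G} (h : ∀ x ∈ E, x * x = 1) : IsPGroup 2 E := fun g =>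
  ⟨1, Subtype.ext (by simpa [pow_two] using h g g.2)⟩

theorem Fix.sub [Finite G] (h : Fix Z) {K : Subgroup G} (h2 : ∀ x ∈ K, x * x = 1) (h1 : ∃ x ∈ K, x ≠ 1)
    (h3 : ∀ g, (∀ y ∈ Z, g * y = y * g) → ∀ x ∈ K, g * x * g⁻¹ ∈ K) : ∃ x ∈ K, x ≠ 1 ∧ x ∈ Z := by
  obtain ⟨x, ⟨a, b⟩, c⟩ := h (K \ {1}) (by
    obtain ⟨n, hn⟩ := IsPGroup.iff_card.1 (pg_of_sq h2)
    obtain ⟨x, a, b⟩ := h1
    rw [Set.ncard_diff_singleton_of_mem K.one_mem, ← Nat.card_coe_set_eq]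
    refine Nat.Even.sub_odd Nat.card_pos (hn ▸ (Nat.even_pow.2 ⟨even_two, ?_⟩)) odd_one
    rintro rfl
    exact b (mem_bot.1 (card_eq_one.1 hn ▸ a))) (fun x hx => h2 x hx.1) fun g hg x hx =>
      ⟨h3 g hg x hx.1, fun e => hx.2 (by simpa using e)⟩
  exact ⟨x, a, b, c⟩

theorem exists_Z [Finite G] {N : Subgroup G} (hN : IsMaximalTwoLocal N) : ∃ Z : Subgroup G, (∀ x ∈ Z, x * x = 1) ∧
    Z ≠ ⊥ ∧ N ≤ normalizer Z ∧ ((∃ s ∈ Z, B2 π0 s) → Fix Z) := by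
  obtain ⟨⟨T, t1, t2, rfl⟩, hm⟩ := hN
  set N := normalizer (T : Set G)
  set R := (pCore 2 N).map N.subtype
  have r1 : IsPGroup 2 R := Core.isPGroup_map_pCore N
  have r2 : R ≠ ⊥ := fun e => t2 (le_bot_iff.1 (e ▸ Core.le_map_pCore le_normalizer le_rfl t1))
  have r3 : N ≤ normalizer R := le_normalizer.trans (Core.normalizer_le_normalizer_map_pCore N)
  have r4 : normalizer R = N := hm _ ⟨R, r1, r2, rfl⟩ r3
  have r5 : N ≤ normalizer (centralizer (R : Set G)) := r3.trans (Core.normalizer_le_normalizer_centralizer _)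
  have r6 : centralizer (R : Set G) ≤ N := r4 ▸ centralizer_le_normalizer _
  let Z : Subgroup G :=
    { carrier := {x | x ∈ R ∧ x ∈ centralizer (R : Set G) ∧ x * x = 1}
      one_mem' := ⟨one_mem _, one_mem _, mul_one _⟩
      mul_mem' := fun {a b} ha hb => ⟨mul_mem ha.1 hb.1, mul_mem ha.2.1 hb.2.1, by
        rw [mul_assoc, ← mul_assoc b, ha.2.1 b hb.1, mul_assoc, hb.2.2, mul_one, ha.2.2]⟩
      inv_mem' := fun {a} ha => by rwa [inv_eq_of_mul_eq_one_right ha.2.2] }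
  refine ⟨Z, fun x hx => hx.2.2, ?_, le_normalizer_iff.2 fun n hn x hx => ⟨(r3 hn x).1 hx.1, (r5 hn x).1 hx.2.1, by
    rw [conj_mul, hx.2.2, mul_one, mul_inv_cancel]⟩, fun ⟨s, hs, hb⟩ X h1 h2 h3 => ?_⟩
  · haveI := (nontrivial_iff_ne_bot R).2 r2
    haveI := r1.center_nontrivial
    obtain ⟨n, h0, hn⟩ := (r1.to_subgroup (center R)).nontrivial_iff_card.1 inferInstance
    obtain ⟨x, hx⟩ := exists_prime_orderOf_dvd_card' (G := center R) 2 (hn ▸ dvd_pow_self _ h0.ne')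
    refine (ne_bot_iff_exists_ne_one.2 ⟨⟨x, x.1.2, fun y hy => congrArg Subtype.val (mem_center_iff.1 x.2 ⟨y, hy⟩),
      ?_⟩, fun e => ?_⟩)
    · exact congrArg (fun y : center R => (y.1 : G)) ((pow_two x).symm.trans (hx ▸ pow_orderOf_eq_one x))
    · rw [show x = 1 from Subtype.ext (Subtype.ext (congrArg Subtype.val e :)), orderOf_one] at hx
      exact absurd hx (by decide)
  have q1 : ∀ g, g * s = s * g → g ∈ normalizer (QQ π0 s) := fun g e =>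
    mem_normalizer_fintype fun x hx => conj_mem_of_comm e hx
  have c1 : IsPGroup 2 (centralizer (R : Set G)) := fun x => by
    obtain ⟨k, m, hm, e⟩ := Nat.exists_eq_two_pow_mul_odd (orderOf_pos (x : G)).ne'
    have hx := pow_mem x.2 (2 ^ k)
    have o : orderOf ((x : G) ^ 2 ^ k) = m := by
      rw [orderOf_pow_of_dvd (by positivity) (e ▸ dvd_mul_right _ _), e, Nat.mul_div_cancel_left _ (by positivity)]
    have := PLocal.Constr.a_times_b r1 (IsPGroup.of_card hb.card) (fun g hg => q1 g (hs.2.1 g hg))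
      (o ▸ hm.coprime_two_right) (q1 _ (hx s hs.1).symm) hx fun u h1 h2 => hx u
        (Core.map_pCore_le_map_pCore r6 r5 (Core.le_map_pCore (N := QQ π0 s ⊓ centralizer R) inf_le_right
          (fun g hg => inf_normalizer_le_normalizer_inf ⟨q1 g (hg s hs.1).symm, le_normalizer hg⟩)
          (IsPGroup.to_inf_left (IsPGroup.of_card hb.card)) ⟨h1, h2⟩))
    refine ⟨k, Subtype.ext ((hb.cent this).resolve_right fun a => ?_)⟩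
    rw [a, orderOf_eq_prime (p := 2) ((pow_two _).trans hb.sq) hb.ne_one] at o
    exact absurd (o ▸ hm) (by decide)
  have h4 := fun g (hg : g ∈ R) => h3 g fun y hy => hy.2.1 g hg
  let _ : MulAction R X :=
    { smul := fun g x => ⟨_, h4 g g.2 x x.2⟩
      one_smul := fun x => Subtype.ext (show (1 : G) * x * 1⁻¹ = x by simp)
      mul_smul := fun g k x => Subtype.ext (show (g * k : G) * x * (g * k : G)⁻¹ = g * (k * x * (k : G)⁻¹) * (g : G)⁻¹ by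
        group) }
  obtain ⟨x, hx⟩ := r1.nonempty_fixed_point_of_prime_not_dvd_card X
    fun k => Nat.not_even_iff_odd.2 h1 (even_iff_two_dvd.2 k)
  have : (x : G) ∈ centralizer (R : Set G) := fun g hg =>
    mul_inv_eq_iff_eq_mul.1 (congrArg Subtype.val (hx ⟨g, hg⟩))
  exact ⟨x, x.2, Core.le_map_pCore r6 r5 c1 this, this, h2 x x.2⟩

theorem two_mul_le [Finite G] {H K : Subgroup G} (h : H ≤ K) {x : G} (h1 : x ∈ K) (h2 : x ∉ H) :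
    2 * Nat.card H ≤ Nat.card K := by
  obtain ⟨k, hk⟩ := card_dvd_of_le h
  have h3 : Nat.card H < Nat.card K := lt_of_le_of_ne (card_le_of_le h) fun e => h2 (eq_of_le_of_card_ge h e.ge ▸ h1)
  rw [hk] at h3 ⊢
  exact mul_comm 2 _ ▸ Nat.mul_le_mul_left _ ((Nat.lt_mul_iff_one_lt_right Nat.card_pos).1 h3)

theorem le_two_mul [Finite G] {H K : Subgroup G} (h : ∀ x ∈ K, ∀ y ∈ K, x ∉ H → y ∉ H → x * y ∈ H) :
    Nat.card K ≤ 2 * Nat.card (K ⊓ H : Subgroup G) := by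
  rw [← (H.subgroupOf K).index_mul_card, inf_comm, ← subgroupOf_map_subtype, card_map_of_injective K.subtype_injective]
  refine Nat.mul_le_mul_right _ ?_
  by_cases e : K ≤ H
  · rw [subgroupOf_eq_top.2 e, index_top]; omega
  obtain ⟨y, y1, y2⟩ := SetLike.not_le_iff_exists.1 e
  refine (index_eq_two_iff.2 ⟨⟨y, y1⟩, fun x => ?_⟩).le
  by_cases a : (x : G) ∈ H
  · exact Or.inr ⟨a, fun b => y2 ((mul_mem_cancel_left a).1 b)⟩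
  · exact Or.inl ⟨h x x.2 y y1 a y2, a⟩

/-- the points of `Z` with the largest neighbourhood -/
def MZ (π0 : C k0 →* G) (Z : Subgroup G) (s : G) : Prop := s ∈ Z ∧ B2 π0 s ∧
  ∀ r ∈ Z, B2 π0 r → Nat.card (Z ⊓ QQ π0 r : Subgroup G) ≤ Nat.card (Z ⊓ QQ π0 s : Subgroup G)

theorem exists_MZ [Finite G] (h : ∃ s ∈ Z, B2 π0 s) : ∃ s, MZ π0 Z s :=
  let ⟨s, a, b⟩ := Set.exists_max_image {s | s ∈ Z ∧ B2 π0 s} (fun s => Nat.card (Z ⊓ QQ π0 s : Subgroup G))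
    (Set.toFinite _) h
  ⟨s, a.1, a.2, fun r c d => b r ⟨c, d⟩⟩

theorem MZ.conj [Finite G] {s n : G} (h : MZ π0 Z s) (hn : n ∈ normalizer Z) : MZ π0 Z (n * s * n⁻¹) :=
  ⟨(hn s).1 h.1, h.2.1.conj n, fun r a b => (h.2.2 r a b).trans (Nat.card_le_card_of_injective
    (fun x => ⟨n * x * n⁻¹, (hn x).1 x.2.1, conj_mem_QQ n x.2.2⟩) fun x y e =>
      Subtype.ext (by simpa using congrArg Subtype.val e))⟩

theorem conj_comm {g s : G} (e : g * s = s * g) : g * s * g⁻¹ = s := by rw [e, mul_inv_cancel_right]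

/-- the common neighbours -/
theorem nb_conj {s t r g : G} (h : B2 π0 r ∧ s ∈ QQ π0 r ∧ t ∈ QQ π0 r) (e1 : g * s = s * g) (e2 : g * t = t * g) :
    B2 π0 (g * r * g⁻¹) ∧ s ∈ QQ π0 (g * r * g⁻¹) ∧ t ∈ QQ π0 (g * r * g⁻¹) :=
  ⟨h.1.conj g, conj_comm e1 ▸ conj_mem_QQ g h.2.1, conj_comm e2 ▸ conj_mem_QQ g h.2.2⟩

section
variable [Finite G] (hZ : ∀ x ∈ Z, x * x = 1) (hF : Fix Z)
include hZ

theorem Zc {x y : G} (hx : x ∈ Z) (hy : y ∈ Z) : x * y = y * x := MonRec.mul_comm_of_sq hZ hx hy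

include hF

theorem not_c {s t : G} (hs : MZ π0 Z s) (ht : t ∈ Z) (hn : t ∉ QQ π0 s) :
    ∃ ι, Ak π0 ι ∧ s ∈ Set.range ι ∧ Dg π0 ι s t := by
  by_contra h
  have hc := Zc hZ ht hs.1
  have k : ∀ r, B2 π0 r ∧ s ∈ QQ π0 r ∧ t ∈ QQ π0 r → ∀ x ∈ QQ π0 s, x * x = 1 → t * x = x * t → x ∈ QQ π0 r :=
    fun r hr => (hs.2.1.types' hr.1 hr.2.1 hr.2.2 hc hn).resolve_left h
  have k2 := fun x => sing_closure (S := {r | B2 π0 r ∧ s ∈ QQ π0 r ∧ t ∈ QQ π0 r}) (x := x) (fun r hr => hr.1)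
    fun r hr r' hr' => k r hr r' (hr'.1.symm hs.2.1 hr'.2.1) hr'.1.sq (hr'.1.comm hr'.2.2)
  obtain ⟨r0, h0⟩ := hs.2.1.exists_nb (hZ t ht) hc hn
  obtain ⟨r, h1, h2, h3⟩ := hF.sub (K := closure {r | B2 π0 r ∧ s ∈ QQ π0 r ∧ t ∈ QQ π0 r})
    (fun x hx => (k2 x hx).2.elim (by simp +contextual) fun a => a.1.sq) ⟨r0, subset_closure h0, h0.1.ne_one⟩
    fun g hg x hx => by
      refine closure_induction (fun r hr => subset_closure (nb_conj hr (hg s hs.1) (hg t ht))) (by simp)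
        (fun a b _ _ h1 h2 => by rw [← conj_mul]; exact mul_mem h1 h2)
        (fun a _ h1 => by rw [← conj_inv]; exact inv_mem h1) hx
  obtain ⟨h4, h5⟩ := (k2 r h1).2.resolve_left h2
  have h6 : t ∈ QQ π0 r := h5 t fun _ a => a.2.2
  have := two_mul_le (H := Z ⊓ QQ π0 s) (K := Z ⊓ QQ π0 r) (fun x hx => ⟨hx.1,
    k r ⟨h4, h5 s fun _ a => a.2.1, h6⟩ x hx.2 (hZ x hx.1) (Zc hZ ht hx.1)⟩) ⟨ht, h6⟩ fun a => hn a.2
  have := hs.2.2 r h3 h4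
  have := Nat.card_pos (α := (Z ⊓ QQ π0 s : Subgroup G))
  omega

omit hZ hF [Finite G] in
theorem Sp.img_mono {p : G → V16} {S : QuadraticMap F2 V16 V10} (h : Sp π0 ι p S) {H K : Subgroup G} (e : H ≤ K) :
    h.img H ≤ h.img K := fun _ ⟨x, a, b⟩ => ⟨x, ⟨e a.1, a.2⟩, b⟩

omit hZ hF in
theorem Sp.DD_conj {p : G → V16} {S : QuadraticMap F2 V16 V10} (h : Sp π0 ι p S) {n g : G} {r r' : V10}
    (e : (Set.range fun x => n * ι x * n⁻¹) = Set.range ι) (hb : B2 π0 (ι r)) (e' : ι r' = n * ι r * n⁻¹)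
    (hg : g ∈ OO ι) (hc : n * g = g * n) (hd : p g ∈ DD S r) : p g ∈ DD S r' :=
  h.DD_of (e' ▸ hb.conj n) hg (by
    have := (((h.mem_DD hb hg).1 hd).conj n).congr e
    rwa [conj_comm hc, ← e'] at this)

theorem a0_step {p : G → V16} {S : QuadraticMap F2 V16 V10} (hA : Ak π0 ι) (h : Sp π0 ι p S) {σ τ : V10}
    (hy : Hyp Q10 σ τ) (hs : MZ π0 Z (ι σ)) (ht : ι τ ∈ Z) (h3 : finrank F2 (h.img (Z ⊓ QQ π0 (ι σ))) ≤ 3)
    {g : G} (hg : g ∈ Z ⊓ QQ π0 (ι τ)) : g ∈ Set.range ι := by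
  have bt := h.ark.b2 hy.f_ne hy.hf
  have n1 : ι τ ∉ QQ π0 (ι σ) := by rw [h.ark.perp hs.2.1, hy.hef]; exact one_ne_zero
  have n2 : ι σ ∉ QQ π0 (ι τ) := by rw [h.ark.perp bt, hy.hfe]; exact one_ne_zero
  have gO := h.ark.ks' bt (h.ark.dg_self _ σ) n2 hg.2 (Zc hZ hs.1 hg.1)
  rw [← h.ker gO]
  by_contra g0
  have gS := (h.sq_zero gO).2 (hZ g hg.1)
  have gD := h.DD_of bt gO (Dg.of_mem h.ark.ea hg.2)
  have hX : h.img (Z ⊓ QQ π0 (ι σ)) ≤ DD S σ := (h.img_mono inf_le_right).trans (h.img_le hs.2.1)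
  obtain ⟨r0, a0, a1, a2⟩ := h.spin.t2 hy hX h3 gS g0 gD fun _ ⟨x, a, b⟩ =>
    b ▸ (h.cm_zero gO a.2).2 (Zc hZ hg.1 a.1.1)
  have sg : ∀ r, r ≠ 0 → p g ∈ DD S r → B2 π0 (ι r) := fun r r0 a =>
    h.ark.b2 r0 (h.spin.II_sing gS r ((h.spin.mem_II gS g0).2 a))
  let K : Subgroup G :=
    { carrier := {a | ∃ r, ι r = a ∧ p g ∈ DD S r ∧ h.img (Z ⊓ QQ π0 (ι σ)) ≤ DD S r}
      one_mem' := ⟨0, h.ark.ea.zero, fun y => by simp, fun _ _ y => by simp⟩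
      mul_mem' := by
        rintro _ _ ⟨r, rfl, a, b⟩ ⟨r', rfl, a', b'⟩
        exact ⟨r + r', h.ark.ea.add _ _, DD_add a a', fun w hw => DD_add (b hw) (b' hw)⟩
      inv_mem' := by rintro _ ⟨r, rfl, a⟩; exact ⟨r, (h.ark.inv r).symm, a⟩ }
  obtain ⟨_, ⟨r, rfl, b1, b2⟩, b3, b4⟩ := hF.sub (K := K) (by rintro _ ⟨r, rfl, -⟩; exact h.ark.ea.mul_self r)
    ⟨_, ⟨r0, rfl, a1, a2⟩, mt h.ark.ea.eq_one.1 a0⟩ (by
      rintro n hn _ ⟨r, rfl, a, b⟩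
      by_cases r0 : r = 0
      · rw [r0, h.ark.ea.zero, mul_one, mul_inv_cancel]; exact one_mem _
      have e := hA.norm hs.2.1 ⟨σ, rfl⟩ (h.ark.dg_self _ τ) n1 bt.sq (hn _ hs.1) (hn _ ht)
      obtain ⟨r', e'⟩ : n * ι r * n⁻¹ ∈ Set.range ι := e ▸ ⟨r, rfl⟩
      exact ⟨r', e', h.DD_conj e (sg r r0 a) e' gO (hn _ hg.1) a, fun _ ⟨x, c, d⟩ =>
        d ▸ h.DD_conj e (sg r r0 a) e' c.2 (hn _ c.1.1) (b ⟨x, c, rfl⟩)⟩)
  have br := sg r (mt h.ark.ea.eq_one.2 b3) b1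
  have c1 := two_mul_le (H := Z ⊓ QQ π0 (ι σ)) (K := Z ⊓ h.pre (DD S r ⊓ DD S σ)) (fun x hx => by
    have xO := h.ark.ks' hs.2.1 (h.ark.dg_self _ τ) n1 hx.2 (Zc hZ ht hx.1)
    exact ⟨hx.1, xO, b2 ⟨x, ⟨hx, xO⟩, rfl⟩, hX ⟨x, ⟨hx, xO⟩, rfl⟩⟩)
    ⟨ht, h.ark.memO τ, (h.p_i τ).symm ▸ zero_mem _⟩ fun a => n1 a.2
  have c2 := two_mul_le (H := Z ⊓ h.pre (DD S r ⊓ DD S σ)) (K := Z ⊓ h.pre (DD S r))
    (fun x hx => ⟨hx.1, hx.2.1, hx.2.2.1⟩) ⟨hg.1, gO, b1⟩ fun a => g0 (h.spin.dis hy _ a.2.2.2 gD)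
  have c3 := le_two_mul (K := Z ⊓ h.pre (DD S r)) (H := QQ π0 (ι r)) fun x hx y hy n1 n2 =>
    h.ark.mul_mem_dg br ((h.mem_DD br hx.2.1).1 hx.2.2) n1 ((h.mem_DD br hy.2.1).1 hy.2.2) n2 hy.2.1
  have c4 := card_le_of_le (H := Z ⊓ h.pre (DD S r) ⊓ QQ π0 (ι r)) (K := Z ⊓ QQ π0 (ι r)) fun x hx => ⟨hx.1.1, hx.2⟩
  have := hs.2.2 _ b4 br
  have := Nat.card_pos (α := (Z ⊓ QQ π0 (ι σ) : Subgroup G))
  omega

theorem a0_le (hA : Ak π0 ι) {s t : G} (hs : MZ π0 Z s) (ht : MZ π0 Z t) (h1 : s ∈ Set.range ι)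
    (h2 : t ∈ Set.range ι) (hn : t ∉ QQ π0 s) {g : G} (hg : g ∈ Z ⊓ QQ π0 s) : g ∈ Set.range ι := by
  obtain ⟨σ, rfl⟩ := h1
  obtain ⟨τ, rfl⟩ := h2
  obtain ⟨p, S, h⟩ := hA.ark.exists_sp
  have hy : Hyp Q10 σ τ := ⟨(h.ark.of_b2 hs.2.1).2, (h.ark.of_b2 ht.2.1).2, z2_ne.1 (mt (h.ark.perp hs.2.1 τ).2 hn)⟩
  refine a0_step hZ hF hA h hy.symm ht hs.1 ?_ hg
  by_cases e : finrank F2 (h.img (Z ⊓ QQ π0 (ι σ))) ≤ 3
  · rw [(Submodule.eq_bot_iff (h.img (Z ⊓ QQ π0 (ι τ)))).2 fun _ ⟨x, a, b⟩ =>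
      b ▸ (h.ker a.2).2 (a0_step hZ hF hA h hy hs ht.1 e a.1)]
    simp
  have h1 := Submodule.finrank_sup_add_finrank_inf_eq (h.img (Z ⊓ QQ π0 (ι σ))) (h.img (Z ⊓ QQ π0 (ι τ)))
  have h2 := (Submodule.finrank_mono (sup_le (h.img_mono (H := Z ⊓ QQ π0 (ι σ)) inf_le_left)
    (h.img_mono (H := Z ⊓ QQ π0 (ι τ)) inf_le_left))).trans
    (h.spin.rk (h.img Z) fun _ ⟨x, a, b⟩ => b ▸ (h.sq_zero a.2).2 (hZ x a.1))
  rw [(Submodule.disjoint_def.2 fun w a b => h.spin.dis hy w (h.img_le hs.2.1 (h.img_mono inf_le_right a))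
    (h.img_le ht.2.1 (h.img_mono inf_le_right b))).eq_bot, finrank_bot] at h1
  omega

omit hF in
theorem a0_pt (h : Ark π0 ι) {s t x : G} (hs : MZ π0 Z s) (ht : t ∈ Z) (h2 : t ∈ Set.range ι) (hn : t ∉ QQ π0 s)
    (hle : ∀ g ∈ Z ⊓ QQ π0 s, g ∈ Set.range ι) (x1 : x ∈ Z) (x2 : x ∈ Set.range ι) (x3 : B2 π0 x) :
    ∀ g ∈ Z ⊓ QQ π0 x, g ∈ Set.range ι := by
  obtain ⟨r, rfl⟩ := x2
  have c1 := two_mul_le (H := Z ⊓ QQ π0 s) (K := Z ⊓ h.ea.sub) (fun g hg => ⟨hg.1, hle g hg⟩) ⟨ht, h2⟩ fun a => hn a.2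
  have c2 := le_two_mul (K := Z ⊓ h.ea.sub) (H := QQ π0 (ι r)) (by
    rintro _ ⟨-, a, rfl⟩ _ ⟨-, b, rfl⟩ n1 n2
    exact h.mul_mem_dg x3 (h.dg_self _ _) n1 (h.dg_self _ _) n2 (h.memO _))
  have c3 := hs.2.2 _ x1 x3
  have e := eq_of_le_of_card_ge (H := Z ⊓ h.ea.sub ⊓ QQ π0 (ι r)) (K := Z ⊓ QQ π0 (ι r))
    (fun x hx => ⟨hx.1.1, hx.2⟩) (by omega)
  exact fun g hg => (e ▸ hg : g ∈ Z ⊓ h.ea.sub ⊓ QQ π0 (ι r)).1.2

omit hZ hF [Finite G] in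
theorem odd_nb {σ τ : V10} (hy : Hyp Q10 σ τ) :
    Odd {r : V10 | r ≠ 0 ∧ Q10 r = 0 ∧ 𝔹 σ r = 0 ∧ 𝔹 τ r = 0}.ncard := by
  have k : ∀ {σ τ : V10}, Hyp Q10 σ τ → LinearIndependent F2 ![σ, τ] := fun {σ τ} hy =>
    LinearIndependent.pair_iff.2 fun a b e => ⟨by simpa [polar_add_left, hy.hef, hy.hf] using congrArg (𝔹 · τ) e,
      by simpa [polar_add_left, hy.hfe, hy.he] using congrArg (𝔹 · σ) e⟩
  have h0 := hyp_qPlus (F := F2) (m := 5) 0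
  obtain ⟨g, g1, g2⟩ := Forms.witt_quad_family Q10 nd10 _ _ (k h0) (k hy) (fun i j => by
    fin_cases i <;> fin_cases j <;> simp [hy.hef, hy.hfe, hy.he, hy.hf, h0.hef, h0.hfe, h0.he, h0.hf])
    fun i => by fin_cases i <;> simp [hy.he, hy.hf, h0.he, h0.hf]
  rw [← Set.ncard_preimage_of_injective_subset_range g.injective (by simp [g.surjective.range_eq])]
  obtain rfl : g _ = σ := g2 0
  obtain rfl : g _ = τ := g2 1
  have e : ∀ x y, 𝔹 (g x) (g y) = 𝔹 x y := O_polar ⟨g, g1⟩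
  simp only [Set.preimage_ofPred_eq, e, g1, ne_eq, g.map_eq_zero_iff]
  rw [Set.ncard_eq_toFinset_card', Set.toFinset_ofPred]
  simp only [qPlus_apply, polar_qPlus]
  decide +kernel

theorem a0_main (H1 : ∀ s t, MZ π0 Z s → MZ π0 Z t → t ∉ QQ π0 s → ∃ ι, Ak π0 ι ∧ s ∈ Set.range ι ∧ t ∈ Set.range ι)
    {s t : G} (hs : MZ π0 Z s) (ht : MZ π0 Z t) (hn : t ∉ QQ π0 s) :
    ∃ ι, Ak π0 ι ∧ normalizer Z ≤ normalizer (Set.range ι) := by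
  obtain ⟨ι, hA, h1, h2⟩ := H1 s t hs ht hn
  have h := hA.ark
  have hle := fun g => a0_le hZ hF hA hs ht h1 h2 hn (g := g)
  obtain ⟨r, ⟨r1, r2, r3, r4⟩, r5⟩ := hF {a | a ∈ Set.range ι ∧ B2 π0 a ∧ s ∈ QQ π0 a ∧ t ∈ QQ π0 a} (by
    obtain ⟨σ, rfl⟩ := h1
    obtain ⟨τ, rfl⟩ := h2
    have := odd_nb ⟨(h.of_b2 hs.2.1).2, (h.of_b2 ht.2.1).2, z2_ne.1 (mt (h.perp hs.2.1 τ).2 hn)⟩
    rw [← Set.ncard_image_of_injective _ h.ea.inj] at this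
    convert this using 2
    ext a
    refine ⟨?_, ?_⟩
    · rintro ⟨⟨r, rfl⟩, a, b, c⟩
      exact ⟨r, ⟨(h.of_b2 a).1, (h.of_b2 a).2, (polar_comm _ _ _).trans ((h.perp a _).1 b),
        (polar_comm _ _ _).trans ((h.perp a _).1 c)⟩, rfl⟩
    · rintro ⟨r, ⟨a, b, c, d⟩, rfl⟩
      exact ⟨⟨r, rfl⟩, h.b2 a b, (h.mem a b _).2 ((polar_comm _ _ _).trans c),
        (h.mem a b _).2 ((polar_comm _ _ _).trans d)⟩)
    (fun x hx => hx.2.1.sq) fun n hn' x ⟨⟨r, e⟩, a⟩ => ⟨by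
      rw [← hA.norm hs.2.1 h1 (let ⟨τ, e⟩ := h2; e ▸ h.dg_self _ τ) hn ht.2.1.sq (hn' _ hs.1) (hn' _ ht.1)]
      exact ⟨r, e ▸ rfl⟩, nb_conj a (hn' _ hs.1) (hn' _ ht.1)⟩
  have r6 := r2.symm hs.2.1 r3
  have hM : ∀ x, MZ π0 Z x → x ∈ Set.range ι := fun x hx => by
    by_cases e1 : x ∈ QQ π0 s
    · exact hle x ⟨hx.1, e1⟩
    by_cases e2 : x ∈ QQ π0 r
    · exact a0_pt hZ h hs ht.1 h2 hn hle r5 r1 r2 x ⟨hx.1, e2⟩
    have ne : r ≠ s := by rintro rfl; exact hn r4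
    refine a0_pt hZ h hs ht.1 h2 hn hle (mul_mem hs.1 r5) (h.ea.sub.mul_mem h1 r1) (hs.2.1.mul r2 r6 ne) x ⟨hx.1, ?_⟩
    obtain ⟨ι', hA', h1', h2'⟩ := H1 s x hs hx e1
    obtain ⟨ρ, rfl⟩ := a0_le hZ hF hA' hs hx h1' h2' e1 ⟨r5, r6⟩
    obtain ⟨σ, rfl⟩ := h1'
    obtain ⟨ξ, rfl⟩ := h2'
    rw [← hA'.ark.ea.add]
    exact hA'.ark.lam hs.2.1 r2 (fun a => ne (a ▸ rfl)) ((hA'.ark.perp hs.2.1 _).1 r6) (hA'.ark.dg_self _ _)
      (hA'.ark.dg_self _ _) e1 e2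
  refine ⟨ι, hA, fun n hn' => mem_normalizer_fintype ?_⟩
  rintro _ ⟨a, rfl⟩
  obtain ⟨σ, rfl⟩ := h1
  obtain ⟨τ, rfl⟩ := h2
  obtain ⟨τ', e⟩ := hM _ (ht.conj hn')
  rw [← (hA.conj n).ark.uniq h (hs.conj hn').2.1 ⟨σ, rfl⟩ (hM _ (hs.conj hn')) ((hA.conj n).ark.dg_self _ τ)
    (e ▸ h.dg_self _ τ') (mt (conj_mem_QQ_iff n).1 hn) (ht.conj hn').2.1.sq]
  exact ⟨a, rfl⟩

end

end CfsgLib.Mon.Mx
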