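import Mathlib
import Cfsg.Agent.Lib.Mon.MxD

/-!
Maximal `2`-local subgroups: non-perpendicular pairs not contained in an ark.
-/

set_option autoImplicit false

namespace CfsgLib.Mon.Mx

open Cfsg CfsgLib.Leech CfsgLib.MType CfsgLib.OrthE CfsgLib.Golay Subgroup QuadraticMap Module
open scoped commutatorElement Pointwise

local notation "F2" => ZMod 2
local notation "𝔹" => polar Q10

variable {G : Type*} [Group G] {π0 : C k0 →* G} {ι ι' : V10 → G} {Z : Subgroup G}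
  {p p' : G → V16} {S S' : QuadraticMap F2 V16 V10} {s t r r' g x y : G}

/-- common neighbours -/
def NB (π0 : C k0 →* G) (s t r : G) : Prop := B2 π0 r ∧ s ∈ QQ π0 r ∧ t ∈ QQ π0 r

theorem NB.symm (h : NB π0 s t r) : NB π0 t s r := ⟨h.1, h.2.2, h.2.1⟩

theorem exists_two {α : Type*} [Finite α] {X : Set α} (a : α) (h : 2 < Nat.card X) :
    ∃ r ∈ X, ∃ r' ∈ X, r ≠ a ∧ r' ≠ a ∧ r ≠ r' := by
  obtain ⟨x, hx, y, hy, w, hw, h1, h2, h3⟩ := (Set.two_lt_ncard (Set.toFinite X)).1 h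
  by_cases e : x = a
  · exact ⟨y, hy, w, hw, e ▸ h1.symm, e ▸ h2.symm, h3⟩
  by_cases e' : y = a
  exacts [⟨x, hx, w, hw, e, e' ▸ h3.symm, h2⟩, ⟨x, hx, y, hy, e, e', h1⟩]

/-- a pair with `t` outside the ark through `s` -/
structure H1 (π0 : C k0 →* G) (ι : V10 → G) (p : G → V16) (S : QuadraticMap F2 V16 V10) (s t : G) : Prop where
  ak : Ak π0 ι
  sp : Sp π0 ι p S
  mem : s ∈ Set.range ι
  bs : B2 π0 s
  bt : B2 π0 t
  nq : t ∉ QQ π0 s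
  dg : Dg π0 ι s t
  na : t ∉ Set.range ι

/-- index at most two on the neighbours -/
def Half (π0 : C k0 →* G) (s t x : G) : Prop := ∀ r r', NB π0 s t r → NB π0 s t r' → r ≠ r' → x ∉ QQ π0 r →
  x ∉ QQ π0 r' → x ∈ QQ π0 (r * r')

theorem Half.symm (h : Half π0 s t x) : Half π0 t s x := fun r r' a b => h r r' a.symm b.symm

namespace H1

theorem ark (h : H1 π0 ι p S s t) : Ark π0 ι := h.sp.ark

theorem tO (h : H1 π0 ι p S s t) : t ∈ OO ι := by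
  obtain ⟨σ, rfl⟩ := h.mem
  exact h.ark.memO_of_sq h.bs h.dg h.nq h.bt.sq

theorem p0 (h : H1 π0 ι p S s t) : p t ≠ 0 := mt (h.sp.ker h.tO).1 h.na

theorem S0 (h : H1 π0 ι p S s t) : S (p t) = 0 := (h.sp.sq_zero h.tO).2 h.bt.sq

theorem ks (h : H1 π0 ι p S s t) (hg : g ∈ QQ π0 s) (hc : t * g = g * t) : g ∈ OO ι := by
  obtain ⟨σ, rfl⟩ := h.mem
  exact h.ark.ks' h.bs h.dg h.nq hg hc

variable [Finite G]

theorem nq' (h : H1 π0 ι p S s t) : s ∉ QQ π0 t := mt (h.bt.symm h.bs) h.nq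

theorem nb_mem (h : H1 π0 ι p S s t) (hr : NB π0 s t r) : r ∈ Set.range ι := by
  obtain ⟨x, h1, -, h2⟩ := h.bs.exists_comm hr.1 (hr.1.symm h.bs hr.2.1) hr.2.2 h.nq
  obtain ⟨σ, rfl⟩ := h.mem
  exact h2 ▸ h.ark.im h.bs h.dg h.tO h1

theorem mem_II (h : H1 π0 ι p S s t) {ρ : V10} (hb : B2 π0 (ι ρ)) : ρ ∈ II S (p t) ↔ Dg π0 ι (ι ρ) t := by
  rw [h.sp.spin.mem_II h.S0 h.p0, h.sp.mem_DD hb h.tO]

theorem II_b2 (h : H1 π0 ι p S s t) {ρ : V10} (h1 : ρ ∈ II S (p t)) (h0 : ρ ≠ 0) : B2 π0 (ι ρ) :=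
  h.ark.b2 h0 (h.sp.spin.II_sing h.S0 _ h1)

theorem II_perp (h : H1 π0 ι p S s t) {ρ ρ' : V10} (h1 : ρ ∈ II S (p t)) (h2 : ρ' ∈ II S (p t)) : 𝔹 ρ ρ' = 0 :=
  polar_of_sing (h.sp.spin.II_sing h.S0) _ h1 _ h2

theorem nb_II (h : H1 π0 ι p S s t) {ρ : V10} (hr : NB π0 s t (ι ρ)) : ρ ∈ II S (p t) :=
  (h.mem_II hr.1).2 (Dg.of_mem h.ark.ea hr.2.2)

theorem nb_perp (h : H1 π0 ι p S s t) (hr : NB π0 s t r) (hr' : NB π0 s t r') : r' ∈ QQ π0 r := by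
  obtain ⟨ρ, rfl⟩ := h.nb_mem hr
  obtain ⟨ρ', rfl⟩ := h.nb_mem hr'
  exact (h.ark.perp hr.1 _).2 (h.II_perp (h.nb_II hr) (h.nb_II hr'))

theorem nb_mul (h : H1 π0 ι p S s t) (hr : NB π0 s t r) (hr' : NB π0 s t r') (hne : r ≠ r') : NB π0 s t (r * r') :=
  ⟨hr.1.mul hr'.1 (h.nb_perp hr hr') hne.symm, hr.1.mem_mul hr'.1 (h.nb_perp hr hr') hne.symm hr.2.1 hr'.2.1,
    hr.1.mem_mul hr'.1 (h.nb_perp hr hr') hne.symm hr.2.2 hr'.2.2⟩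

/-- the group of neighbours of a set -/
def KX (h : H1 π0 ι p S s t) (X : Set G) : Subgroup G where
  carrier := {r | r = 1 ∨ NB π0 s t r ∧ ∀ x ∈ X, x ∈ QQ π0 r}
  one_mem' := Or.inl rfl
  mul_mem' := by
    rintro a b (rfl | ha) hb
    · rwa [one_mul]
    rcases hb with rfl | hb
    · rw [mul_one]; exact Or.inr ha
    by_cases e : a = b
    · exact Or.inl (e ▸ hb.1.1.sq)
    · exact Or.inr ⟨h.nb_mul ha.1 hb.1 e, fun x hx =>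
        ha.1.1.mem_mul hb.1.1 (h.nb_perp ha.1 hb.1) (Ne.symm e) (ha.2 x hx) (hb.2 x hx)⟩
  inv_mem' := by
    rintro a (rfl | ha)
    exacts [Or.inl inv_one, (inv_eq_of_mul_eq_one_right ha.1.1.sq).symm ▸ Or.inr ha]

theorem mem_K (h : H1 π0 ι p S s t) {ρ : V10} : ρ ∈ pb h.ark.ea (h.KX ∅) ↔ ρ = 0 ∨ NB π0 s t (ι ρ) :=
  or_congr h.ark.ea.eq_one (and_iff_left (by simp))

theorem K_le (h : H1 π0 ι p S s t) : pb h.ark.ea (h.KX ∅) ≤ II S (p t) := fun _ a =>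
  (h.mem_K.1 a).elim (· ▸ zero_mem _) h.nb_II

theorem add_mem_K (h : H1 π0 ι p S s t) {a b : V10} (ha : a ∈ II S (p t)) (hb : b ∈ II S (p t))
    (na : a ∉ pb h.ark.ea (h.KX ∅)) (nb : b ∉ pb h.ark.ea (h.KX ∅)) : a + b ∈ pb h.ark.ea (h.KX ∅) := by
  obtain ⟨σ, rfl⟩ := h.mem
  have k : ∀ {a}, a ∈ II S (p t) → (a ≠ 0 → t ∈ QQ π0 (ι a)) → a ∈ pb h.ark.ea (h.KX ∅) := fun ha e =>
    h.mem_K.2 (or_iff_not_imp_left.2 fun a0 => ⟨h.II_b2 ha a0,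
      (h.ark.perp (h.II_b2 ha a0) _).2 (h.II_perp ha ((h.mem_II h.bs).2 h.dg)), e a0⟩)
  have a0 : a ≠ 0 := by rintro rfl; exact na (zero_mem _)
  have b0 : b ≠ 0 := by rintro rfl; exact nb (zero_mem _)
  exact k (add_mem ha hb) fun e => h.ark.lam (h.II_b2 ha a0) (h.II_b2 hb b0) (mt add_eq_zero2.2 e) (h.II_perp ha hb)
    ((h.mem_II (h.II_b2 ha a0)).1 ha) ((h.mem_II (h.II_b2 hb b0)).1 hb) (fun c => na (k ha fun _ => c))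
    fun c => nb (k hb fun _ => c)

theorem sigma {σ : V10} (h : H1 π0 ι p S (ι σ) t) : σ ∈ II S (p t) ∧ σ ∉ pb h.ark.ea (h.KX ∅) :=
  ⟨(h.mem_II h.bs).2 h.dg, fun a => (h.mem_K.1 a).elim (h.ark.of_b2 h.bs).1 fun b => h.nq b.2.2⟩

theorem finrank_K (h : H1 π0 ι p S s t) : finrank F2 (pb h.ark.ea (h.KX ∅)) = 4 := by
  obtain ⟨σ, rfl⟩ := h.mem
  have h1 := finrank_le_succ fun _ a _ b => h.add_mem_K a b
  have h2 := Submodule.finrank_lt_finrank_of_lt (lt_of_le_of_ne h.K_le fun e => h.sigma.2 (e ▸ h.sigma.1))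
  rw [h.sp.spin.finrank_II h.S0 h.p0] at h1 h2
  omega

theorem card_K (h : H1 π0 ι p S s t) : Nat.card (h.KX ∅) = 16 := by
  have := card_pb h.ark.ea (h.KX ∅)
  rwa [h.finrank_K, inf_eq_left.2 fun r a => a.elim (· ▸ one_mem _) fun b => h.nb_mem b.1] at this

theorem half (h : H1 π0 ι p S s t) (hx : Half π0 s t x) (X : Set G) :
    Nat.card (h.KX X) ≤ 2 * Nat.card (h.KX (insert x X)) := by
  refine (le_two_mul (H := h.KX (insert x X)) fun a ha b hb na nb => ?_).trans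
    (Nat.mul_le_mul_left _ (card_le_of_le inf_le_right))
  have ha' := ha.resolve_left fun e => na (Or.inl e)
  have hb' := hb.resolve_left fun e => nb (Or.inl e)
  by_cases e : a = b
  · exact Or.inl (e ▸ hb'.1.1.sq)
  exact (mul_mem ha hb).imp_right fun c => ⟨c.1, Set.forall_mem_insert.2 ⟨hx a b ha'.1 hb'.1 e
    (fun d => na (Or.inr ⟨ha'.1, Set.forall_mem_insert.2 ⟨d, ha'.2⟩⟩))
    fun d => nb (Or.inr ⟨hb'.1, Set.forall_mem_insert.2 ⟨d, hb'.2⟩⟩), c.2⟩⟩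

theorem exists_nb2 (h : H1 π0 ι p S s t) (hx : Half π0 s t x) (hy : Half π0 s t y) : ∃ r r', r ≠ r' ∧
    (NB π0 s t r ∧ x ∈ QQ π0 r ∧ y ∈ QQ π0 r) ∧ NB π0 s t r' ∧ x ∈ QQ π0 r' ∧ y ∈ QQ π0 r' := by
  have h1 := h.half hy ∅
  have h2 := h.half hx (insert y ∅)
  rw [h.card_K] at h1
  obtain ⟨r, a, r', b, c, d, e⟩ := exists_two (X := h.KX (insert x (insert y ∅))) (1 : G) (by
    change 2 < Nat.card (h.KX (insert x (insert y ∅))); omega)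
  have a := a.resolve_left c
  have b := b.resolve_left d
  exact ⟨r, r', e, ⟨a.1, a.2 x (by simp), a.2 y (by simp)⟩, b.1, b.2 x (by simp), b.2 y (by simp)⟩

theorem lam (h : H1 π0 ι p S s t) (hr : NB π0 s t r) (hr' : NB π0 s t r') (hne : r ≠ r') (h1 : Dg π0 ι r g)
    (h2 : Dg π0 ι r' g) (n1 : g ∉ QQ π0 r) (n2 : g ∉ QQ π0 r') : g ∈ QQ π0 (r * r') := by
  have e := h.nb_perp hr hr'
  obtain ⟨ρ, rfl⟩ := h.nb_mem hr
  obtain ⟨ρ', rfl⟩ := h.nb_mem hr'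
  exact h.ark.ea.add ρ ρ' ▸ h.ark.lam hr.1 hr'.1 (fun a => hne (a ▸ rfl)) ((h.ark.perp hr.1 _).1 e) h1 h2 n1 n2

theorem half_of (h : H1 π0 ι p S s t) (hx : ∀ r, NB π0 s t r → Dg π0 ι r x) : Half π0 s t x :=
  fun r r' a b c => h.lam a b c (hx r a) (hx r' b)

theorem ks_nb (h : H1 π0 ι p S s t) (hr : NB π0 s t r) (h1 : Dg π0 ι r g) (h2 : x ∈ QQ π0 r) (hc : g * x = x * g)
    (hx : x ∉ OO ι) : g ∈ QQ π0 r := by
  obtain ⟨ρ, rfl⟩ := h.nb_mem hr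
  exact by_contra fun n => hx (h.ark.ks' hr.1 h1 n h2 hc)

theorem ks2 (h : H1 π0 ι p S s t) (hr : NB π0 s t r) (h1 : g ∈ QQ π0 t) (h2 : g ∈ OO ι) (h3 : Dg π0 ι r g) :
    g ∈ QQ π0 r := by
  obtain ⟨x, a, b, c⟩ := h.bt.exists_comm hr.1 (hr.1.symm h.bt hr.2.2) hr.2.1 h.nq'
  refine h.ks_nb hr h3 b (commutatorElement_eq_one_iff_mul_comm.1 ((h.bt.comm_or h1 a).resolve_right fun e => ?_))
    fun e => hr.1.ne_one ?_
  · obtain ⟨ρ, rfl⟩ := h.nb_mem hr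
    exact h.na (e ▸ h.ark.im hr.1 h3 h2 b)
  · obtain ⟨σ, rfl⟩ := h.mem
    rw [← c, commutatorElement_eq_one_iff_mul_comm, mem_OO.1 e]

theorem two (h : H1 π0 ι p S s t) (h1 : g ∈ OO ι) (h2 : g * g = 1) (hc : t * g = g * t) :
    ∃ ρ ρ', ρ ≠ ρ' ∧ NB π0 s t (ι ρ) ∧ NB π0 s t (ι ρ') ∧ p g ∈ DD S ρ ∧ p g ∈ DD S ρ' := by
  have h3 : 3 ≤ finrank F2 (II S (p t) ⊓ pp (II S (p g)) : Submodule F2 V10) := by
    by_cases e : p g = 0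
    · rw [inf_eq_left.2 fun ρ _ => mem_DD_iff.1 (e ▸ zero_mem _), h.sp.spin.finrank_II h.S0 h.p0]; omega
    have a := (h.sp.sq_zero h1).2 h2
    rw [(self_pp (polar_of_sing (h.sp.spin.II_sing a))).2 (h.sp.spin.finrank_II a e).ge]
    exact h.sp.spin.three_le_inf h.S0 a h.p0 e ((h.sp.cm_zero h.tO h1).2 hc)
  have h4 := finrank_le_succ (J := pb h.ark.ea (h.KX ∅) ⊓ pp (II S (p g))) (I := II S (p t) ⊓ pp (II S (p g)))
    fun a ha b hb na nb => ⟨h.add_mem_K ha.1 hb.1 (fun c => na ⟨c, ha.2⟩) fun c => nb ⟨c, hb.2⟩, add_mem ha.2 hb.2⟩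
  obtain ⟨ρ, a, ρ', b, c, d, e⟩ := exists_two
    (X := (pb h.ark.ea (h.KX ∅) ⊓ pp (II S (p g)) : Submodule F2 V10)) (0 : V10) (by
    refine lt_of_lt_of_eq ?_ (card_sub _).symm
    exact lt_of_lt_of_le (by norm_num) (Nat.pow_le_pow_right two_pos (show 2 ≤ _ by omega)))
  exact ⟨ρ, ρ', e, (h.mem_K.1 a.1).resolve_left c, (h.mem_K.1 b.1).resolve_left d, mem_DD_iff.2 a.2, mem_DD_iff.2 b.2⟩

theorem one (h : H1 π0 ι p S s t) (h1 : g ∈ OO ι) (h2 : g * g = 1) (hc : t * g = g * t) :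
    ∃ r, NB π0 s t r ∧ g ∈ QQ π0 r := by
  obtain ⟨ρ, ρ', a, b, c, d, e⟩ := h.two h1 h2 hc
  by_contra! n
  have ne := h.ark.ea.inj.ne a
  exact n _ (h.nb_mul b c ne) (h.lam b c ne ((h.sp.mem_DD b.1 h1).1 d) ((h.sp.mem_DD c.1 h1).1 e) (n _ b) (n _ c))

theorem comm (h : H1 π0 ι p S s t) (h' : H1 π0 ι' p' S' t s) (a : V10) : ι a ∈ OO ι' := mem_OO.2 fun b => by
  obtain ⟨r, r', e, a1, a2⟩ := h.exists_nb2 (h.half_of fun r _ => h.ark.dg_self r a)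
    (h'.half_of fun r _ => h'.ark.dg_self r b).symm
  exact a1.1.1.comm_of a2.1.1 e.symm a1.2.2 a1.2.1 a2.2.2 a2.2.1

theorem finrank_H (h : H1 π0 ι p S s t) (h' : H1 π0 ι' p' S' t s) : finrank F2 (pb h.ark.ea h'.ark.ea.sub) ≤ 5 := by
  obtain ⟨σ, rfl⟩ := h.mem
  have h1 := finrank_pp (pb h.ark.ea (h.KX ∅))
  have h2 := Submodule.finrank_lt_finrank_of_lt (s := pb h.ark.ea h'.ark.ea.sub) (t := pp (pb h.ark.ea (h.KX ∅)))
    (lt_of_le_of_ne (fun a ⟨b, e⟩ ρ hρ => by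
      rcases h.mem_K.1 hρ with rfl | c
      · simp
      refine (h.ark.perp c.1 _).1 (by_contra fun n => ?_)
      exact h.na (h.ark.uniq h'.ark c.1 ⟨ρ, rfl⟩ (h'.nb_mem c.symm) (h.ark.dg_self _ a) (e ▸ h'.ark.dg_self _ b) n
        (h.ark.ea.mul_self a) ▸ h'.mem)) fun e => h'.na (show σ ∈ pb h.ark.ea h'.ark.ea.sub from
          e ▸ fun ρ hρ => h.II_perp (h.K_le hρ) h.sigma.1))
  rw [h.finrank_K] at h1
  omega

theorem l2k (h : H1 π0 ι p S s t) (h' : H1 π0 ι' p' S' t s) (h1 : g ∈ OO ι') (h2 : g ∈ QQ π0 s) (h3 : g * g = 1)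
    (hr : NB π0 s t r) : Dg π0 ι r g := by
  have tg : t * g = g * t := let ⟨τ, e⟩ := h'.mem; e ▸ mem_OO.1 h1 τ
  have gO := h.ks h2 tg
  have gS := (h.sp.sq_zero gO).2 h3
  obtain ⟨_, ⟨⟨a, rfl⟩, aO⟩, e⟩ : p g ∈ h.sp.img h'.ark.ea.sub := by
    by_contra n
    have c1 := h.sp.spin.rk' (X := h.sp.img h'.ark.ea.sub) (fun _ ⟨_, ⟨⟨a, rfl⟩, aO⟩, e⟩ => e ▸ ⟨(h.sp.sq_zero aO).2 (h'.ark.ea.mul_self a),
      (h.sp.cm_zero aO gO).2 (mem_OO.1 h1 a)⟩) gS n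
    have c2 := h.sp.card_img h'.ark.ea.sub
    have c3 := h.finrank_H h'
    rw [inf_eq_left.2 (by rintro _ ⟨a, rfl⟩; exact h'.comm h a), h'.ark.ea.card,
      Module.natCard_eq_pow_finrank (K := F2), Nat.card_zmod, finrank_V10] at c2
    have := Nat.pow_right_injective (le_refl 2) c2
    omega
  obtain ⟨ρ, rfl⟩ := h.nb_mem hr
  rw [← h.sp.mem_DD hr.1 gO]
  by_cases g0 : p g = 0
  · exact g0 ▸ zero_mem _
  obtain ⟨σ, rfl⟩ := h.mem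
  obtain ⟨k, hk⟩ := h.sp.spin.odd_inf h.S0 gS h.p0 g0 ((h.sp.cm_zero h.tO gO).2 tg)
  have k1 : ∀ {x}, NB π0 (ι σ) t (ι x) → ι' a ∈ QQ π0 (ι x) → x ∈ II S (p g) := fun b c =>
    (h.sp.spin.mem_II gS g0).2 (e ▸ h.sp.DD_of b.1 aO (Dg.of_mem h.ark.ea c))
  have c1 := finrank_le_succ (J := pb h.ark.ea (h.KX ∅) ⊓ II S (p g)) (I := pb h.ark.ea (h.KX ∅))
    fun x hx y hy nx ny => ⟨add_mem hx hy, by
      have x1 := (h.mem_K.1 hx).resolve_left (by rintro rfl; exact nx (zero_mem _))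
      have y1 := (h.mem_K.1 hy).resolve_left (by rintro rfl; exact ny (zero_mem _))
      by_cases e : x = y
      · exact add_eq_zero2.2 e ▸ zero_mem _
      have ne := h.ark.ea.inj.ne e
      refine k1 (h.ark.ea.add x y ▸ h.nb_mul x1 y1 ne) (h.ark.ea.add x y ▸ h'.lam x1.symm y1.symm ne
        (h'.ark.dg_self _ a) (h'.ark.dg_self _ a) (fun b => nx ⟨hx, k1 x1 b⟩) fun b => ny ⟨hy, k1 y1 b⟩)⟩
  have c2 := Submodule.finrank_lt_finrank_of_lt (s := pb h.ark.ea (h.KX ∅) ⊓ II S (p g))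
    (t := II S (p t) ⊓ II S (p g)) (lt_of_le_of_ne (inf_le_inf_right _ h.K_le) fun b => h.sigma.2 (b ▸ ⟨h.sigma.1,
      (h.sp.spin.mem_II gS g0).2 (h.sp.DD_of h.bs gO (Dg.of_mem h.ark.ea h2))⟩ : σ ∈ _ ⊓ II S (p g)).1)
  have c3 := Submodule.eq_of_le_of_finrank_le (inf_le_left : II S (p t) ⊓ II S (p g) ≤ _) (by
    rw [h.finrank_K] at c1
    rw [h.sp.spin.finrank_II h.S0 h.p0]; omega)
  exact (h.sp.spin.mem_II gS g0).1 (c3 ▸ h.nb_II hr : ρ ∈ _ ⊓ II S (p g)).2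

theorem z0 (h : H1 π0 ι p S s t) (h' : H1 π0 ι' p' S' t s) (h1 : g ∈ QQ π0 s) (h2 : g ∈ QQ π0 t) (h3 : g * g = 1)
    (hr : NB π0 s t r) : g ∈ QQ π0 r :=
  h.ks2 hr h2 (h.ks h1 (h.bt.comm h2).symm) (h.l2k h' (h'.ks h2 (h.bs.comm h1).symm) h1 h3 hr)

theorem fin (h : H1 π0 ι p S s t) (h' : H1 π0 ι' p' S' t s) (x1 : x ∈ OO ι) (x2 : x * x = 1) (x3 : x ∉ OO ι')
    (y1 : y ∈ OO ι') (y3 : y ∉ OO ι) (hc : x * y = y * x) {f : V10 →+ V10} (hf : ∀ a, ι (f a) = ⁅y, ι a⁆)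
    {ρ ρ' : V10} (hne : ρ ≠ ρ') (r1 : NB π0 s t (ι ρ)) (r2 : NB π0 s t (ι ρ')) (d1 : Dg π0 ι' (ι ρ) y)
    (d2 : Dg π0 ι' (ι ρ') y) (d3 : Dg π0 ι' (ι (ρ + ρ')) y) (e : ∀ a, f a = 𝔹 ρ' a • ρ + 𝔹 ρ a • ρ')
    (hI : ρ ∈ II S (p x)) : ∃ r, NB π0 s t r ∧ x ∈ QQ π0 r ∧ y ∈ QQ π0 r := by
  have xS := (h.sp.sq_zero x1).2 x2
  have k : ∀ {r}, NB π0 s t r → Dg π0 ι' r y → x ∈ QQ π0 r → ∃ r, NB π0 s t r ∧ x ∈ QQ π0 r ∧ y ∈ QQ π0 r :=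
    fun a b c => ⟨_, a, c, h'.ks_nb a.symm b c hc.symm x3⟩
  have c1 := (h.sp.mem_DD r1.1 x1).1 (h.sp.spin.DD_of_II xS hI)
  by_cases n1 : x ∈ QQ π0 (ι ρ)
  · exact k r1 d1 n1
  by_cases n2 : y ∈ QQ π0 (ι ρ)
  · exact absurd (h.ks_nb r1 c1 n2 hc y3) n1
  obtain ⟨u, hu, a, rfl⟩ := h.ark.split c1
  obtain ⟨b, hb⟩ := d1
  have a1 : 𝔹 ρ a = 1 := z2_ne.1 fun c => n1 (mul_mem hu ((h.ark.perp r1.1 a).2 c))
  have uO := (mul_mem_cancel_right (h.ark.memO a)).1 x1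
  have e1 : ι (polar S (p (u * ι a)) (p (ι' b))) = ι (f a) * ⁅u, y * ι' b⁆ := by
    rw [h.sp.cm x1 (h'.comm h b), ← mul_inv_cancel_right (ι (f a)) u, mem_OO.1 uO, ← h.ark.inv (f a), hf,
      commutatorElement_inv, show ⁅ι a, y⁆ = ⁅ι a, y * ι' b⁆ by
        rw [commutatorElement_mul_right_eq_mul_conj, commutatorElement_eq_one_iff_mul_comm.2
          (mem_OO.1 (h'.comm h b) a)]; group,
      ← commutatorElement_mul_left_eq_conj_mul, ← mem_OO.1 y1, commutatorElement_mul_right_eq_mul_conj,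
      commutatorElement_eq_one_iff_mul_comm.2 hc]
    group
  have c2 : ρ' ∈ II S (p (u * ι a)) := by
    have := cm_mem (S := S) (p (u * ι a)) (p (ι' b))
    rcases r1.1.comm_or hu hb with c | c <;> rw [c] at e1
    · rwa [h.ark.ea.inj (e1.trans (mul_one _)), e, a1, one_smul,
        Submodule.add_mem_iff_right _ (Submodule.smul_mem _ _ hI)] at this
    · rwa [h.ark.ea.inj (e1.trans (h.ark.ea.add _ _).symm), Submodule.add_mem_iff_left _ hI, e, a1, one_smul,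
        Submodule.add_mem_iff_right _ (Submodule.smul_mem _ _ hI)] at this
  by_cases n3 : u * ι a ∈ QQ π0 (ι ρ')
  · exact k r2 d2 n3
  have ne := h.ark.ea.inj.ne hne
  exact k (h.nb_mul r1 r2 ne) (h.ark.ea.add ρ ρ' ▸ d3) (h.lam r1 r2 ne c1
    ((h.sp.mem_DD r2.1 x1).1 (h.sp.spin.DD_of_II xS c2)) n1 n3)

theorem cross2 (h : H1 π0 ι p S s t) (h' : H1 π0 ι' p' S' t s) (x1 : x ∈ OO ι) (x2 : x * x = 1) (x3 : x ∉ OO ι')
    (y1 : y ∈ OO ι') (y2 : y * y = 1) (y3 : y ∉ OO ι) (ys : s * y = y * s) (hc : x * y = y * x) :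
    ∃ r, NB π0 s t r ∧ x ∈ QQ π0 r ∧ y ∈ QQ π0 r := by
  obtain ⟨σ, σ', ne, a1, a2, a3, a4⟩ := h'.two y1 y2 ys
  have ne' := h'.ark.ea.inj.ne ne
  have d1 := (h'.sp.mem_DD a1.1 y1).1 a3
  have d2 := (h'.sp.mem_DD a2.1 y1).1 a4
  have a5 := h'.nb_mul a1 a2 ne'
  have d3 := (h'.sp.mem_DD (h'.ark.ea.add σ σ' ▸ a5.1) y1).1 (DD_add a3 a4)
  rw [h'.ark.ea.add] at d3
  obtain ⟨ρ, e⟩ := h.nb_mem a1.symm
  obtain ⟨ρ', e'⟩ := h.nb_mem a2.symm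
  rw [← e] at a1 d1 d3 a5 ne'
  rw [← e', ← h.ark.ea.add] at d3 a5
  rw [← e'] at a2 d2 ne'
  have ne2 : ρ ≠ ρ' := fun c => ne' (c ▸ rfl)
  have nA := h.ak.norm h.bs h.mem h.dg h.nq h.bt.sq ys.symm (let ⟨τ, e⟩ := h'.mem; e ▸ (mem_OO.1 y1 τ).symm)
  obtain ⟨f, hf⟩ := h.ark.exists_f (g := y) fun a => by
    obtain ⟨b, e⟩ : y * ι a * y⁻¹ ∈ Set.range ι := nA ▸ ⟨a, rfl⟩
    exact ⟨b + a, by rw [h.ark.ea.add, e, commutatorElement_def, h.ark.inv]⟩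
  have k : ∀ {ρ}, NB π0 t s (ι ρ) → Dg π0 ι' (ι ρ) y → ∀ a, 𝔹 ρ a = 0 → f a = 0 ∨ f a = ρ :=
    fun a ⟨b, c⟩ _ d => h.ark.f_or hf a.1 (h'.comm h b) c d
  rcases siegel f (h.ark.of_b2 a1.1).1 (h.ark.of_b2 a2.1).1 ne2 (by
    rintro _ (rfl | rfl | rfl)
    exacts [k a1 d1, k a2 d2, k a5 d3]) with c | c
  · exact absurd (mem_OO.2 fun a =>
      (commutatorElement_eq_one_iff_mul_comm.1 (by rw [← hf, c, h.ark.ea.zero])).symm) y3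
  have xS := (h.sp.sq_zero x1).2 x2
  have x0 : p x ≠ 0 := fun e => x3 (let ⟨a, e⟩ := (h.sp.ker x1).1 e; e ▸ h.comm h' a)
  have inv : ∀ a ∈ II S (p x), f a ∈ II S (p x) := by
    rintro _ ⟨w, rfl⟩
    obtain ⟨u, hu, rfl⟩ := h.sp.surj w
    have hu' : y * u * y⁻¹ ∈ OO ι := by
      rw [OO, ← nA]
      rintro _ ⟨a, rfl⟩
      rw [conj_mul, conj_mul, mem_OO.1 hu]
    rw [show f (polarBilin S (p x) (p u)) = polar S (p x) (p (y * u * y⁻¹)) + polar S (p x) (p u) from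
      h.ark.ea.inj (by
        rw [hf, h.ark.ea.add, polarBilin_apply_apply, commutatorElement_def, h.ark.inv, h.sp.cm x1 hu', h.sp.cm x1 hu,
          conjugate_commutatorElement, conj_comm hc.symm])]
    exact add_mem (cm_mem _ _) (cm_mem _ _)
  have F := fun ρ ρ' => h.fin h' x1 x2 x3 y1 y3 hc hf (ρ := ρ) (ρ' := ρ')
  by_cases n : ρ ∈ II S (p x)
  · exact F ρ ρ' ne2 a1.symm a2.symm d1 d2 d3 c n
  obtain ⟨a, b1, b2⟩ : ∃ a ∈ II S (p x), 𝔹 ρ a = 1 := by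
    by_contra! b
    exact n ((h.sp.spin.mem_II xS x0).2 fun w => z2_ne'.1 (b _ (cm_mem _ w)))
  have b3 := inv a b1
  rw [c, b2, one_smul] at b3
  rcases z2_cases (𝔹 ρ' a) with b4 | b4 <;> rw [b4] at b3
  · exact F ρ' ρ ne2.symm a2.symm a1.symm d2 d1 (add_comm ρ ρ' ▸ d3) (fun a => (c a).trans (add_comm _ _))
      (by simpa using b3)
  · refine F (ρ + ρ') ρ' (by simpa using (h.ark.of_b2 a1.1).1) a5.symm a2.symm d3 d2 (by simpa [add_assoc, vv] using d1)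
      (fun a => ?_) (by simpa using b3)
    rw [c, polar_add_left, smul_add, add_smul, add_assoc, add_left_comm (𝔹 ρ' a • ρ'), vv, add_zero]

theorem cross1 (h : H1 π0 ι p S s t) (h' : H1 π0 ι' p' S' t s) (x1 : x ∈ QQ π0 s) (x2 : x * x = 1)
    (xt : t * x = x * t) (y1 : y ∈ QQ π0 t) (y2 : y * y = 1) (y3 : y ∈ OO ι) (hc : x * y = y * x) :
    ∃ r, NB π0 s t r ∧ x ∈ QQ π0 r ∧ y ∈ QQ π0 r := by
  have k := fun r (hr : NB π0 t s r) => h'.l2k h y3 y1 y2 hr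
  by_cases e : x ∈ OO ι'
  · obtain ⟨r, -, -, a, -⟩ := h.exists_nb2 (h.half_of fun r hr => h.l2k h' e x1 x2 hr) (h'.half_of k).symm
    exact ⟨r, a⟩
  obtain ⟨r, a, b⟩ := h.one (h.ks x1 xt) x2 xt
  exact ⟨r, a, b, h'.ks_nb a.symm (k r a.symm) b hc.symm e⟩

theorem cross (h : H1 π0 ι p S s t) (h' : H1 π0 ι' p' S' t s) (x1 : x ∈ QQ π0 s) (x2 : x * x = 1)
    (xt : t * x = x * t) (y1 : y ∈ QQ π0 t) (y2 : y * y = 1) (ys : s * y = y * s) (hc : x * y = y * x) :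
    ∃ r, NB π0 s t r ∧ x ∈ QQ π0 r ∧ y ∈ QQ π0 r := by
  by_cases e : y ∈ OO ι
  · exact h.cross1 h' x1 x2 xt y1 y2 e hc
  by_cases e' : x ∈ OO ι'
  · obtain ⟨r, a, b, c⟩ := h'.cross1 h y1 y2 ys x1 x2 e' hc.symm
    exact ⟨r, a.symm, c, b⟩
  exact h.cross2 h' (h.ks x1 xt) x2 e' (h'.ks y1 ys) y2 e ys hc

end H1

theorem exists_A0 [Finite G] (hZ : ∀ x ∈ Z, x * x = 1) (hs : s ∈ Z) (h1 : s ∈ QQ π0 s) (h2 : s ∉ QQ π0 t) :
    ∃ A : Subgroup G, A ≤ Z ⊓ QQ π0 s ∧ (∀ g ∈ A, g ∈ QQ π0 t ∨ g * s ∈ QQ π0 t) ∧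
      Nat.card A = 2 * Nat.card (Z ⊓ QQ π0 s ⊓ QQ π0 t : Subgroup G) := by
  let A : Subgroup G :=
    { carrier := {g | g ∈ Z ⊓ QQ π0 s ∧ (g ∈ QQ π0 t ∨ g * s ∈ QQ π0 t)}
      one_mem' := ⟨one_mem _, Or.inl (one_mem _)⟩
      inv_mem' := fun {a} ha => by rwa [inv_eq_of_mul_eq_one_right (hZ a ha.1.1)]
      mul_mem' := fun {a b} ha hb => ⟨mul_mem ha.1 hb.1, by
        rcases ha.2 with c | c <;> rcases hb.2 with d | d
        · exact Or.inl (mul_mem c d)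
        · exact Or.inr (mul_assoc a b s ▸ mul_mem c d)
        · exact Or.inr (by rw [mul_assoc, Zc hZ hb.1.1 hs, ← mul_assoc]; exact mul_mem c d)
        · refine Or.inl ?_
          have := mul_mem c d
          rwa [Zc hZ hb.1.1 hs, mul_assoc, ← mul_assoc s, hZ s hs, one_mul] at this⟩ }
  refine ⟨A, fun g a => a.1, fun g a => a.2, le_antisymm ((le_two_mul (H := QQ π0 t) fun a ha b hb na nb => ?_).trans
    (Nat.mul_le_mul_left _ (card_le_of_le fun g a => ⟨a.1.1, a.2⟩))) (two_mul_le (fun g a => ⟨a.1, Or.inl a.2⟩)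
      ⟨⟨hs, h1⟩, Or.inr (hZ s hs ▸ one_mem _)⟩ fun a => h2 a.2)⟩
  have := mul_mem (ha.2.resolve_left na) (hb.2.resolve_left nb)
  rwa [Zc hZ hb.1.1 hs, mul_assoc, ← mul_assoc s, hZ s hs, one_mul] at this

theorem ineq16 {a b c m : ℕ} (h0 : 0 < c) (h1 : 2 * c ≤ a) (h2 : 2 * c ≤ b) (h3 : a * b ≤ m * c) :
    16 * ((a - 2 * c) * (b - 2 * c)) ≤ (m - 2 * c) * (m - 2 * c) ∧ 2 * c < m := by
  obtain ⟨x, rfl⟩ := Nat.exists_eq_add_of_le h1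
  obtain ⟨y, rfl⟩ := Nat.exists_eq_add_of_le h2
  have h4 : 4 * c + 2 * (x + y) ≤ m := Nat.le_of_mul_le_mul_right (by nlinarith) h0
  obtain ⟨w, rfl⟩ := Nat.exists_eq_add_of_le h4
  rw [Nat.add_sub_cancel_left, Nat.add_sub_cancel_left, show 4 * c + 2 * (x + y) + w - 2 * c = 2 * (x + y) + (2 * c + w) by
    omega]
  refine ⟨?_, by omega⟩
  zify
  nlinarith [sq_nonneg ((x : ℤ) - y), mul_nonneg (Int.natCast_nonneg (x + y)) (Int.natCast_nonneg (2 * c + w)),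
    sq_nonneg (2 * (c : ℤ) + w)]

theorem not_a1 [Finite G] (hZ : ∀ x ∈ Z, x * x = 1) (hF : Fix Z) (hs : MZ π0 Z s) (ht : MZ π0 Z t)
    (h : H1 π0 ι p S s t) (h' : H1 π0 ι' p' S' t s) : False := by
  classical
  obtain ⟨A, a1, a2, a3⟩ := exists_A0 hZ hs.1 hs.2.1.mem h.nq'
  obtain ⟨B, b1, b2, b3⟩ := exists_A0 hZ ht.1 ht.2.1.mem h.nq
  have em := le_antisymm (hs.2.2 t ht.1 ht.2.1) (ht.2.2 s hs.1 hs.2.1)
  rw [inf_right_comm] at b3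
  have k : ∀ x ∈ Z ⊓ QQ π0 s, ∀ y ∈ Z ⊓ QQ π0 t, ∃ r ∈ Z, NB π0 s t r ∧ x ∈ QQ π0 r ∧ y ∈ QQ π0 r := fun x hx y hy => by
    obtain ⟨r, c⟩ := h.cross h' hx.2 (hZ x hx.1) (Zc hZ ht.1 hx.1) hy.2 (hZ y hy.1) (Zc hZ hs.1 hy.1) (Zc hZ hx.1 hy.1)
    obtain ⟨r, d1, d2, d3⟩ := hF.sub (K := h.KX {x, y}) (by rintro _ (rfl | a); exacts [mul_one _, a.1.1.sq])
      ⟨r, Or.inr ⟨c.1, by simpa using c.2⟩, c.1.1.ne_one⟩ (by
        rintro g hg _ (rfl | a)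
        · exact Or.inl (by simp)
        · exact Or.inr ⟨nb_conj a.1 (hg s hs.1) (hg t ht.1), fun u hu => conj_comm (hg u (by
            rcases hu with rfl | rfl; exacts [hx.1, hy.1])) ▸ conj_mem_QQ g (a.2 u hu)⟩)
    have := d1.resolve_left d2
    exact ⟨r, d3, this.1, this.2 x (by simp), this.2 y (by simp)⟩
  have k2 : ∀ r ∈ Z, NB π0 s t r → 16 * ((↑(Z ⊓ QQ π0 s ⊓ QQ π0 r) \ (A : Set G)).ncard *
      (↑(Z ⊓ QQ π0 t ⊓ QQ π0 r) \ (B : Set G)).ncard) ≤ (↑(Z ⊓ QQ π0 s) \ (A : Set G)).ncard *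
      (↑(Z ⊓ QQ π0 t) \ (B : Set G)).ncard ∧ Nat.card A < Nat.card (Z ⊓ QQ π0 s : Subgroup G) :=
    fun r hr nb => by
    have c1 : A ≤ Z ⊓ QQ π0 s ⊓ QQ π0 r := fun g hg => ⟨a1 hg, (a2 g hg).elim
      (fun c => h.z0 h' (a1 hg).2 c (hZ g (a1 hg).1) nb) fun c => (mul_mem_cancel_right nb.2.1).1
        (h.z0 h' (mul_mem (a1 hg).2 hs.2.1.mem) c (hZ _ (mul_mem (a1 hg).1 hs.1)) nb)⟩
    have c2 : B ≤ Z ⊓ QQ π0 t ⊓ QQ π0 r := fun g hg => ⟨b1 hg, (b2 g hg).elim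
      (fun c => h.z0 h' c (b1 hg).2 (hZ g (b1 hg).1) nb) fun c => (mul_mem_cancel_right nb.2.2).1
        (h.z0 h' c (mul_mem (b1 hg).2 ht.2.1.mem) (hZ _ (mul_mem (b1 hg).1 ht.1)) nb)⟩
    rw [Set.ncard_diff c1, Set.ncard_diff c2, Set.ncard_diff a1, Set.ncard_diff b1]
    simp only [← Nat.card_coe_set_eq, SetLike.coe_sort_coe, a3, b3, em]
    refine ineq16 Nat.card_pos (a3 ▸ card_le_of_le c1) (b3 ▸ card_le_of_le c2) ((card_mul_card_le'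
      (inf_le_inf_right (QQ π0 r) inf_le_left) (inf_le_inf_right (QQ π0 r) inf_le_left)).trans
        (Nat.mul_le_mul (hs.2.2 r hr nb.1) (card_le_of_le fun g a => ⟨a.1.1, a.2.1.2⟩)))
  obtain ⟨r0, c1, c2, -⟩ := k 1 (one_mem _) 1 (one_mem _)
  have c3 := (k2 r0 c1 c2).2
  set P := (↑(Z ⊓ QQ π0 s) \ (A : Set G)) ×ˢ (↑(Z ⊓ QQ π0 t) \ (B : Set G))
  have c4 : 0 < P.ncard := by
    rw [Set.ncard_prod, Set.ncard_diff a1, Set.ncard_diff b1]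
    simp only [← Nat.card_coe_set_eq, SetLike.coe_sort_coe, a3, b3, em] at c3 ⊢
    exact Nat.mul_pos (by omega) (by omega)
  choose! f f1 f2 f3 f4 using k
  have c5 : ((Set.toFinite {r | r ∈ Z ∧ NB π0 s t r}).toFinset).card ≤ 15 := by
    rw [← Set.ncard_eq_toFinset_card _ _, show 15 = ((h.KX ∅ : Set G) \ {1}).ncard by
      rw [Set.ncard_diff_singleton_of_mem (one_mem _), ← Nat.card_coe_set_eq, SetLike.coe_sort_coe, h.card_K]]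
    exact Set.ncard_le_ncard fun r a => ⟨Or.inr ⟨a.2, by simp⟩, a.2.1.ne_one⟩
  have c6 := Finset.card_eq_sum_card_fiberwise (f := fun q : G × G => f q.1 q.2) (s := (Set.toFinite P).toFinset)
    (t := (Set.toFinite {r | r ∈ Z ∧ NB π0 s t r}).toFinset) fun q hq => by
      simp only [Set.Finite.coe_toFinset] at hq ⊢
      exact ⟨f1 _ hq.1.1 _ hq.2.1, f2 _ hq.1.1 _ hq.2.1⟩
  have c7 := Finset.sum_le_card_nsmul (Set.toFinite {r | r ∈ Z ∧ NB π0 s t r}).toFinset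
    (fun r => 16 * ((Set.toFinite P).toFinset.filter fun q : G × G => f q.1 q.2 = r).card) P.ncard fun r hr => by
      rw [Set.Finite.mem_toFinset] at hr
      rw [Set.ncard_prod]
      refine le_trans (Nat.mul_le_mul_left _ ?_) (k2 r hr.1 hr.2).1
      rw [← Set.ncard_prod, ← Set.ncard_coe_finset]
      refine Set.ncard_le_ncard fun q hq => ?_
      simp only [Finset.coe_filter, Set.Finite.mem_toFinset] at hq
      exact ⟨⟨⟨hq.1.1.1, hq.2 ▸ f3 _ hq.1.1.1 _ hq.1.2.1⟩, hq.1.1.2⟩, ⟨hq.1.2.1, hq.2 ▸ f4 _ hq.1.1.1 _ hq.1.2.1⟩, hq.1.2.2⟩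
  rw [← Finset.mul_sum, ← c6, ← Set.ncard_eq_toFinset_card, smul_eq_mul] at c7
  nlinarith

theorem nonperp [Finite G] (hZ : ∀ x ∈ Z, x * x = 1) (hF : Fix Z) (hs : MZ π0 Z s) (ht : MZ π0 Z t)
    (hn : t ∉ QQ π0 s) : ∃ ι, Ak π0 ι ∧ normalizer Z ≤ normalizer (Set.range ι) := by
  refine a0_main hZ hF (fun s t hs ht hn => ?_) hs ht hn
  have hn' := mt (ht.2.1.symm hs.2.1) hn
  obtain ⟨ι, a1, a2, a3⟩ := not_c hZ hF hs ht.1 hn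
  obtain ⟨ι', b1, b2, b3⟩ := not_c hZ hF ht hs.1 hn'
  obtain ⟨p, S, h⟩ := a1.ark.exists_sp
  obtain ⟨p', S', h'⟩ := b1.ark.exists_sp
  by_contra! e
  exact not_a1 hZ hF hs ht ⟨a1, h, a2, hs.2.1, ht.2.1, hn, a3, e ι a1 a2⟩
    ⟨b1, h', b2, ht.2.1, hs.2.1, hn', b3, fun c => e ι' b1 c b2⟩

end CfsgLib.Mon.Mx
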