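import Mathlib
import Cfsg.Agent.Lib.Mon.MxE
import Cfsg.Agent.Lib.M24E.Module

/-!
Singular subgroups of order at most sixteen lie in arks.
-/

set_option autoImplicit false

namespace CfsgLib.Mon.Mx

open Cfsg CfsgLib.Leech CfsgLib.MType CfsgLib.OrthE CfsgLib.Golay Subgroup QuadraticMap Module
open scoped commutatorElement Pointwise

local notation "F2" => ZMod 2
local notation "𝔹" => polar Q10

variable {G : Type*} [Group G] {π0 π : C k0 →* G} {τ : G} {ι ι' : V10 → G}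

/-- the standard singular subspaces -/
def Es (k : ℕ) : Submodule F2 V10 where
  carrier := {x | (∀ i, x (.inr i) = 0) ∧ ∀ i : Fin 5, k ≤ i.val → x (.inl i) = 0}
  add_mem' ha hb := ⟨fun i => by simp [ha.1 i, hb.1 i], fun i h => by simp [ha.2 i h, hb.2 i h]⟩
  zero_mem' := ⟨fun _ => rfl, fun _ _ => rfl⟩
  smul_mem' c x h := ⟨fun i => by simp [h.1 i], fun i hi => by simp [h.2 i hi]⟩

theorem finrank_Es {k : ℕ} (hk : k ≤ 5) : finrank F2 (Es k) = k := by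
  have : ∀ k : Fin 6, (Finset.univ.filter fun x : V10 => (∀ i, x (.inr i) = 0) ∧
      ∀ i : Fin 5, k.val ≤ i.val → x (.inl i) = 0).card = 2 ^ k.val := by decide +kernel
  refine Nat.pow_right_injective (le_refl 2) ((card_sub _).symm.trans ?_)
  exact (Nat.subtype_card _ fun x => by simp [Es]).trans (this ⟨k, by omega⟩)

theorem Es_sing {k : ℕ} {x : V10} (h : x ∈ Es k) : Q10 x = 0 := by simp [qPlus_apply, h.1]

theorem Es_mono {k l : ℕ} (h : k ≤ l) : Es k ≤ Es l := fun _ a => ⟨a.1, fun i b => a.2 i (h.trans b)⟩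

theorem Es_le {k : ℕ} {X : Submodule F2 V10} (h : ∀ i : Fin 5, i.val < k → Pi.single (.inl i) 1 ∈ X) : Es k ≤ X :=
  fun x hx => by
    rw [pi_eq_sum_univ' x]
    refine sum_mem fun j _ => ?_
    rcases j with i | i
    · by_cases e : i.val < k
      · exact X.smul_mem _ (h i e)
      · rw [hx.2 i (not_lt.1 e), zero_smul]; exact zero_mem _
    · rw [hx.1 i, zero_smul]; exact zero_mem _

theorem single_mem_Es {k : ℕ} {i : Fin 5} (h : i.val < k) : Pi.single (.inl i) 1 ∈ Es k :=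
  ⟨fun j => by simp, fun j hj => by rw [Pi.single_eq_of_ne]; rintro ⟨rfl⟩; omega⟩

theorem refl_notMem_E10 {v : V10} (hv : Q10 v ≠ 0) : refl Q10 v ∉ OrthE.E Q10 := fun h => by
  haveI := E_normal (Q := Q10)
  have hy := hyp_qPlus (F := F2) (m := 5) 0
  have hQ := nondeg_qPlus (F := F2) 5
  have := index_E10
  rw [eq_top_of_refl_of_siegel hQ (OrthE.E Q10) (fun w hw => (QuotientGroup.eq_one_iff _).1
    ((hy.map_refl_eq (QuotientGroup.mk' _) hQ (hy.exists_nonsingular hQ (by simp)) (QuotientGroup.ker_mk' _).ge hv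
      one_ne_zero (by rw [z2_ne.1 hv, z2_ne.1 hw]; rfl)).trans ((QuotientGroup.eq_one_iff _).2 h)))
    fun u v _ _ _ => eich_mem_E u v, index_top] at this
  exact absurd this (by decide)

theorem exists_E_Es {X : Submodule F2 V10} (hX : ∀ x ∈ X, Q10 x = 0) {k : ℕ} (h4 : k ≤ 4) (hk : k ≤ finrank F2 X) :
    ∃ g ∈ OrthE.E Q10, ∀ x ∈ Es k, g.1 x ∈ X := by
  obtain ⟨f, hf⟩ := Module.Free.exists_linearMap_injective_of_linearIndependent_of_rank_le (M := Es k)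
    (Module.finBasis F2 X).linearIndependent (by
      rw [← finrank_eq_rank, finrank_Es (by omega), Cardinal.mk_fin]; exact_mod_cast hk)
  obtain ⟨g, g1, g2⟩ := Forms.witt_quad Q10 nd10 (Es k) (X.subtype ∘ₗ f) (X.injective_subtype.comp hf)
    fun x => (hX _ (f x).2).trans (Es_sing x.2).symm
  have g3 : ∀ x ∈ Es k, g x ∈ X := fun x hx => g2 ⟨x, hx⟩ ▸ (f ⟨x, hx⟩).2
  by_cases e : (⟨g, g1⟩ : O Q10) ∈ OrthE.E Q10
  · exact ⟨_, e, g3⟩
  refine ⟨⟨g, g1⟩ * refl Q10 (Pi.single (.inl 4) 1 + Pi.single (.inr 4) 1), (mul_mem_iff_of_index_two index_E10).2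
    (iff_of_false e (refl_notMem_E10 (by simp [Q_add, qPlus_apply, polar_qPlus_inr]))), fun x hx => ?_⟩
  rw [O_mul_apply, refl_apply_of_orth (by
    rw [polar_add_right, polar_qPlus_inl, polar_qPlus_inr, hx.1, hx.2 4 h4, add_zero])]
  exact g3 x hx

theorem exists_ls {v : V24} (hv : v.1 = 0) : ∃ (δ : Finset GolayPt) (n : ℕ), δ.card ≤ 4 ∧ δ.card % 2 = 0 ∧
    v = ls k0 δ + n • w0 k0 := by
  let H : Subgroup (C k0) :=
    { carrier := {c | ∃ (e : F2) (δ : Finset GolayPt), δ.card % 2 = 0 ∧ c = q k0 e (ls k0 δ)}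
      one_mem' := ⟨0, ∅, rfl, by simp [ls]⟩
      mul_mem' := by
        rintro _ _ ⟨e, a, ha, rfl⟩ ⟨f, b, hb, rfl⟩
        exact ⟨_, symmDiff a b, by have := card_symmDiff_add a b; omega, by rw [q_mul, ls_symmDiff]⟩
      inv_mem' := by rintro _ ⟨e, a, ha, rfl⟩; exact ⟨_, a, ha, q_inv _ _⟩ }
  have k : ∀ v : V24, v.1 = 0 → v.2 ⬝ᵥ a0 k0 = 0 → ∃ δ : Finset GolayPt, δ.card ≤ 4 ∧ δ.card % 2 = 0 ∧ v = ls k0 δ :=
    fun v h1 h2 => by
    obtain ⟨e, δ, a, b⟩ := std_k0.qh_mem_of_isE (H := H.comap (mk k0)) (fun i => ⟨0, symmDiff {i} {none}, by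
      have := card_symmDiff_add {i} {none}
      simp only [Finset.card_singleton] at this
      omega, by rw [std_k0.xI_mul, ls_symmDiff]; simp [ls, q]⟩) (isE_qh.2 ⟨rfl, h1, h2⟩)
    obtain ⟨t, c, d⟩ := M24E.exists_small δ
    have := card_symmDiff_add δ t
    have := card_mod_four d
    exact ⟨t, c, by omega, (q_inj b).2.trans (ls_eq_of_cw d)⟩
  rcases z2_cases (v.2 ⬝ᵥ a0 k0) with e | e
  · obtain ⟨δ, a, b, c⟩ := k v hv e
    exact ⟨δ, 0, a, b, by simpa using c⟩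
  · obtain ⟨δ, a, b, c⟩ := k (v + w0 k0) (by simp [hv, std_k0.w0_fst]) (by
      rw [Prod.snd_add, add_dotProduct, e, std_k0.w0_dot_a0]; rfl)
    exact ⟨δ, 1, a, b, by rw [← c, one_smul, add_assoc, ww_add_self, add_zero]⟩

theorem oct_of_meet {T δ : Finset GolayPt} (hT : T.card = 4) (h4 : δ.card ≤ 4) (h2 : δ.card % 2 = 0)
    (h : ∀ o ∈ octads, T ⊆ o → (δ ∩ o).card % 2 = 0) (hm : (δ ∩ T).Nonempty) : ∃ o ∈ octads, T ⊆ o ∧ δ ⊆ o := by
  have c1 := Finset.card_sdiff_add_card_inter δ T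
  have c2 := Finset.card_sdiff_add_card δ T
  have c3 := hm.card_pos
  by_cases e : (δ ∪ T).card ≤ 5
  · obtain ⟨o, a, b⟩ := exists_octad_of_card_le e
    exact ⟨o, a, Finset.union_subset_right b, Finset.union_subset_left b⟩
  choose f f1 f2 using fun x => exists_octad_of_card_le (s := insert x T) ((Finset.card_insert_le _ _).trans (by omega))
  have f3 := fun x => (Finset.subset_insert x T).trans (f2 x)
  have f4 : ∀ x, (δ ∩ f x).card = ((δ \ T) ∩ f x).card + (δ ∩ T).card := fun x => by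
    rw [← Finset.card_sdiff_add_card_inter (δ ∩ f x) T, Finset.inter_assoc, Finset.inter_eq_right.2 (f3 x),
      Finset.sdiff_inter_right_comm]
  by_cases e2 : 2 ≤ (δ ∩ T).card
  · obtain ⟨x, hx⟩ := Finset.card_pos.1 (show 0 < (δ \ T).card by omega)
    have := h _ (f1 x) (f3 x)
    have := f4 x
    have := Finset.card_pos.2 ⟨x, Finset.mem_inter.2 ⟨hx, f2 x (Finset.mem_insert_self _ _)⟩⟩
    exact ⟨_, f1 x, f3 x, Finset.inter_eq_left.1 (Finset.eq_of_subset_of_card_le Finset.inter_subset_left (by omega))⟩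
  have c4 : Tᶜ ⊆ (δ \ T).biUnion fun x => f x \ T := fun y hy => by
    have := h _ (f1 y) (f3 y)
    have := f4 y
    obtain ⟨x, hx⟩ := Finset.card_pos.1 (show 0 < ((δ \ T) ∩ f y).card by omega)
    obtain ⟨x1, x2⟩ := Finset.mem_inter.1 hx
    refine Finset.mem_biUnion.2 ⟨x, x1, Finset.mem_sdiff.2 ⟨?_, Finset.mem_compl.1 hy⟩⟩
    rw [octad_eq_of_five_le (f1 x) (f1 y) (le_of_eq_of_le (by
      rw [Finset.card_insert_of_notMem (Finset.mem_sdiff.1 x1).2, hT]) (Finset.card_le_card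
        (Finset.subset_inter (f2 x) (Finset.insert_subset x2 (f3 y)))))]
    exact f2 y (Finset.mem_insert_self _ _)
  have c5 := (Finset.card_le_card c4).trans (Finset.card_biUnion_le_card_mul _ _ 4 fun x _ => by
    rw [Finset.card_sdiff_of_subset (f3 x), (f1 x).2, hT])
  rw [Finset.card_compl, card_golayPt] at c5
  omega

theorem oct_of_even {T δ : Finset GolayPt} (hT : T.card = 4) (h4 : δ.card ≤ 4) (h2 : δ.card % 2 = 0)
    (h : ∀ T', T'.card = 4 → ls k0 T' = ls k0 T → ∀ o ∈ octads, T' ⊆ o → (δ ∩ o).card % 2 = 0) :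
    ∃ T', T'.card = 4 ∧ ls k0 T' = ls k0 T ∧ ∃ o ∈ octads, T' ⊆ o ∧ δ ⊆ o := by
  by_cases e : (δ ∩ T).Nonempty
  · exact ⟨T, hT, rfl, oct_of_meet hT h4 h2 (h T hT rfl) e⟩
  rcases δ.eq_empty_or_nonempty with rfl | ⟨x, hx⟩
  · obtain ⟨o, a, b⟩ := exists_octad_of_card_le (s := T) (by omega)
    exact ⟨T, hT, rfl, o, a, b, Finset.empty_subset _⟩
  obtain ⟨o, a, b⟩ := exists_octad_of_card_le (s := insert x T) ((Finset.card_insert_le _ _).trans (by omega))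
  have c := (Finset.subset_insert x T).trans b
  have c1 : (o \ T).card = 4 := by rw [Finset.card_sdiff_of_subset c, a.2, hT]
  have c2 : ls k0 (o \ T) = ls k0 T := ls_eq_of_cw (by
    rw [Finset.disjoint_sdiff.symm.symmDiff_eq_sup, Finset.sup_eq_union, Finset.sdiff_union_of_subset c]; exact a.1)
  exact ⟨_, c1, c2, oct_of_meet c1 h4 h2 (h _ c1 c2) ⟨x, Finset.mem_inter.2 ⟨hx, Finset.mem_sdiff.2
    ⟨b (Finset.mem_insert_self _ _), fun d => e ⟨x, Finset.mem_inter.2 ⟨hx, d⟩⟩⟩⟩⟩⟩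

/-- the ark attached to an octad -/
structure OA (π0 π : C k0 →* G) (o : Finset GolayPt) (ι : V10 → G) : Prop where
  ak : Ak π0 ι
  mem : ∀ δ ⊆ o, δ.card % 2 = 0 → ∀ (e : F2) (n : ℕ), π (q k0 e (ls k0 δ + n • w0 k0)) ∈ Set.range ι
  om : ∀ e v, π (q k0 e v) ∈ OO ι → om (xv k0 o) v = 0
  out : ∀ x ∉ o, ∀ y ∉ o, ∃ e, π (q k0 e (lam k0 x + lam k0 y)) ∈ OO ι

theorem Frm.oa [Finite G] (h : Frm π0 π τ) {o : Finset GolayPt} (ho : o ∈ octads) : ∃ ι, OA π0 π o ι := by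
  obtain ⟨π', τ', σ, h', rfl, -, -, ⟨k, k1, k2⟩, a, b⟩ := h.exists_oct ho
  refine ⟨_, ⟨π', τ', h', rfl⟩, a, b, fun x hx y hy => ?_⟩
  have := (h'.q_mem_O (e := 0)).2 (φ_mem_Fb (v := dlL (σ⁻¹ • x) (σ⁻¹ • y)) fun i hi => by
    rw [dlL_apply, if_neg, if_neg, sub_zero]
    · rintro rfl; exact hy (Finset.inv_smul_mem_iff.1 hi)
    · rintro rfl; exact hx (Finset.inv_smul_mem_iff.1 hi))
  rw [k2, mk_conj_q, k1, φ_dlL, map_add, act_perm_lam, act_perm_lam, smul_inv_smul, smul_inv_smul] at this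
  exact ⟨_, this⟩

theorem OA.ne {o o' : Finset GolayPt} (h : OA π0 π o ι) (h' : OA π0 π o' ι') (ho : o ∈ octads) (ho' : o' ∈ octads)
    (hne : o ≠ o') : Set.range ι ≠ Set.range ι' := fun e => by
  obtain ⟨x, x1, x2⟩ : ∃ x ∈ o', x ∉ o := by
    by_contra! a
    exact hne (Finset.eq_of_subset_of_card_le a (by rw [ho.2, ho'.2])).symm
  obtain ⟨y, -, hy⟩ := Finset.exists_mem_notMem_of_card_lt_card (s := o ∪ o') (t := Finset.univ)
    ((Finset.card_union_le _ _).trans_lt (by rw [ho.2, ho'.2]; decide))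
  rw [Finset.notMem_union] at hy
  obtain ⟨f, hf⟩ := h.out x x2 y hy.1
  have := h'.om f _ (by rwa [OO, ← e])
  rw [om_add_right, om_xv_lam ho'.1, om_xv_lam ho'.1, if_pos x1, if_neg hy.2] at this
  exact absurd this (by decide)

theorem OA.z {o : Finset GolayPt} (h : OA π0 π o ι) : π (z k0) ∈ Set.range ι := by
  simpa [ls, Mon.z] using h.mem ∅ (Finset.empty_subset _) rfl 1 0

theorem OA.w {o : Finset GolayPt} (h : OA π0 π o ι) : π (q k0 0 (w0 k0)) ∈ Set.range ι := by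
  simpa [ls] using h.mem ∅ (Finset.empty_subset _) rfl 0 1

theorem OA.tet {o T : Finset GolayPt} (h : OA π0 π o ι) (h1 : T ⊆ o) (h2 : T.card = 4) :
    π (q k0 0 (ls k0 T)) ∈ Set.range ι := by
  simpa using h.mem T h1 (by omega) 0 0

theorem i0_single (i : Fin 4) : i0 (Pi.single (.inl i.succ) 1) = q k0 0 (k0.φ (bL (.inl i))) := by
  rw [i0_of_zero (by simp), ← U8_single, Pi.single_eq_of_ne (by simp [(Fin.succ_ne_zero i).symm])]
  congr 2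
  revert i; decide

theorem i0_e1 : i0 (Pi.single (.inl 1) 1) = q k0 0 (w0 k0) := (i0_single 0).trans (by rw [φ_bL_inl])

theorem i0_e2 (j : Fin 3) : i0 (Pi.single (.inl j.succ.succ) 1) = q k0 0 (ls k0 (tt 0 j)) :=
  (i0_single j.succ).trans (by rw [φ_bL_succ])

/-- singular subgroups -/
def Sing (π0 : C k0 →* G) (U : Subgroup G) : Prop := ∀ x ∈ U, x = 1 ∨ B2 π0 x ∧ ∀ y ∈ U, y ∈ QQ π0 x

theorem Sing.b2 {U : Subgroup G} (h : Sing π0 U) {x : G} (hx : x ∈ U) (h1 : x ≠ 1) : B2 π0 x :=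
  ((h x hx).resolve_left h1).1

theorem Sing.mem {U : Subgroup G} (h : Sing π0 U) {x y : G} (hx : x ∈ U) (h1 : x ≠ 1) (hy : y ∈ U) : y ∈ QQ π0 x :=
  ((h x hx).resolve_left h1).2 y hy

theorem Sing.Q0 {U : Subgroup G} (h : Sing π0 U) (hA : Ark π0 ι) : ∀ x ∈ pb hA.ea U, Q10 x = 0 := fun x hx =>
  (h _ hx).elim (fun e => hA.ea.eq_one.1 e ▸ map_zero _) fun e => (hA.of_b2 e.1).2

variable [Finite G]

theorem Ark.tri' (h : Ark π0 ι) {U : Subgroup G} (hU : Sing π0 U) {r s t g : G} (r1 : r ∈ Set.range ι)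
    (s1 : s ∈ Set.range ι) (t1 : t ∈ Set.range ι) (r2 : r ∈ U) (s2 : s ∈ U) (t2 : t ∈ U) (r0 : r ≠ 1) (s0 : s ≠ 1)
    (hne : r ≠ s) (hn : ¬ (t = 1 ∨ t = r ∨ t = s ∨ t = r * s)) (hg : ∀ x ∈ U, x ≠ 1 → g ∈ QQ π0 x) : g ∈ OO ι := by
  obtain ⟨r, rfl⟩ := r1
  obtain ⟨s, rfl⟩ := s1
  obtain ⟨t, rfl⟩ := t1
  have t0 : ι t ≠ 1 := fun e => hn (Or.inl e)
  refine h.tri (hU.b2 r2 r0) (hU.b2 s2 s0) (hU.b2 t2 t0) (fun e => hne (e ▸ rfl))
    ((h.perp (hU.b2 r2 r0) _).1 (hU.mem r2 r0 s2)) (fun e => hn ?_) (hg _ r2 r0) (hg _ s2 s0) (hg _ t2 t0)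
  rcases mem_span2.1 e with rfl | rfl | rfl | rfl <;> simp [h.ea.zero, h.ea.add]

theorem step (hA : Ak π0 ι) {U : Subgroup G} (hU : Sing π0 U) {k : ℕ} (hk : k ≤ 3) (h1 : ∀ x ∈ Es k, ι x ∈ U)
    {y : G} (hy : y ∈ U) : ∃ ι', Ak π0 ι' ∧ y ∈ Set.range ι' ∧ ∀ x ∈ Es k, ι x ∈ Set.range ι' := by
  by_cases y0 : y ∈ Set.range ι
  · exact ⟨ι, hA, y0, fun x _ => ⟨x, rfl⟩⟩
  have y1 : y ≠ 1 := fun e => y0 ⟨0, hA.ark.ea.zero.trans e.symm⟩
  suffices ∃ ι', Ak π0 ι' ∧ y ∈ Set.range ι' ∧ ∀ i : Fin 5, i.val < k → ι (Pi.single (.inl i) 1) ∈ Set.range ι' by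
    obtain ⟨ι', a, b, c⟩ := this
    exact ⟨ι', a, b, Es_le (X := pb hA.ark.ea a.ark.ea.sub) c⟩
  obtain ⟨π, τ, h, rfl⟩ := hA
  have u := fun (i : Fin 5) (hi : i.val < k) => h1 _ (single_mem_Es hi)
  have hz : 0 < k → π (z k0) ∈ U := fun a => i0_e ▸ u 0 a
  have hw : 1 < k → π (q k0 0 (w0 k0)) ∈ U := fun a => i0_e1 ▸ u 1 a
  obtain rfl | rfl | hk2 : k = 0 ∨ k = 1 ∨ 2 ≤ k := by omega
  · obtain ⟨π', τ', h', rfl⟩ := hU.b2 hy y1
    exact ⟨_, ⟨π', τ', h', rfl⟩, ⟨e10, congrArg π' i0_e⟩, fun i hi => by omega⟩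
  · obtain ⟨π', τ', h', a, rfl⟩ := h.b2_z.pair (hU.b2 hy y1) (hU.mem (hz one_pos) h.b2_z.ne_one hy)
      fun e => y0 ⟨e10, (congrArg π i0_e).trans e.symm⟩
    refine ⟨_, ⟨π', τ', h', rfl⟩, ⟨_, congrArg π' i0_e1⟩, fun i hi => ⟨e10, ?_⟩⟩
    obtain rfl : i = 0 := Fin.ext (by simpa using hi)
    simp only [i0_e, a]
  obtain ⟨e, v, hv, rfl⟩ := h.inf13 (hU.mem (hz (by omega)) h.b2_z.ne_one hy)
    (hU.mem (hw hk2) (h.b2_w 0).ne_one hy)
  obtain ⟨δ, n, d1, d2, rfl⟩ := exists_ls hv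
  have fin : ∀ {o ι'}, OA π0 π o ι' → (k = 3 → π (q k0 0 (ls k0 (tt 0 0))) ∈ Set.range ι') →
      ∀ i : Fin 5, i.val < k → π (i0 (Pi.single (.inl i) 1)) ∈ Set.range ι' := fun a b i hi => by
    obtain rfl | rfl | rfl : i = 0 ∨ i = 1 ∨ i = 2 := by omega
    exacts [i0_e ▸ a.z, i0_e1 ▸ a.w, (i0_e2 0).symm ▸ b (by simp at hi; omega)]
  obtain rfl | rfl : k = 2 ∨ k = 3 := by omega
  · obtain ⟨o, o1, o2⟩ := exists_octad_of_card_le (s := δ) (by omega)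
    obtain ⟨ι', a⟩ := h.oa o1
    exact ⟨ι', a.ak, a.mem δ o2 d2 e n, fin a (by omega)⟩
  obtain ⟨T, t1, t2, o, o1, o2, o3⟩ := oct_of_even (tt_spec 0).1 d1 d2 fun T t1 t2 o o1 o2 => by
    obtain ⟨ι', a⟩ := h.oa o1
    have := a.om _ _ (a.ak.ark.tri' hU a.z a.w (a.tet o2 t1) (hz (by omega)) (hw (by omega))
      (by rw [t2, ← i0_e2]; exact u 2 (by decide)) h.b2_z.ne_one (h.b2_w 0).ne_one (by
        rw [← i0_e, ← i0_e1]; exact h.ark.ea.inj.ne (by decide)) (by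
        rw [t2, ← i0_e2, ← i0_e, ← i0_e1, ← h.ark.ea.add, ← h.ark.ea.zero]
        simp only [h.ark.ea.inj.eq_iff]
        decide) fun x a b => hU.mem a b hy)
    rw [om_add_right, om_xv_ls o1.1, om_comm, om_nsmul, om_comm, om_xv_w0, mul_zero, add_zero,
      ZMod.natCast_eq_zero_iff_even, Nat.even_iff] at this
    exact this
  obtain ⟨ι', a⟩ := h.oa o1
  exact ⟨ι', a.ak, a.mem δ o3 d2 e n, fin a fun _ => t2 ▸ a.tet o2 t1⟩

theorem sing_cases {U : Subgroup G} (hU : Sing π0 U) (h0 : U ≠ ⊥) : ∃ ι, Ak π0 ι ∧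
    ((∃ k, 1 ≤ k ∧ k ≤ 3 ∧ (U : Set G) = ι '' Es k) ∨ ∀ x ∈ Es 4, ι x ∈ U) := by
  obtain ⟨⟨s, hs⟩, s1⟩ := ne_bot_iff_exists_ne_one.1 h0
  have s1 : s ≠ 1 := fun e => s1 (Subtype.ext e)
  obtain ⟨π, τ, h, -⟩ := hU.b2 hs s1
  haveI : Nonempty {ι // Ak π0 ι} := ⟨⟨_, π, τ, h, rfl⟩⟩
  obtain ⟨⟨ι, hA⟩, hm⟩ := Finite.exists_max fun ι : {ι // Ak π0 ι} => finrank F2 (pb ι.2.ark.ea U)
  by_cases e : 4 ≤ finrank F2 (pb hA.ark.ea U)
  · obtain ⟨g, g1, g2⟩ := exists_E_Es (hU.Q0 hA.ark) le_rfl e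
    exact ⟨_, hA.iso g1, Or.inr g2⟩
  obtain ⟨g, g1, g2⟩ := exists_E_Es (hU.Q0 hA.ark) (not_le.1 e).le le_rfl
  have hB := hA.iso g1
  set k := finrank F2 (pb hA.ark.ea U)
  have k1 : Es k = pb hB.ark.ea U := Submodule.eq_of_le_of_finrank_le g2 ((hm ⟨_, hB⟩).trans_eq (finrank_Es (by omega)).symm)
  have hle : ∀ y ∈ U, ∃ x ∈ Es k, ι (g.1 x) = y := fun y hy => by
    obtain ⟨ι', a, b, c⟩ := step hB hU (k := k) (by omega) g2 hy
    obtain ⟨-, x, rfl⟩ : y ∈ U ⊓ hB.ark.ea.sub := eq_of_le_of_card_ge (H := U ⊓ hB.ark.ea.sub) (K := U ⊓ a.ark.ea.sub)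
      (by rintro _ ⟨d, x, rfl⟩; exact ⟨d, c x (k1 ▸ d)⟩) (by
        rw [card_pb, card_pb, ← k1, finrank_Es (by omega)]
        exact Nat.pow_le_pow_right two_pos (hm ⟨_, a⟩)) ▸ ⟨hy, b⟩
    exact ⟨x, k1 ▸ hy, rfl⟩
  refine ⟨_, hB, Or.inl ⟨k, Nat.pos_of_ne_zero fun k0 => ?_, by omega, Set.ext fun y => ⟨hle y, ?_⟩⟩⟩
  · obtain ⟨x, a, b⟩ := hle s hs
    rw [Submodule.finrank_eq_zero.1 ((finrank_Es (by omega)).trans k0)] at a
    exact s1 (by rw [← b, a, map_zero, hA.ark.ea.zero])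
  · rintro ⟨x, a, rfl⟩
    exact g2 x a

end CfsgLib.Mon.Mx
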