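import Mathlib
import Cfsg.Agent.Lib.Mon.MxF

/-!
The singular subgroups containing a singular subgroup of order sixteen.
-/

set_option autoImplicit false

namespace CfsgLib.Mon.Mx

open Cfsg CfsgLib.Leech CfsgLib.MType CfsgLib.OrthE CfsgLib.Golay Subgroup QuadraticMap Module
open scoped commutatorElement Pointwise

local notation "F2" => ZMod 2
local notation "𝔹" => polar Q10

variable {G : Type*} [Group G] {π0 π : C k0 →* G} {τ : G} {ι ι' : V10 → G} {X U : Subgroup G} {a b c y y' : G}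

theorem o2 {X : Submodule F2 V10} (hX : ∀ x ∈ X, Q10 x = 0) (h4 : finrank F2 X = 4) {c : V10} (c1 : c ∉ X)
    (c2 : c ∈ pp X) (c3 : Q10 c = 0) : ∃ a, Q10 a = 0 ∧ 𝔹 c a = 1 ∧ a ∈ pp X ∧
      ∀ v ∈ pp X, v ∈ X ∨ v + c ∈ X ∨ v + a ∈ X ∨ v + (c + a) ∈ X := by
  obtain ⟨a', a1, a2⟩ := exists_sep c1
  obtain ⟨a, b1, b2, b3⟩ : ∃ a, Q10 a = 0 ∧ 𝔹 c a = 1 ∧ a ∈ pp X := ⟨a' + Q10 a' • c, by
    rw [Q_add, Q_smul, c3, polar_smul_right, polar_comm, a2]; simp [z2_add_self],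
    by simp [polar_add_right, a2, c3], add_mem a1 (Submodule.smul_mem _ _ c2)⟩
  refine ⟨a, b1, b2, b3, fun v hv => ?_⟩
  have h5 := (self_pp (I := X ⊔ Submodule.span F2 {c}) (polar_of_sing fun x hx => by
    obtain ⟨j, hj, rfl | rfl⟩ := mem_sup1.1 hx
    exacts [hX _ hj, by rw [Q_add, hX j hj, c3, mem_pp.1 c2 j hj]; rfl])).2 (by rw [finrank_sup1 c1, h4])
  have h6 := add_mem hv (add_mem (Submodule.smul_mem _ (𝔹 v a) c2) (Submodule.smul_mem _ (𝔹 c v) b3))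
  have h7 : 𝔹 c (v + (𝔹 v a • c + 𝔹 c v • a)) = 0 := by simp [polar_add_right, b2, c3, z2_add_self]
  obtain ⟨j, hj, e | e⟩ := mem_sup1.1 (h5 ▸ mem_pp.2 fun x hx => by
    obtain ⟨j, hj, rfl | rfl⟩ := mem_sup1.1 hx
    exacts [mem_pp.1 h6 _ hj, by rw [polar_add_left, mem_pp.1 h6 _ hj, h7, add_zero]])
  · rw [← e] at hj
    rcases z2_cases (𝔹 v a) with d | d <;> rcases z2_cases (𝔹 c v) with d' | d' <;> simp_all
  · have := congrArg (𝔹 · a) e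
    simp [polar_add_left, b2, b1, z2_add_self, mem_pp.1 b3 j hj] at this

/-- the common neighbourhood -/
def YY (π0 : C k0 →* G) (X : Subgroup G) : Subgroup G where
  carrier := {y | ∀ x ∈ X, x ≠ 1 → y ∈ QQ π0 x}
  one_mem' _ _ _ := one_mem _
  mul_mem' ha hb x h1 h2 := mul_mem (ha x h1 h2) (hb x h1 h2)
  inv_mem' ha x h1 h2 := inv_mem (ha x h1 h2)

theorem YY_conj {n : G} (hn : n ∈ normalizer X) (hy : y ∈ YY π0 X) : n * y * n⁻¹ ∈ YY π0 X := fun x h1 h2 => by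
  simpa [mul_assoc] using conj_mem_QQ n (hy (n⁻¹ * x * n) ((mem_normalizer_iff''.1 hn x).1 h1) fun e => h2 (by
    simpa [mul_assoc] using congrArg (n * · * n⁻¹) e))

/-- singular of order sixteen -/
structure S4 (π0 : C k0 →* G) (X : Subgroup G) : Prop where
  sing : Sing π0 X
  card : Nat.card X = 16

namespace S4

theorem le (h : S4 π0 X) : X ≤ YY π0 X := fun _ hy _ h1 h2 => h.sing.mem h1 h2 hy

variable [Finite G]

theorem sq (h : S4 π0 X) (y : G) (hy : y ∈ YY π0 X) : y * y = 1 := by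
  obtain ⟨r, a, s, b, c, d, e⟩ := exists_two (X := X) (1 : G) (h.card ▸ (by norm_num : 2 < 16))
  exact ((h.sing.b2 a c).sq_or (hy r a c)).elim id fun u =>
    ((h.sing.b2 b d).sq_or (hy s b d)).resolve_right fun v => e (u.symm.trans v)

theorem comm (h : S4 π0 X) (ha : a ∈ YY π0 X) (hb : b ∈ YY π0 X) : a * b = b * a := Zc h.sq ha hb

theorem can (h : S4 π0 X) {K : Subgroup G} (hb : b ∈ YY π0 X) (hc : c ∈ YY π0 X) (h1 : a * c ∈ K)
    (h2 : b * c ∈ K) : a * b ∈ K := by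
  have := mul_mem h1 h2
  rwa [h.comm hb hc, mul_assoc, ← mul_assoc c, h.sq c hc, one_mul] at this

theorem can' (h : S4 π0 X) {K : Subgroup G} (hc : c ∈ YY π0 X) (h1 : a * c ∈ K) (h2 : c ∈ K) : a ∈ K :=
  (mul_mem_cancel_right h2).1 h1

theorem tr (h : S4 π0 X) (h1 : B2 π0 a) (h2 : a ∈ YY π0 X) (h3 : a ∉ X) (h4 : b * a ∈ X) (hy : y ∈ YY π0 X)
    (h5 : y ∈ QQ π0 a) : y ∈ QQ π0 b := by
  rw [← mul_one b, ← h1.sq, ← mul_assoc]
  by_cases e : b * a = 1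
  · rwa [e, one_mul]
  exact (h.sing.b2 h4 e).mem_mul h1 (h2 _ h4 e) (fun d => h3 (d ▸ h4)) (hy _ h4 e) h5

theorem memO (h : S4 π0 X) (hA : Ark π0 ι) (hle : X ≤ hA.ea.sub) (hy : y ∈ YY π0 X) : y ∈ OO ι := by
  classical
  obtain ⟨r, a, s, b, c, d, e⟩ := exists_two (X := X) (1 : G) (h.card ▸ (by norm_num : 2 < 16))
  obtain ⟨t, t1, t2⟩ := Set.exists_mem_notMem_of_ncard_lt_ncard (s := {1, r, s, r * s}) (t := X) (by
    rw [← Nat.card_coe_set_eq (X : Set G), SetLike.coe_sort_coe, h.card]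
    exact (Set.ncard_insert_le _ _).trans_lt (Nat.succ_lt_succ ((Set.ncard_insert_le _ _).trans_lt
      (Nat.succ_lt_succ ((Set.ncard_insert_le _ _).trans_lt (by simp))))))
  exact hA.tri' h.sing (hle a) (hle b) (hle t1) a b t1 c d e t2 hy

theorem finrank (h : S4 π0 X) (hA : Ark π0 ι) (hle : X ≤ hA.ea.sub) : finrank F2 (pb hA.ea X) = 4 :=
  Nat.pow_right_injective (le_refl 2) ((card_pb hA.ea X).symm.trans (by rw [inf_eq_left.2 hle, h.card]))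

theorem mem_Y (h : S4 π0 X) (hA : Ark π0 ι) (hle : X ≤ hA.ea.sub) {v : V10} : ι v ∈ YY π0 X ↔ v ∈ pp (pb hA.ea X) := by
  refine ⟨fun e => mem_pp.2 fun x hx => ?_, fun e x h1 h2 => ?_⟩
  · by_cases x0 : ι x = 1
    · simp [hA.ea.eq_one.1 x0]
    exact (hA.perp (h.sing.b2 hx x0) _).1 (e _ hx x0)
  · obtain ⟨x, rfl⟩ := hle h1
    exact (hA.perp (h.sing.b2 h1 h2) _).2 (mem_pp.1 e x h1)

variable {p : G → V16} {S : QuadraticMap F2 V16 V10}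

theorem le_II (h : S4 π0 X) (hs : Sp π0 ι p S) (hle : X ≤ hs.ark.ea.sub) (hy : y ∈ YY π0 X) (hn : y ∉ Set.range ι) :
    S (p y) = 0 ∧ p y ≠ 0 ∧ pb hs.ark.ea X ≤ II S (p y) := by
  have yO := h.memO hs.ark hle hy
  have a := (hs.sq_zero yO).2 (h.sq y hy)
  have b := mt (hs.ker yO).1 hn
  refine ⟨a, b, fun x hx => (hs.spin.mem_II a b).2 ?_⟩
  by_cases x0 : ι x = 1
  · rw [hs.ark.ea.eq_one.1 x0]; exact fun _ => by simp
  exact hs.DD_of (h.sing.b2 hx x0) yO (Dg.of_mem hs.ark.ea (hy _ hx x0))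

theorem mul_mem_A (h : S4 π0 X) (hA : Ark π0 ι) (hle : X ≤ hA.ea.sub) (hy : y ∈ YY π0 X) (hn : y ∉ Set.range ι)
    (hy' : y' ∈ YY π0 X) (hn' : y' ∉ Set.range ι) : y * y' ∈ Set.range ι := by
  obtain ⟨p, S, hs⟩ := hA.exists_sp
  obtain ⟨a1, a2, a3⟩ := h.le_II hs hle hy hn
  obtain ⟨b1, b2, b3⟩ := h.le_II hs hle hy' hn'
  have yO := h.memO hA hle hy
  have yO' := h.memO hA hle hy'
  have c := (hs.cm_zero yO yO').2 (h.comm hy hy')
  obtain ⟨k, hk⟩ := hs.spin.odd_inf a1 b1 a2 b2 c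
  have d := Submodule.finrank_mono (le_inf a3 b3)
  rw [h.finrank hA hle] at d
  rw [← hs.ker (mul_mem yO yO'), hs.mul yO yO', add_eq_zero2]
  exact hs.spin.eq_of_II a1 b1 a2 b2 c ((Submodule.eq_of_le_of_finrank_le inf_le_left (by
    rw [hs.spin.finrank_II a1 a2]; omega)).symm.trans (Submodule.eq_of_le_of_finrank_le inf_le_right (by
    rw [hs.spin.finrank_II b1 b2]; omega)))

end S4

/-- the two singular overgroups inside an ark -/
structure One (π0 : C k0 →* G) (X : Subgroup G) (ι : V10 → G) (c a : G) : Prop where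
  ak : Ak π0 ι
  le : ∀ x ∈ X, x ∈ Set.range ι
  c1 : c ∈ Set.range ι
  c2 : B2 π0 c
  c3 : c ∈ YY π0 X
  a1 : a ∈ Set.range ι
  a2 : B2 π0 a
  a3 : a ∈ YY π0 X
  nq : a ∉ QQ π0 c
  cos : ∀ y ∈ Set.range ι, y ∈ YY π0 X → y ∈ X ∨ y * c ∈ X ∨ y * a ∈ X ∨ y * (c * a) ∈ X
  nb : ∀ y, y * (c * a) ∈ X → ¬ B2 π0 y

variable [Finite G]

theorem S4.one (h : S4 π0 X) (hA : Ak π0 ι) (hle : ∀ x ∈ X, x ∈ Set.range ι) (c1 : c ∈ Set.range ι) (c2 : B2 π0 c)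
    (c3 : c ∈ YY π0 X) (c4 : c ∉ X) : ∃ a, One π0 X ι c a := by
  obtain ⟨c, rfl⟩ := c1
  have k := hA.ark
  obtain ⟨a, a1, a2, a3, a4⟩ := o2 (h.sing.Q0 k) (h.finrank k hle) c4 ((h.mem_Y k hle).1 c3) (k.of_b2 c2).2
  refine ⟨ι a, hA, hle, ⟨c, rfl⟩, c2, c3, ⟨a, rfl⟩, k.b2 (by rintro rfl; simp at a2) a1, (h.mem_Y k hle).2 a3,
    by rw [k.perp c2, a2]; exact one_ne_zero, ?_, fun y hy hb => ?_⟩
  · rintro _ ⟨v, rfl⟩ hv
    simp only [← k.ea.add]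
    exact a4 v ((h.mem_Y k hle).1 hv)
  obtain ⟨x, hx⟩ := hle _ hy
  obtain rfl : y = ι (x + (c + a)) := by rw [k.ea.add, hx, ← k.ea.add, mul_assoc, k.ea.mul_self, mul_one]
  have e : x ∈ pb k.ea X := show ι x ∈ X from hx ▸ hy
  have := (k.of_b2 hb).2
  rw [Q_add, Q_add, h.sing.Q0 k x e, (k.of_b2 c2).2, a1, a2, mem_pp.1 (add_mem ((h.mem_Y k hle).1 c3) a3) x e] at this
  exact absurd this (by decide)

namespace One

theorem nq' (h : One π0 X ι c a) : c ∉ QQ π0 a := mt (h.a2.symm h.c2) h.nq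

theorem nX (h : One π0 X ι c a) : a ∉ X := fun e => h.nq (h.a2.symm h.c2 (h.c3 a e h.a2.ne_one))

theorem dg (h : One π0 X ι c a) (hX : S4 π0 X) (hy : y ∈ YY π0 X) (hn : y ∉ Set.range ι) :
    Dg π0 ι c y ∨ Dg π0 ι a y := by
  obtain ⟨p, S, hs⟩ := h.ak.ark.exists_sp
  obtain ⟨a1, a2, a3⟩ := hX.le_II hs h.le hy hn
  obtain ⟨v, v1, v2⟩ := SetLike.not_le_iff_exists.1 fun e : II S (p y) ≤ pb hs.ark.ea X => by
    have := Submodule.finrank_mono e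
    rw [hs.spin.finrank_II a1 a2, hX.finrank hs.ark h.le] at this
    omega
  have k : ∀ {c}, c ∈ Set.range ι → B2 π0 c → ι v * c ∈ X → Dg π0 ι c y := by
    rintro _ ⟨c, rfl⟩ b e
    rw [← hs.ark.ea.add] at e
    exact (hs.mem_DD b (hX.memO hs.ark h.le hy)).1 (hs.spin.DD_of_II a1 ((Submodule.add_mem_iff_right _ v1).1 (a3 e)))
  rcases h.cos _ ⟨v, rfl⟩ ((hX.mem_Y hs.ark h.le).2 (mem_pp.2 fun x hx =>
    polar_of_sing (hs.spin.II_sing a1) _ (a3 hx) _ v1)) with e | e | e | e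
  exacts [absurd e v2, Or.inl (k h.c1 h.c2 e), Or.inr (k h.a1 h.a2 e), absurd
    (hs.ark.b2 (by rintro rfl; exact v2 (zero_mem _)) (hs.spin.II_sing a1 v v1)) (h.nb _ e)]

theorem uniq (h : One π0 X ι c a) (h' : Ak π0 ι') (h1 : c ∈ Set.range ι') (h2 : a ∈ Set.range ι') :
    Set.range ι = Set.range ι' :=
  h.ak.ark.uniq h'.ark h.c2 h.c1 h1 (let ⟨x, e⟩ := h.a1; e ▸ h.ak.ark.dg_self _ x)
    (let ⟨x, e⟩ := h2; e ▸ h'.ark.dg_self _ x) h.nq h.a2.sq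

theorem mul_dg (h : One π0 X ι c a) {s g : G} (s1 : s ∈ Set.range ι) (s2 : B2 π0 s) (h1 : Dg π0 ι s g)
    (h2 : g ∉ QQ π0 s) (h3 : b ∈ Set.range ι) (h4 : b ∉ QQ π0 s) : g * b ∈ QQ π0 s := by
  obtain ⟨s, rfl⟩ := s1
  obtain ⟨b, rfl⟩ := h3
  exact h.ak.ark.mul_mem_dg s2 h1 h2 (h.ak.ark.dg_self _ _) h4 (h.ak.ark.memO _)

end One

/-- three arks -/
structure Tab (π0 : C k0 →* G) (X : Subgroup G) (c : G) (ι : Fin 3 → V10 → G) (a : Fin 3 → G) : Prop where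
  s4 : S4 π0 X
  one : ∀ i, One π0 X (ι i) c (a i)
  ne : ∀ i j, i ≠ j → Set.range (ι i) ≠ Set.range (ι j)

namespace Tab

variable {ι : Fin 3 → V10 → G} {a : Fin 3 → G} {i j k : Fin 3}

omit [Finite G] in
theorem third (h : i ≠ j) : ∃ k, k ≠ i ∧ k ≠ j := by revert i j; decide

theorem n1 (h : Tab π0 X c ι a) (hij : i ≠ j) : a j ∉ Set.range (ι i) := fun e =>
  h.ne j i hij.symm ((h.one j).uniq (h.one i).ak (h.one i).c1 e)

theorem n1' (h : Tab π0 X c ι a) (hij : i ≠ j) : a j * c ∉ Set.range (ι i) := fun e =>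
  h.n1 hij ((mul_mem_cancel_right (H := (h.one i).ak.ark.ea.sub) (h.one i).c1).1 e)

theorem n2 (h : Tab π0 X c ι a) (hij : i ≠ j) : a j ∉ QQ π0 (a i) := fun e => by
  obtain ⟨x, hx⟩ := (h.one i).a1
  have e2 := h.s4.sq _ (mul_mem (h.one j).a3 (h.one j).c3)
  exact (((h.one i).ak.ark.at' (hx ▸ (h.one i).a2)).two c (h.one i).c1 (hx ▸ (h.one i).nq') _ (hx ▸ e) e2).elim
    (h.n1' hij) ((h.one j).nb _ (by rw [← h.s4.comm (h.one j).a3 (h.one j).c3, e2]; exact one_mem _))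

theorem cQ (h : Tab π0 X c ι a) {x : G} (hx : x ∈ X) : x ∈ QQ π0 c := by
  by_cases e : x = 1
  exacts [e ▸ one_mem _, (h.s4.sing.b2 hx e).symm (h.one 0).c2 ((h.one 0).c3 x hx e)]

theorem aQ (h : Tab π0 X c ι a) {x : G} (hx : x ∈ X) : x ∈ QQ π0 (a i) := by
  by_cases e : x = 1
  exacts [e ▸ one_mem _, (h.s4.sing.b2 hx e).symm (h.one i).a2 ((h.one i).a3 x hx e)]

theorem n3 (h : Tab π0 X c ι a) (hij : i ≠ j) (hik : i ≠ k) (hjk : j ≠ k) :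
    a k * a j * a i ∈ X ∨ a k * a j * (c * a i) ∈ X := by
  have k1 : ∀ x ∈ (h.one j).ak.ark.ea.sub, a k * a j * x ∉ X := fun x hx e =>
    h.n1 hjk ((mul_mem_cancel_right (H := (h.one j).ak.ark.ea.sub) (mul_mem (h.one j).a1 hx)).1
      (mul_assoc (a k) _ _ ▸ (h.one j).le _ e))
  exact (((h.one i).cos _ (h.s4.mul_mem_A (h.one i).ak.ark (h.one i).le (h.one k).a3 (h.n1 hik) (h.one j).a3 (h.n1 hij))
    (mul_mem (h.one k).a3 (h.one j).a3)).resolve_left fun e => k1 1 (one_mem _) (by rwa [mul_one])).resolve_left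
      (k1 c (h.one j).c1)

theorem n4 (h : Tab π0 X c ι a) (hij : i ≠ j) : a j * c ∈ QQ π0 (a i) := by
  obtain ⟨k, k1, k2⟩ := third hij
  refine (h.one i).mul_dg (h.one i).a1 (h.one i).a2 (((h.one i).dg h.s4 (h.one j).a3 (h.n1 hij)).resolve_left fun e => ?_)
    (h.n2 hij) (h.one i).c1 (h.one i).nq'
  have := (h.one i).mul_dg (h.one i).c1 (h.one i).c2 e (h.one j).nq (h.one i).a1 (h.one i).nq
  rcases h.n3 hij k1.symm k2.symm with d | d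
  · exact (h.one k).nq ((mul_mem_cancel_right this).1 (mul_assoc (a k) _ _ ▸ h.cQ d))
  · rw [h.s4.comm (h.one i).c3 (h.one i).a3, ← mul_assoc] at d
    exact (h.one k).nq ((mul_mem_cancel_right this).1
      (mul_assoc (a k) _ _ ▸ (mul_mem_cancel_right (h.one i).c2.mem).1 (h.cQ d)))

theorem n5 (h : Tab π0 X c ι a) (hij : i ≠ j) (hik : i ≠ k) (hjk : j ≠ k) : a k * (a j * a i) ∈ X :=
  mul_assoc (a k) _ _ ▸ (h.n3 hij hik hjk).resolve_right fun e => h.n2 hik ((mul_mem_cancel_right (h.n4 hij)).1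
    ((mul_mem_cancel_right (h.one i).a2.mem).1 (by simpa only [mul_assoc] using h.aQ e)))

theorem full (h : Tab π0 X c ι a) (hy : y ∈ YY π0 X) :
    y ∈ X ∨ y * c ∈ X ∨ ∃ i, y * a i ∈ X ∨ y * (c * a i) ∈ X := by
  have Y := fun i => (h.one i).a3
  have c3 := (h.one 0).c3
  by_cases e : y ∈ Set.range (ι 0)
  · exact ((h.one 0).cos y e hy).imp_right (Or.imp_right fun d => ⟨0, d⟩)
  have n := h.n5 (i := 0) (j := 1) (k := 2) (by decide) (by decide) (by decide)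
  refine Or.inr (Or.inr ?_)
  rcases (h.one 0).cos _ (h.s4.mul_mem_A (h.one 0).ak.ark (h.one 0).le hy e (Y 1) (h.n1 (by decide)))
    (mul_mem hy (Y 1)) with d | d | d | d
  · exact ⟨1, Or.inl d⟩
  · exact ⟨1, Or.inr (by rwa [← h.s4.comm (Y 1) c3, ← mul_assoc])⟩
  · exact ⟨2, Or.inl (h.s4.can (Y 2) (mul_mem (Y 1) (Y 0)) (mul_assoc y _ _ ▸ d) n)⟩
  · refine ⟨2, Or.inr (mul_assoc y _ _ ▸ h.s4.can (Y 2) (mul_mem (Y 1) (Y 0)) ?_ n)⟩
    rwa [mul_assoc, ← mul_assoc c, ← h.s4.comm (Y 1) c3, mul_assoc, ← mul_assoc]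

theorem table (h : Tab π0 X c ι a) (hy : y ∈ YY π0 X) (hb : B2 π0 y) : y ∈ X ∨ y * c ∈ X ∨ ∃ i, y * a i ∈ X :=
  (h.full hy).imp_right (Or.imp_right fun ⟨i, e⟩ => ⟨i, e.resolve_right fun d => (h.one i).nb y d hb⟩)

theorem inf_c (h : Tab π0 X c ι a) (hy : y ∈ YY π0 X) (hc : y ∈ QQ π0 c) : y ∈ X ∨ y * c ∈ X := by
  rcases h.full hy with e | e | ⟨i, e | e⟩
  exacts [Or.inl e, Or.inr e, absurd ((mul_mem_cancel_left hc).1 (h.cQ e)) (h.one i).nq,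
    absurd ((mul_mem_cancel_left (h.one i).c2.mem).1 ((mul_mem_cancel_left hc).1 (h.cQ e))) (h.one i).nq]

theorem t2 (h : Tab π0 X c ι a) (hc : c ∉ X) {n : G} (hn : n ∈ normalizer X) : n * c * n⁻¹ * c ∈ X := by
  have c1 := YY_conj hn (h.one 0).c3
  have c2 := (h.one 0).c2.conj n
  refine (((h.table c1 c2).resolve_left fun e => hc ((hn c).2 e)).resolve_right fun ⟨i, e⟩ => ?_)
  obtain ⟨j, hj⟩ := exists_ne i
  have y1 := mul_mem (h.one j).a3 (h.one j).c3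
  have y2 := h.s4.tr (h.one i).a2 (h.one i).a3 (h.one i).nX e y1 (h.n4 hj.symm)
  have := h.inf_c (YY_conj (inv_mem hn) y1) ((conj_mem_QQ_iff n).1 (by simpa [mul_assoc] using y2))
  refine h.n1' hj.symm (this.elim (fun d => (h.one i).le _ (by simpa [mul_assoc] using (hn _).1 d)) fun d => ?_)
  have d2 : a j * c * (n * c * n⁻¹) ∈ X := by simpa [mul_assoc] using (hn _).1 d
  exact (mul_mem_cancel_right (H := (h.one i).ak.ark.ea.sub) (h.one i).a1).1 ((h.one i).le _ (by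
    have := mul_mem d2 e
    rwa [mul_assoc, ← mul_assoc (n * c * n⁻¹), h.s4.sq _ c1, one_mul] at this))

theorem t3 (h : Tab π0 X c ι a) (hA : Ak π0 ι') (h1 : ∀ x ∈ X, x ∈ Set.range ι') (h2 : a i ∈ Set.range ι') :
    Set.range ι' = Set.range (ι i) := by
  obtain ⟨b, o⟩ := h.s4.one hA h1 h2 (h.one i).a2 (h.one i).a3 (h.one i).nX
  refine o.uniq (h.one i).ak (h.one i).a1 ?_
  rcases h.table o.a3 o.a2 with e | e | ⟨j, e⟩
  · exact (h.one i).le _ e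
  · exact (mul_mem_cancel_right (H := (h.one i).ak.ark.ea.sub) (h.one i).c1).1 ((h.one i).le _ e)
  by_cases hij : i = j
  · exact (mul_mem_cancel_right (H := (h.one i).ak.ark.ea.sub) (h.one i).a1).1 ((h.one i).le _ (hij ▸ e))
  obtain ⟨k, k1, k2⟩ := third hij
  refine absurd (h.one k).a2 (o.nb _ (mul_assoc (a k) _ _ ▸ h.s4.can o.a3 (h.one j).a3 ?_ e))
  exact mul_assoc (a k) _ _ ▸ h.n5 (Ne.symm hij) k2.symm k1.symm

theorem t1 (h : Tab π0 X c ι a) (hU : Sing π0 U) (hle : X ≤ U) : U = X ∨ (∀ y, y ∈ U ↔ y ∈ X ∨ y * c ∈ X) ∨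
    ∃ i, a i ∈ U ∧ ∀ y ∈ U, y ∈ Set.range (ι i) := by
  have k : ∀ y ∈ U, y ∈ X ∨ y * c ∈ X ∨ ∃ i, y * a i ∈ X := fun y hy =>
    (hU y hy).elim (fun e => Or.inl (e ▸ one_mem _)) fun e => h.table (fun x a b => hU.mem (hle a) b hy) e.1
  have k2 : ∀ {y b}, y ∈ U → y * b ∈ X → b ∈ U := fun a e => (mul_mem_cancel_left a).1 (hle e)
  by_cases e1 : c ∈ U
  · exact Or.inr (Or.inl fun y => ⟨fun hy => (k y hy).imp_right fun d => d.resolve_right fun ⟨i, d⟩ =>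
      (h.one i).nq (hU.mem e1 (h.one i).c2.ne_one (k2 hy d)),
      fun d => d.elim (@hle y) fun d => (mul_mem_cancel_right e1).1 (hle d)⟩)
  by_cases e2 : ∃ i, a i ∈ U
  · obtain ⟨i, e2⟩ := e2
    refine Or.inr (Or.inr ⟨i, e2, fun y hy => ?_⟩)
    rcases k y hy with d | d | ⟨j, d⟩
    · exact (h.one i).le _ d
    · exact absurd (k2 hy d) e1
    by_cases hij : i = j
    · exact (mul_mem_cancel_right (H := (h.one i).ak.ark.ea.sub) (h.one i).a1).1 ((h.one i).le _ (hij ▸ d))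
    · exact absurd (hU.mem e2 (h.one i).a2.ne_one (k2 hy d)) (h.n2 hij)
  exact Or.inl (le_antisymm (fun y hy => ((k y hy).resolve_right fun d =>
    d.elim (fun d => e1 (k2 hy d)) fun ⟨i, d⟩ => e2 ⟨i, k2 hy d⟩)) hle)

end Tab

/-- the subgroup attached to a subspace -/
def sb (h : EA ι) (W : Submodule F2 V10) : Subgroup G where
  carrier := ι '' W
  one_mem' := ⟨0, zero_mem _, h.zero⟩
  mul_mem' := by rintro _ _ ⟨a, ha, rfl⟩ ⟨b, hb, rfl⟩; exact ⟨_, add_mem ha hb, h.add a b⟩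
  inv_mem' := by rintro _ ⟨a, ha, rfl⟩; exact ⟨a, ha, (inv_eq_of_mul_eq_one_right (h.mul_self a)).symm⟩

theorem Ark.s4 (h : Ark π0 ι) : S4 π0 (sb h.ea (Es 4)) := by
  refine ⟨?_, ?_⟩
  · rintro _ ⟨x, hx, rfl⟩
    refine or_iff_not_imp_left.2 fun e => ?_
    have b := h.b2 (mt h.ea.eq_one.2 e) (Es_sing hx)
    exact ⟨b, fun _ ⟨y, hy, d⟩ => d ▸ (h.perp b y).2 (polar_of_sing (fun _ => Es_sing) x hx y hy)⟩
  · have := card_pb h.ea (sb h.ea (Es 4))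
    rwa [inf_eq_left.2 fun _ ⟨x, _, e⟩ => ⟨x, e⟩, show pb h.ea (sb h.ea (Es 4)) = Es 4 from
      Submodule.ext fun x => h.ea.inj.mem_set_image, finrank_Es (by omega)] at this

theorem Frm.tab (h : Frm π0 π τ) : ∃ ι a, Tab π0 (sb h.ark.ea (Es 4)) (π (i0 (Pi.single (.inl 4) 1))) ι a := by
  choose ι hι using fun i => h.oa (tr_oct i)
  have k : ∀ i, Es 5 ≤ pb h.ark.ea (hι i).ak.ark.ea.sub := fun i => Es_le fun j _ => by
    change π (i0 _) ∈ Set.range (ι i)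
    rcases j.eq_zero_or_eq_succ with rfl | ⟨j, rfl⟩
    · exact i0_e ▸ (hι i).z
    rcases j.eq_zero_or_eq_succ with rfl | ⟨j, rfl⟩
    · exact i0_e1 ▸ (hι i).w
    rw [i0_e2, ← ls_tt i]
    exact (hι i).tet ((tt_spec j).2.2 i) (by revert i j; decide +kernel)
  have e4 : Pi.single (.inl 4) 1 ∈ Es 5 := single_mem_Es (by decide)
  have b := h.ark.b2 (by decide) (Es_sing e4)
  choose a ha using fun i => h.ark.s4.one (hι i).ak (fun _ ⟨x, hx, e⟩ => e ▸ k i (Es_mono (by omega) hx)) (k i e4) b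
    (by
      rintro _ ⟨x, hx, rfl⟩ d
      exact (h.ark.perp (h.ark.s4.sing.b2 ⟨x, hx, rfl⟩ d) _).2
        (polar_of_sing (fun _ => Es_sing) x (Es_mono (by omega) hx) _ e4))
    fun d => absurd ((h.ark.ea.inj.mem_set_image.1 d).2 4 le_rfl) (by decide)
  exact ⟨ι, a, h.ark.s4, ha, fun i j hij => (hι i).ne (hι j) (tr_oct i) (tr_oct j) (tr_injective.ne hij)⟩

theorem mem_Es5 (h : EA ι) : y ∈ ι '' Es 5 ↔ y ∈ sb h (Es 4) ∨ y * ι (Pi.single (.inl 4) 1) ∈ sb h (Es 4) := by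
  have k : ∀ x : V10, x ∈ Es 5 ↔ x ∈ Es 4 ∨ x + Pi.single (.inl 4) 1 ∈ Es 4 := fun x => by
    refine ⟨fun e => (z2_cases (x (.inl 4))).imp (fun d => ⟨e.1, fun i hi => ?_⟩) fun d => ⟨fun i => by simp [e.1 i],
      fun i hi => ?_⟩, fun e => e.elim (Es_mono (by omega) ·) fun d => (Submodule.add_mem_iff_left _
        (single_mem_Es (i := 4) (by decide))).1 (Es_mono (by omega) d)⟩ <;> obtain rfl : i = 4 := by omega
    exacts [d, by simp [d, z2_add_self]]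
  refine ⟨?_, ?_⟩
  · rintro ⟨x, hx, rfl⟩
    exact ((k x).1 hx).imp (fun e => ⟨x, e, rfl⟩) fun e => ⟨_, e, h.add _ _⟩
  · rintro (⟨x, hx, rfl⟩ | ⟨x, hx, e⟩)
    · exact ⟨x, Es_mono (by omega) hx, rfl⟩
    · exact ⟨x + Pi.single (.inl 4) 1, add_mem (Es_mono (by omega) hx) (single_mem_Es (by decide)), by
        rw [h.add, e, mul_assoc, h.mul_self, mul_one]⟩

theorem sing_main (hU : Sing π0 U) (h0 : U ≠ ⊥) : ∃ ι, Ak π0 ι ∧ ∃ W ∈ [Es 1, Es 2, Es 3, Es 5, ⊤],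
    normalizer U ≤ normalizer (ι '' W) := by
  obtain ⟨ι, hA, ⟨k, k1, k2, e⟩ | e⟩ := sing_cases hU h0
  · exact ⟨ι, hA, Es k, by interval_cases k <;> simp, e ▸ le_rfl⟩
  obtain ⟨π, τ, h, rfl⟩ := id hA
  obtain ⟨κ, a, t⟩ := h.tab
  have hle : sb h.ark.ea (Es 4) ≤ U := fun _ ⟨x, hx, d⟩ => d ▸ e x hx
  rcases t.t1 hU hle with rfl | d | ⟨i, d1, d2⟩
  · refine ⟨_, hA, Es 5, by simp, fun n hn => mem_normalizer_fintype fun y hy => (mem_Es5 h.ark.ea).2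
      (((mem_Es5 h.ark.ea).1 hy).imp (hn y).1 fun d => ?_)⟩
    have := mul_mem ((hn _).1 d) (t.t2 (fun d => absurd ((h.ark.ea.inj.mem_set_image.1 d).2 4 le_rfl) (by decide)) hn)
    rwa [← mul_assoc, conj_mul, mul_assoc y, h.ark.ea.mul_self, mul_one] at this
  · exact ⟨_, hA, Es 5, by simp, (Set.ext fun y => (d y).trans (mem_Es5 h.ark.ea).symm : (U : Set G) = _) ▸ le_rfl⟩
  refine ⟨_, (t.one i).ak, ⊤, by simp, fun n hn => mem_normalizer_fintype ?_⟩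
  rintro _ ⟨x, -, rfl⟩
  have k : ∀ y ∈ U, y ∈ Set.range fun x => n * κ i x * n⁻¹ := fun y hy =>
    let ⟨x, e⟩ := d2 _ ((mem_normalizer_iff''.1 hn y).1 hy); ⟨x, by simp [e, mul_assoc]⟩
  obtain ⟨x', e⟩ : n * κ i x * n⁻¹ ∈ Set.range (κ i) :=
    t.t3 ((t.one i).ak.conj n) (fun y hy => k y (hle hy)) (k _ d1) ▸ ⟨x, rfl⟩
  exact ⟨x', trivial, e⟩

theorem caseB {Z : Subgroup G} (hZ : ∀ x ∈ Z, x * x = 1) (hF : Fix Z) (h : ∃ s ∈ Z, B2 π0 s) :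
    ∃ ι, Ak π0 ι ∧ ∃ W ∈ [Es 1, Es 2, Es 3, Es 5, ⊤], normalizer Z ≤ normalizer (ι '' W) := by
  by_cases e : ∀ s, MZ π0 Z s → ∀ t, MZ π0 Z t → t ∈ QQ π0 s
  · have k := fun x => sing_closure (S := {s | MZ π0 Z s}) (x := x) (fun s a => a.2.1) e
    obtain ⟨s, hs⟩ := exists_MZ h
    obtain ⟨ι, a, W, b, c⟩ := sing_main (π0 := π0) (U := closure {s | MZ π0 Z s})
      (fun x hx => (k x hx).2.imp_right fun d => ⟨d.1, fun y hy => d.2 y (k y hy).1⟩)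
      fun d => hs.2.1.ne_one (mem_bot.1 (d ▸ subset_closure hs))
    exact ⟨ι, a, W, b, (le_normalizer_closure_iff.2 fun n hn s hs => subset_closure (MZ.conj hs hn)).trans c⟩
  push Not at e
  obtain ⟨s, hs, t, ht, e⟩ := e
  obtain ⟨ι, a, b⟩ := nonperp hZ hF hs ht e
  exact ⟨ι, a, ⊤, by simp, by simpa using b⟩

end CfsgLib.Mon.Mx
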