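import Mathlib
import Cfsg.Agent.Lib.Mon.MxG

/-!
The maximal `2`-local subgroups of the Monster.
-/

set_option autoImplicit false

namespace CfsgLib.Mon.Mx

open Cfsg CfsgLib.Leech CfsgLib.MType CfsgLib.OrthE CfsgLib.Golay Subgroup QuadraticMap Module
open scoped commutatorElement Pointwise

local notation "F2" => ZMod 2

variable {G : Type*} [Group G] {π0 π : C k0 →* G} {τ τ0 : G} {Z : Subgroup G}

/-- the group generated by two commuting involutions -/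
def V4 {H : Type*} [Group H] {a b : H} (ha : a * a = 1) (hb : b * b = 1) (hc : b * a = a * b) : Subgroup H where
  carrier := {1, a, b, a * b}
  one_mem' := Or.inl rfl
  mul_mem' := by
    have h1 : ∀ x, a * (a * x) = x := fun x => by rw [← mul_assoc, ha, one_mul]
    have h2 : ∀ x, b * (a * x) = a * (b * x) := fun x => by rw [← mul_assoc, hc, mul_assoc]
    rintro _ _ (rfl | rfl | rfl | rfl) (rfl | rfl | rfl | rfl) <;> simp [*, mul_assoc]
  inv_mem' := by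
    rintro _ (rfl | rfl | rfl | rfl) <;> simp [inv_eq_of_mul_eq_one_right ha, inv_eq_of_mul_eq_one_right hb, hc]

/-- a second short involution -/
noncomputable def t1 : C k0 := q k0 0 (k0.φ (dlL none (some 1)))

theorem short_sq {p r : GolayPt} : q k0 0 (k0.φ (dlL p r)) * q k0 0 (k0.φ (dlL p r)) = 1 :=
  q_mul_self_eq_one.2 (bet_of_fst (std_k0 _ fun i => by rw [dlL_apply]; split_ifs <;> rfl) _)

theorem tK_sq : tK * tK = 1 := tK_eq ▸ short_sq

theorem t1_comm : t1 * tK = tK * t1 := by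
  rw [tK_eq, t1, q_comm_iff]
  exact MonRec.om_fst (std_k0 _ fun i => by rw [dlL_apply]; split_ifs <;> rfl)
    (std_k0 _ fun i => by rw [dlL_apply]; split_ifs <;> rfl)

variable [Finite G]

theorem caseA (h : Frm π0 π0 τ0) (hZ : ∀ x ∈ Z, x * x = 1) (h0 : Z ≠ ⊥) (hn : ∀ s ∈ Z, ¬ B2 π0 s) :
    ∃ π τ, Frm π0 π τ ∧ (Z = (V4 tK_sq tK_sq rfl).map π ∨ Z = (V4 tK_sq short_sq t1_comm).map π) := by
  obtain ⟨⟨a, ha⟩, a1⟩ := ne_bot_iff_exists_ne_one.1 h0
  have a1 : a ≠ 1 := fun e => a1 (Subtype.ext e)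
  have hE := fun f hf => And.intro (hZ f hf) (mt h.b2_iff.2 (hn f hf))
  obtain ⟨π, τ, k1, k2, k3, k4, k5⟩ := MonRec.exists_y h.ms (MonRec.two_of_ms h.ms) hE ha a1
  obtain ⟨y, y1, y2, y3⟩ := MonRec.exists_all k1 k2 (fun f hf => ⟨hZ f hf, mt (k5 f).2 (hE f hf).2⟩) (k3 ▸ ha) k4
  simp only [← k5, ← h.b2_iff] at y1 y3
  obtain ⟨π, τ, h', rfl⟩ := y1
  have k : ∀ f ∈ Z, f ≠ 1 → ∃ e w, MonRec.Sv k0 w ∧ f = π (q k0 e w) := fun f hf f1 =>
    MonRec.exists_sv h'.ms (MonRec.two_of_ms h'.ms) (hZ f hf) f1 (mt h'.b2_iff.2 (hn f hf)) (y2 f hf)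
      (mt h'.b2_iff.2 (y3 f hf f1))
  have k' : ∀ {e w}, π (q k0 e w) ∈ Z → π (q k0 e w) ≠ 1 → MonRec.Sv k0 w := fun a b =>
    let ⟨_, _, c, d⟩ := k _ a b; (q_inj (h'.ms.inj d)).2 ▸ c
  by_cases e : ∀ b ∈ Z, b = 1 ∨ b = a
  · obtain ⟨g, rfl⟩ := isConj_iff.1 (((MonRec.two_of_ms h.ms a (hZ a ha)).resolve_left a1).resolve_right (hE a ha).2)
    obtain ⟨π', τ', h', e'⟩ := h.conj g
    rw [← e'] at e ha
    refine ⟨π', τ', h', Or.inl (le_antisymm (fun b hb => ?_) ?_)⟩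
    · rcases e b hb with rfl | rfl
      exacts [one_mem _, ⟨tK, by simp [V4], rfl⟩]
    · rintro _ ⟨_, rfl | rfl | rfl | rfl, rfl⟩ <;> simp [ha, tK_sq, one_mem]
  push Not at e
  obtain ⟨b, hb, b1, b2⟩ := e
  have ne : ∀ {x y}, x ∈ Z → x ≠ y → x * y ≠ 1 := fun a b c => b (mul_left_cancel ((hZ _ a).trans c.symm))
  have all : ∀ c ∈ Z, c = 1 ∨ c = a ∨ c = b ∨ c = a * b := fun c hc => by
    by_contra! d
    have m1 := ne ha b2.symm
    have m2 := ne ha d.2.1.symm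
    have m3 := ne hb d.2.2.1.symm
    have m4 := ne (mul_mem ha hb) d.2.2.2.symm
    have n1 := mul_mem ha hb
    have n2 := mul_mem ha hc
    have n3 := mul_mem hb hc
    have n4 := mul_mem n1 hc
    obtain ⟨_, _, s1, rfl⟩ := k a ha a1
    obtain ⟨_, _, s2, rfl⟩ := k b hb b1
    obtain ⟨_, _, s3, rfl⟩ := k c hc d.1
    simp only [← map_mul, q_mul] at m1 m2 m3 m4 n1 n2 n3 n4
    exact MonRec.not_three s1 s2 s3 (k' n1 m1) (k' n2 m2) (k' n3 m3) (k' n4 m4)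
  have m1 := ne ha b2.symm
  have n1 := mul_mem ha hb
  obtain ⟨e, _, ⟨u, s1, rfl⟩, rfl⟩ := k a ha a1
  obtain ⟨f, _, s2, rfl⟩ := k b hb b1
  rw [← map_mul, q_mul] at m1 n1
  obtain ⟨v, s3, rfl, s4⟩ := MonRec.exists_dot s1 s2 (k' n1 m1)
  obtain ⟨c, c1, c2⟩ := conj_pair (κ := k0) sqNorm_tK (sqNorm_dlL (p := none) (r := some 1) (by decide)) s1 s3
    (Eq.trans (by decide +kernel) s4.symm) (k' n1 m1).ne 0 0 e f
  obtain ⟨π', τ', h'', e'⟩ := h'.conj (π c)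
  have d1 : π' tK = π (q k0 e (k0.φ u)) := by rw [e', ← c1, tK_eq, map_mul, map_mul, map_inv]
  have d2 : π' t1 = π (q k0 f (k0.φ v)) := by rw [e', ← c2, t1, map_mul, map_mul, map_inv]
  rw [← d1] at ha all
  rw [← d2] at hb all
  refine ⟨π', τ', h'', Or.inr (le_antisymm (fun x hx => ?_) ?_)⟩
  · rcases all x hx with rfl | rfl | rfl | rfl
    exacts [one_mem _, ⟨tK, .inr (.inl rfl), rfl⟩, ⟨t1, .inr (.inr (.inl rfl)), rfl⟩,
      ⟨tK * t1, .inr (.inr (.inr rfl)), map_mul _ _ _⟩]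
  · rintro _ ⟨_, rfl | rfl | rfl | rfl, rfl⟩
    exacts [map_one π' ▸ one_mem _, ha, hb, map_mul π' _ _ ▸ mul_mem ha hb]

theorem max_two_local (k : MS π0 τ0) : ∃ S : Finset (Subgroup G), S.card = 7 ∧ (∀ H ∈ S, IsTwoLocal H) ∧
    ∀ H : Subgroup G, IsMaximalTwoLocal H → ∃ H₀ ∈ S, ∃ g : G, H = H₀.map (MulAut.conj g).toMonoidHom := by
  classical
  have h : Frm π0 π0 τ0 := ⟨k, 1, by simp⟩
  have ea := h.mm.ea_i0
  let L : List (Subgroup (C k0)) := V4 tK_sq tK_sq rfl :: V4 tK_sq short_sq t1_comm ::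
    [Es 1, Es 2, Es 3, Es 5, ⊤].map (sb ea)
  have l1 : ∀ T ∈ L, (∀ x ∈ T, x * x = 1) ∧ ∃ x ∈ T, x ≠ 1 := fun T hT => by
    have t0 : tK ≠ 1 := fun e => φ_ne_zero (κ := k0) (u := dlL none (some 0)) (by rw [sqNorm_tK]; omega)
      (by rw [sqNorm_tK]; omega) (q_inj ((tK_eq.symm.trans e).trans q_zero.symm)).2
    rcases List.mem_cons.1 hT with rfl | hT
    · exact ⟨by rintro _ (rfl | rfl | rfl | rfl) <;> simp [tK_sq], tK, by simp [V4], t0⟩
    rcases List.mem_cons.1 hT with rfl | hT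
    · refine ⟨?_, tK, .inr (.inl rfl), t0⟩
      rintro _ (rfl | rfl | rfl | rfl)
      exacts [mul_one _, tK_sq, short_sq, by
        rw [mul_assoc, ← mul_assoc _ tK, show q k0 0 _ * tK = tK * _ from t1_comm, mul_assoc, t1, short_sq, mul_one,
          tK_sq]]
    obtain ⟨W, hW, rfl⟩ := List.mem_map.1 hT
    refine ⟨by rintro _ ⟨x, -, rfl⟩; exact ea.mul_self x, _, ⟨e10, ?_, rfl⟩, mt ea.eq_one.1 (by decide)⟩
    simp only [List.mem_cons, List.not_mem_nil, or_false] at hW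
    rcases hW with rfl | rfl | rfl | rfl | rfl
    exacts [single_mem_Es (by decide), single_mem_Es (by decide), single_mem_Es (by decide),
      single_mem_Es (by decide), trivial]
  have l2 : ∀ π τ, Frm π0 π τ → ∀ T ∈ L, IsTwoLocal (normalizer (T.map π : Set G)) := fun π τ h T hT =>
    ⟨_, (pg_of_sq (l1 T hT).1).map π, fun e => let ⟨x, a, b⟩ := (l1 T hT).2; b (h.ms.inj
      ((mem_bot.1 (e ▸ mem_map_of_mem π a)).trans (map_one π).symm)), rfl⟩
  have b : ∀ j : Fin 5, B2 π0 (π0 (i0 (Pi.single (.inl j) 1))) ∧ B2 π0 (π0 (i0 (Pi.single (.inr j) 1))) := fun j =>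
    ⟨h.ark.b2 (hyp_qPlus j).e_ne (hyp_qPlus j).he, h.ark.b2 (hyp_qPlus j).f_ne (hyp_qPlus j).hf⟩
  have b' : ∀ j, B2 π0 (π0 (i0 (Pi.single j 1))) := fun j => by rcases j with j | j; exacts [(b j).1, (b j).2]
  let f := fun j : Fin 5 ⊕ Fin 5 => normalizer (zpowers (π0 (i0 (Pi.single j 1))) : Set G)
  have f1 : Function.Injective f := fun i j e => by
    have := ((b' i).cent (x := π0 (i0 (Pi.single j 1))) fun y hy => by
      have : y ∈ f j := e ▸ mem_normalizer_fintype fun x hx => by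
        rcases (mem_zp (b' i).sq).1 hx with rfl | rfl
        exacts [by simp, (conj_comm ((b' i).comm hy)).symm ▸ hx]
      exact mul_inv_eq_iff_eq_mul.1 (((mem_zp (b' j).sq).1 ((this _).1 (mem_zpowers _))).resolve_left
        ((b' j).conj y).ne_one)).resolve_left (b' j).ne_one
    exact by_contra fun d => by simpa [d] using congrFun (h.ark.ea.inj this) i
  obtain ⟨S, s1, s2, s3⟩ := Finset.exists_subsuperset_card_eq (n := 7) (Finset.subset_union_left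
    (s₁ := (L.map fun T => normalizer (T.map π0 : Set G)).toFinset) (s₂ := Finset.univ.image f))
    ((List.toFinset_card_le _).trans (by simp [L])) (le_trans (by rw [Finset.card_image_of_injective _ f1]; simp)
      (Finset.card_le_card Finset.subset_union_right))
  refine ⟨S, s3, fun H hH => ?_, fun H hH => ?_⟩
  · rcases Finset.mem_union.1 (s2 hH) with e | e
    · obtain ⟨T, a, rfl⟩ := List.mem_map.1 (List.mem_toFinset.1 e)
      exact l2 _ _ h T a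
    · obtain ⟨j, -, rfl⟩ := Finset.mem_image.1 e
      exact ⟨_, pg_of_sq fun x hx => ((mem_zp (b' j).sq).1 hx).elim (by simp +contextual) (· ▸ (b' j).sq),
        mt zpowers_eq_bot.1 (b' j).ne_one, rfl⟩
  obtain ⟨π, τ, h', T, t1, t2⟩ : ∃ π τ, Frm π0 π τ ∧ ∃ T ∈ L, H ≤ normalizer (T.map π : Set G) := by
    obtain ⟨Z, z1, z2, z3, z4⟩ := exists_Z (π0 := π0) hH
    by_cases e : ∃ s ∈ Z, B2 π0 s
    · obtain ⟨_, ⟨π, τ, h', rfl⟩, W, a, c⟩ := caseB z1 (z4 e) e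
      refine ⟨π, τ, h', sb ea W, List.mem_cons_of_mem _ (List.mem_cons_of_mem _ (List.mem_map_of_mem a)), ?_⟩
      rw [coe_map, show (sb ea W : Set (C k0)) = i0 '' W from rfl, Set.image_image]
      exact z3.trans c
    push Not at e
    obtain ⟨π, τ, h', rfl | rfl⟩ := caseA h z1 z2 e
    exacts [⟨π, τ, h', _, by simp [L], z3⟩, ⟨π, τ, h', _, by simp [L], z3⟩]
  obtain ⟨g, hg⟩ := h'.cj
  refine ⟨_, s1 (List.mem_toFinset.2 (List.mem_map_of_mem t1)), g, ?_⟩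
  rw [← hH.2 _ (l2 π τ h' T t1) t2, map_equiv_normalizer_eq, map_map]
  congr 3
  exact MonoidHom.ext hg

end CfsgLib.Mon.Mx
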